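import Cfsg.Agent.Lib.Fi23Three.Frame

/-!
# The action of the centraliser of `z` on the coordinates
-/

set_option autoImplicit false
set_option linter.unusedSectionVars false
set_option maxRecDepth 4000
set_option synthInstance.maxSize 2000

namespace Cfsg.Lib.Fi23Three

open Subgroup
open scoped commutatorElement
open Cfsg.Lib.U6Three (zp zp_add zp_zero zp_one zp_inv zp_mem zp_comm zp_eq_one eq_one_of_coprime)

namespace Frame

variable {G : Type*} [Group G] [Finite G] (D : Frame G)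

/-- The map induced on the coordinates. -/
noncomputable def act (g : G) (v : V) : V := D.vec (g * D.el v * g⁻¹)

theorem conj_Zc {g w : G} (hg : Commute g D.z) (hw : w ∈ D.Zc) : g * w * g⁻¹ = w := by
  rw [(D.comm_Zc hg hw).eq, mul_inv_cancel_right]

theorem vec_conj {g q : G} (hg : Commute g D.z) (hq : q ∈ D.Q) : D.vec (g * q * g⁻¹) = D.act g (D.vec q) := by
  obtain ⟨w, hw, e⟩ := D.exists_el hq
  conv_lhs => rw [e, show g * (w * D.el (D.vec q)) * g⁻¹ = g * w * g⁻¹ * (g * D.el (D.vec q) * g⁻¹) by group,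
    D.conj_Zc hg hw, D.vec_mul (D.Zc_le hw) (D.norm_Q g hg _ (D.el_mem _)), D.vec_Zc hw, zero_add]
  rfl

theorem act_add {g : G} (hg : Commute g D.z) (v w : V) : D.act g (v + w) = D.act g v + D.act g w := by
  have h := D.vec_conj hg (D.Q.mul_mem (D.el_mem v) (D.el_mem w))
  rw [D.vec_mul (D.el_mem v) (D.el_mem w), D.vec_el, D.vec_el] at h
  rw [← h, show g * (D.el v * D.el w) * g⁻¹ = g * D.el v * g⁻¹ * (g * D.el w * g⁻¹) by group,
    D.vec_mul (D.norm_Q g hg _ (D.el_mem _)) (D.norm_Q g hg _ (D.el_mem _))]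
  rfl

/-- The additive map induced on the coordinates. -/
noncomputable def actHom {g : G} (hg : Commute g D.z) : V →+ V := AddMonoidHom.mk' (D.act g) (D.act_add hg)

theorem act_zero {g : G} (hg : Commute g D.z) : D.act g 0 = 0 := (D.actHom hg).map_zero

theorem act_neg {g : G} (hg : Commute g D.z) (v : V) : D.act g (-v) = -D.act g v := (D.actHom hg).map_neg v

theorem act_sub {g : G} (hg : Commute g D.z) (v w : V) : D.act g (v - w) = D.act g v - D.act g w :=
  (D.actHom hg).map_sub v w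

theorem act_smul {g : G} (hg : Commute g D.z) (c : ZMod 3) (v : V) : D.act g (c • v) = c • D.act g v :=
  ZMod.map_smul (D.actHom hg) c v

theorem act_mul {g h : G} (hg : Commute g D.z) (hh : Commute h D.z) (v : V) :
    D.act (g * h) v = D.act g (D.act h v) := by
  show _ = D.act g (D.vec (h * D.el v * h⁻¹))
  rw [← D.vec_conj hg (D.norm_Q h hh _ (D.el_mem v)), act]
  congr 1
  group

theorem act_Q {g : G} (hg : g ∈ D.Q) (v : V) : D.act g v = v := by
  rw [act, D.vec_mul (mul_mem hg (D.el_mem v)) (inv_mem hg), D.vec_mul hg (D.el_mem v), D.vec_inv hg, D.vec_el]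
  abel

theorem act_one (v : V) : D.act 1 v = v := D.act_Q D.Q.one_mem v

theorem act_inv_cancel {g : G} (hg : Commute g D.z) (v : V) : D.act g⁻¹ (D.act g v) = v := by
  rw [← D.act_mul hg.inv_left hg, inv_mul_cancel, D.act_one]

theorem act_cancel_inv {g : G} (hg : Commute g D.z) (v : V) : D.act g (D.act g⁻¹ v) = v := by
  rw [← D.act_mul hg hg.inv_left, mul_inv_cancel, D.act_one]

theorem act_injective {g : G} (hg : Commute g D.z) : Function.Injective (D.act g) :=
  Function.LeftInverse.injective (D.act_inv_cancel hg)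

theorem act_surjective {g : G} (hg : Commute g D.z) : Function.Surjective (D.act g) :=
  Function.RightInverse.surjective (D.act_cancel_inv hg)

theorem act_form {g : G} (hg : Commute g D.z) (v w : V) : ω (D.act g v) (D.act g w) = ω v w := by
  refine D.zp_z_inj ?_
  show zp D.z (ω (D.vec (g * D.el v * g⁻¹)) (D.vec (g * D.el w * g⁻¹))) = _
  rw [← D.form_eq (D.norm_Q g hg _ (D.el_mem _)) (D.norm_Q g hg _ (D.el_mem _)),
    show ⁅g * D.el v * g⁻¹, g * D.el w * g⁻¹⁆ = g * ⁅D.el v, D.el w⁆ * g⁻¹ by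
      simp only [commutatorElement_def]; group,
    D.conj_Zc hg (D.comm_Q _ (D.el_mem _) _ (D.el_mem _)), D.form_eq (D.el_mem _) (D.el_mem _), D.vec_el, D.vec_el]

/-- The commutator with an element of `C(z)` in coordinates. -/
theorem vec_comm {g q : G} (hg : Commute g D.z) (hq : q ∈ D.Q) :
    ⁅g, q⁆ ∈ D.Q ∧ D.vec ⁅g, q⁆ = D.act g (D.vec q) - D.vec q := by
  refine ⟨?_, ?_⟩
  · rw [commutatorElement_def]; exact mul_mem (D.norm_Q g hg q hq) (inv_mem hq)
  · rw [commutatorElement_def, D.vec_mul (D.norm_Q g hg q hq) (inv_mem hq), D.vec_inv hq, D.vec_conj hg hq,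
      sub_eq_add_neg]

/-- An element centralising `Q` modulo the centre lies in `Q`. -/
theorem mem_Q_of_act {g : G} (hg : Commute g D.z) (h : ∀ v, D.act g v = v) : g ∈ D.Q := by
  have hm : ∀ q ∈ D.Q, ⁅g, q⁆ ∈ D.Zc := fun q hq => by
    rw [D.mem_Zc_iff (D.vec_comm hg hq).1, (D.vec_comm hg hq).2, h, sub_self]
  let u : V := fun i => (D.zlog ⁅g, D.b i⁆, -D.zlog ⁅g, D.a i⁆)
  have key : ∀ q ∈ D.Q, ⁅D.el u, q⁆ = ⁅g, q⁆ → Commute ((D.el u)⁻¹ * g) q := by
    intro q _ e
    have e' : D.el u * q * (D.el u)⁻¹ = g * q * g⁻¹ := by rw [Frame.conj_eq, Frame.conj_eq, e]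
    show (D.el u)⁻¹ * g * q = q * ((D.el u)⁻¹ * g)
    calc (D.el u)⁻¹ * g * q = (D.el u)⁻¹ * (g * q * g⁻¹) * g := by group
      _ = q * ((D.el u)⁻¹ * g) := by rw [← e']; group
  have hu : ∀ i, Commute ((D.el u)⁻¹ * g) (D.a i) ∧ Commute ((D.el u)⁻¹ * g) (D.b i) := by
    refine fun i => ⟨key _ (D.ha' i) ?_, key _ (D.hb' i) ?_⟩
    · rw [D.form_eq (D.el_mem u) (D.ha' i), D.vec_el, D.vec_a, ω_single_right,
        D.zlog_spec (hm _ (D.ha' i))]
      simp [u, pl]
    · rw [D.form_eq (D.el_mem u) (D.hb' i), D.vec_el, D.vec_b, ω_single_right,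
        D.zlog_spec (hm _ (D.hb' i))]
      simp [u, pl]
  have hc : Commute ((D.el u)⁻¹ * g) D.z := (D.comm_z _ (inv_mem (D.el_mem u))).mul_left hg
  have := mul_mem (D.el_mem u) (D.Zc_le (D.cent_Q _ hc (D.commute_Q_of_pairs hc hu)))
  rwa [mul_inv_cancel_left] at this

end Frame

end Cfsg.Lib.Fi23Three
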