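import Cfsg.Agent.Lib.Fi23Three.Data

/-!
# Products of the standard operators and the maps inducing isometries on the quotient of `2^{1+6}`
-/

set_option autoImplicit false
set_option linter.unusedSectionVars false
set_option maxRecDepth 100000

namespace Cfsg.Lib.Fi23Three

/-- Agreement up to a nonzero scalar. -/
def Pm (f g : V → V) : Prop := ∃ c : ZMod 3, c ≠ 0 ∧ ∀ v, f v = c • g v

theorem Pm.of_eq {f g : V → V} (h : ∀ v, f v = g v) : Pm f g := ⟨1, by decide, fun v => by rw [h, one_smul]⟩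

theorem Pm.symm {f g : V → V} (h : Pm f g) : Pm g f := by
  obtain ⟨c, hc, h⟩ := h
  refine ⟨c, hc, fun v => ?_⟩
  rw [h, smul_smul, (show ∀ c : ZMod 3, c ≠ 0 → c * c = 1 by decide) c hc, one_smul]

theorem Pm.trans {f g h : V → V} (h1 : Pm f g) (h2 : Pm g h) : Pm f h := by
  obtain ⟨c, hc, h1⟩ := h1
  obtain ⟨d, hd, h2⟩ := h2
  exact ⟨c * d, mul_ne_zero hc hd, fun v => by rw [h1, h2, smul_smul]⟩

/-- An additive map commutes with scalars. -/
theorem smul_of_add {f : V → V} (hf : ∀ v w, f (v + w) = f v + f w) (c : ZMod 3) (v : V) : f (c • v) = c • f v :=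
  ZMod.map_smul (AddMonoidHom.mk' f hf) c v

theorem neg_of_add {f : V → V} (hf : ∀ v w, f (v + w) = f v + f w) (v : V) : f (-v) = -f v :=
  (AddMonoidHom.mk' f hf).map_neg v

theorem Pm.comp_left {f g : V → V} (h : Pm f g) {L : V → V} (hL : ∀ v w, L (v + w) = L v + L w) :
    Pm (fun v => L (f v)) (fun v => L (g v)) := by
  obtain ⟨c, hc, h⟩ := h
  exact ⟨c, hc, fun v => by show L (f v) = c • L (g v); rw [h, smul_of_add hL]⟩

theorem Pm.comp_right {f g : V → V} (h : Pm f g) (L : V → V) : Pm (fun v => f (L v)) (fun v => g (L v)) := by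
  obtain ⟨c, hc, h⟩ := h
  exact ⟨c, hc, fun v => h (L v)⟩

/-- Checking agreement up to sign on the basis. -/
theorem Pm.of_bas {f g : V → V} (hf : ∀ v w, f (v + w) = f v + f w) (hg : ∀ v w, g (v + w) = g v + g w)
    (h : (∀ q, f (bas q) = g (bas q)) ∨ (∀ q, f (bas q) = -g (bas q))) : Pm f g := by
  rcases h with h | h
  · exact .of_eq (ext_bas hf hg h)
  · refine ⟨-1, by decide, fun v => ?_⟩
    rw [neg_one_smul]
    exact ext_bas (g := fun v => -g v) hf (fun a b => by simp only [hg, neg_add]) h v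

/-- The element of one factor. -/
def fac (i : Fin 3) (p : ZMod 2 × ZMod 2) (v : V) : V := ev (mmul (pow1 (RA i) p.1) (pow1 (RB i) p.2)) v

theorem fac_add (i : Fin 3) (p : ZMod 2 × ZMod 2) (v w : V) : fac i p (v + w) = fac i p v + fac i p w :=
  ev_add _ v w

theorem rho_eq (u : W6) (v : V) : rho u v = fac 0 (u 0) (fac 1 (u 1) (fac 2 (u 2) v)) := by
  simp only [rho, rhoM, fac, ev_mmul]

theorem rho_add (u : W6) (v w : V) : rho u (v + w) = rho u v + rho u w := ev_add _ v w

theorem rho_smul (u : W6) (c : ZMod 3) (v : V) : rho u (c • v) = c • rho u v := ev_smul _ c v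

theorem fac_comm_bas : ∀ (i j : Fin 3) (a b : ZMod 2 × ZMod 2) (q : Fin 8),
    i = j ∨ fac i a (fac j b (bas q)) = fac j b (fac i a (bas q)) := by decide +kernel

theorem fac_comm {i j : Fin 3} (h : i ≠ j) (a b : ZMod 2 × ZMod 2) (v : V) :
    fac i a (fac j b v) = fac j b (fac i a v) :=
  ext_bas (f := fun v => fac i a (fac j b v)) (g := fun v => fac j b (fac i a v))
    (fun x y => by simp [fac_add]) (fun x y => by simp [fac_add])
    (fun q => (fac_comm_bas i j a b q).resolve_left h) v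

theorem fac_mul_bas : ∀ (i : Fin 3) (a b : ZMod 2 × ZMod 2),
    (∀ q, fac i a (fac i b (bas q)) = fac i (a + b) (bas q)) ∨
    (∀ q, fac i a (fac i b (bas q)) = -fac i (a + b) (bas q)) := by decide +kernel

theorem fac_mul (i : Fin 3) (a b : ZMod 2 × ZMod 2) : Pm (fun v => fac i a (fac i b v)) (fac i (a + b)) :=
  Pm.of_bas (fun x y => by simp [fac_add]) (fac_add i _) (fac_mul_bas i a b)

theorem fac_zero (i : Fin 3) (v : V) : fac i 0 v = v := by
  rw [fac, show pow1 (RA i) (0 : ZMod 2 × ZMod 2).1 = one8 from if_neg (by decide),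
    show pow1 (RB i) (0 : ZMod 2 × ZMod 2).2 = one8 from if_neg (by decide), ev_mmul, ev_one8, ev_one8]

theorem rho_zero (v : V) : rho 0 v = v := by
  rw [rho_eq]
  simp only [Pi.zero_apply, fac_zero]

/-- The product is the sum up to sign. -/
theorem rho_mul (u w : W6) : Pm (fun v => rho u (rho w v)) (rho (u + w)) := by
  obtain ⟨a, ha, h0⟩ := fac_mul 0 (u 0) (w 0)
  obtain ⟨b, hb, h1⟩ := fac_mul 1 (u 1) (w 1)
  obtain ⟨c, hc, h2⟩ := fac_mul 2 (u 2) (w 2)
  refine ⟨a * (b * c), mul_ne_zero ha (mul_ne_zero hb hc), fun v => ?_⟩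
  beta_reduce at h0 h1 h2
  show rho u (rho w v) = _
  simp only [rho_eq, Pi.add_apply]
  rw [fac_comm (show (2 : Fin 3) ≠ 0 by decide), fac_comm (show (1 : Fin 3) ≠ 0 by decide),
    fac_comm (show (2 : Fin 3) ≠ 1 by decide), h2]
  rw [smul_of_add (fac_add 1 _), smul_of_add (fac_add 1 _), h1, smul_smul, smul_of_add (fac_add 0 _),
    smul_of_add (fac_add 0 _), h0, smul_smul]
  congr 1
  ring

theorem add_self6 : ∀ u : W6, u + u = 0 := by decide +kernel

theorem rho_sq (u : W6) : Pm (fun v => rho u (rho u v)) id :=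
  (rho_mul u u).trans (.of_eq fun v => by rw [add_self6, rho_zero]; rfl)

theorem rho_one_bas : ∀ u : W6, (rho u (bas 0) = bas 0 ∨ rho u (bas 0) = -bas 0) → u = 0 := by
  simp only [rho_eq]
  decide +kernel

/-- The operators are independent. -/
theorem rho_inj {u w : W6} (h : Pm (rho u) (rho w)) : u = w := by
  have h1 : Pm (rho (u + w)) id :=
    ((rho_mul u w).symm.trans (h.comp_right (rho w))).trans (rho_sq w)
  obtain ⟨c, hc, h1⟩ := h1
  have : u + w = 0 := rho_one_bas _ (by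
    rcases (show ∀ c : ZMod 3, c ≠ 0 → c = 1 ∨ c = -1 by decide) c hc with rfl | rfl
    · exact Or.inl (by simp [h1])
    · exact Or.inr (by simp [h1]))
  calc u = u + w + w := by rw [add_assoc, add_self6, add_zero]
    _ = w := by rw [this, zero_add]

theorem Tw.pm {f : V → V} {h : W6 → W6} (hf : Tw f h) (u : W6) :
    Pm (fun v => f (rho u v)) (fun v => rho (h u) (f v)) := hf u

theorem Tw.comp {f g : V → V} {h k : W6 → W6} (hf : Tw f h) (hg : Tw g k) (hfa : ∀ v w, f (v + w) = f v + f w) :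
    Tw (fun v => f (g v)) (fun u => h (k u)) := fun u =>
  ((hg.pm u).comp_left hfa).trans ((hf.pm (k u)).comp_right g)

theorem Tw.congr {f g : V → V} {h : W6 → W6} (hf : Tw f h) (e : ∀ v, f v = g v) : Tw g h := fun u => by
  obtain ⟨c, hc, hv⟩ := hf u
  exact ⟨c, hc, fun v => by rw [← e, ← e]; exact hv v⟩

theorem Tw.congr_right {f : V → V} {h k : W6 → W6} (hf : Tw f h) (e : ∀ u, h u = k u) : Tw f k :=
  fun u => e u ▸ hf u

theorem Tw.id' : Tw (fun v => v) (fun u => u) := fun _ => ⟨1, by decide, fun v => by rw [one_smul]⟩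

/-- A surjective map induces one map only. -/
theorem Tw.unique {f : V → V} {h k : W6 → W6} (hf : Tw f h) (hk : Tw f k) (hs : Function.Surjective f) (u : W6) :
    h u = k u := by
  refine rho_inj ?_
  obtain ⟨c, hc, e⟩ := (hf.pm u).symm.trans (hk.pm u)
  refine ⟨c, hc, fun v => ?_⟩
  obtain ⟨w, rfl⟩ := hs v
  exact e w

/-- The first basis vector of a plane. -/
def eA (i : Fin 3) : W6 := Pi.single i (1, 0)

/-- The second basis vector of a plane. -/
def eB (i : Fin 3) : W6 := Pi.single i (0, 1)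

theorem gen6 : ∀ u : W6, u = ((if (u 0).1 = 1 then eA 0 else 0) + (if (u 0).2 = 1 then eB 0 else 0)) +
    ((if (u 1).1 = 1 then eA 1 else 0) + (if (u 1).2 = 1 then eB 1 else 0)) +
    ((if (u 2).1 = 1 then eA 2 else 0) + (if (u 2).2 = 1 then eB 2 else 0)) := by decide +kernel

/-- A map that does it on the six generators does it everywhere. -/
theorem Tw.of_gens {f : V → V} {h : W6 → W6} (hf : ∀ v w, f (v + w) = f v + f w)
    (hh : ∀ u w, h (u + w) = h u + h w)
    (hA : ∀ i, Pm (fun v => f (rho (eA i) v)) (fun v => rho (h (eA i)) (f v)))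
    (hB : ∀ i, Pm (fun v => f (rho (eB i) v)) (fun v => rho (h (eB i)) (f v))) : Tw f h := by
  let P : W6 → Prop := fun u => Pm (fun v => f (rho u v)) (fun v => rho (h u) (f v))
  have h0 : h 0 = 0 := (AddMonoidHom.mk' h hh).map_zero
  have hz : P 0 := .of_eq fun v => by simp only [h0, rho_zero]
  have ha : ∀ u w, P u → P w → P (u + w) := fun u w hu hw => by
    obtain ⟨a, ha', e1⟩ := (rho_mul u w).symm
    obtain ⟨b, hb', e2⟩ := hu
    obtain ⟨c, hc', e3⟩ := hw
    obtain ⟨d, hd', e4⟩ := rho_mul (h u) (h w)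
    refine ⟨a * (b * (c * d)), mul_ne_zero ha' (mul_ne_zero hb' (mul_ne_zero hc' hd')), fun v => ?_⟩
    beta_reduce at e1 e2 e3 e4
    show f (rho (u + w) v) = _
    beta_reduce
    rw [e1, smul_of_add hf, e2, e3, rho_smul, e4, ← hh, smul_smul, smul_smul, smul_smul]
    congr 1
    ring
  intro u
  rw [gen6 u]
  have hif : ∀ (p : Prop) [Decidable p] (e : W6), P e → P (if p then e else 0) := fun p _ e he => by
    by_cases hp : p
    · rw [if_pos hp]; exact he
    · rw [if_neg hp]; exact hz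
  exact ha _ _ (ha _ _ (ha _ _ (hif _ _ (hA 0)) (hif _ _ (hB 0))) (ha _ _ (hif _ _ (hA 1)) (hif _ _ (hB 1))))
    (ha _ _ (hif _ _ (hA 2)) (hif _ _ (hB 2)))

/-- The check of a matrix on one generator. -/
def TwChk (M : M8) (h : W6 → W6) (u : W6) : Prop :=
  (∀ q, ev M (fac 0 (u 0) (fac 1 (u 1) (fac 2 (u 2) (bas q)))) =
      fac 0 (h u 0) (fac 1 (h u 1) (fac 2 (h u 2) (ev M (bas q))))) ∨
  (∀ q, ev M (fac 0 (u 0) (fac 1 (u 1) (fac 2 (u 2) (bas q)))) =
      -fac 0 (h u 0) (fac 1 (h u 1) (fac 2 (h u 2) (ev M (bas q)))))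

instance (M : M8) (h : W6 → W6) (u : W6) : Decidable (TwChk M h u) := by unfold TwChk; infer_instance

theorem Tw.of_chk {M : M8} {h : W6 → W6} (hh : ∀ u w, h (u + w) = h u + h w)
    (hc : ∀ i, TwChk M h (eA i) ∧ TwChk M h (eB i)) : Tw (ev M) h := by
  refine Tw.of_gens (ev_add M) hh (fun i => ?_) (fun i => ?_) <;>
    refine Pm.of_bas (fun x y => by simp [ev_add, rho_add]) (fun x y => by simp [ev_add, rho_add]) ?_ <;>
    simp only [rho_eq]
  exacts [(hc i).1, (hc i).2]

/-- The sign of an element of a factor against a generator. -/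
theorem fac_sign_bas : ∀ (i : Fin 3) (p : ZMod 2 × ZMod 2) (q : Fin 8),
    fac i p (ev (RA i) (bas q)) = (if p.2 = 1 then (-1 : ZMod 3) else 1) • ev (RA i) (fac i p (bas q)) ∧
    fac i p (ev (RB i) (bas q)) = (if p.1 = 1 then (-1 : ZMod 3) else 1) • ev (RB i) (fac i p (bas q)) := by
  decide +kernel

theorem fac_other_bas : ∀ (i j : Fin 3) (p : ZMod 2 × ZMod 2) (q : Fin 8), i = j ∨
    (fac i p (ev (RA j) (bas q)) = ev (RA j) (fac i p (bas q)) ∧
    fac i p (ev (RB j) (bas q)) = ev (RB j) (fac i p (bas q))) := by decide +kernel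

theorem fac_other {i j : Fin 3} (h : i ≠ j) (p : ZMod 2 × ZMod 2) (v : V) :
    fac i p (ev (RA j) v) = ev (RA j) (fac i p v) ∧ fac i p (ev (RB j) v) = ev (RB j) (fac i p v) :=
  ⟨ext_bas (f := fun v => fac i p (ev (RA j) v)) (g := fun v => ev (RA j) (fac i p v))
      (fun x y => by simp [fac_add, ev_add]) (fun x y => by simp [fac_add, ev_add])
      (fun q => ((fac_other_bas i j p q).resolve_left h).1) v,
    ext_bas (f := fun v => fac i p (ev (RB j) v)) (g := fun v => ev (RB j) (fac i p v))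
      (fun x y => by simp [fac_add, ev_add]) (fun x y => by simp [fac_add, ev_add])
      (fun q => ((fac_other_bas i j p q).resolve_left h).2) v⟩

theorem fac_sign (i : Fin 3) (p : ZMod 2 × ZMod 2) (v : V) :
    fac i p (ev (RA i) v) = (if p.2 = 1 then (-1 : ZMod 3) else 1) • ev (RA i) (fac i p v) ∧
    fac i p (ev (RB i) v) = (if p.1 = 1 then (-1 : ZMod 3) else 1) • ev (RB i) (fac i p v) :=
  ⟨ext_bas (f := fun v => fac i p (ev (RA i) v))
      (g := fun v => (if p.2 = 1 then (-1 : ZMod 3) else 1) • ev (RA i) (fac i p v))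
      (fun x y => by simp [fac_add, ev_add]) (fun x y => by simp [fac_add, ev_add, smul_add])
      (fun q => (fac_sign_bas i p q).1) v,
    ext_bas (f := fun v => fac i p (ev (RB i) v))
      (g := fun v => (if p.1 = 1 then (-1 : ZMod 3) else 1) • ev (RB i) (fac i p v))
      (fun x y => by simp [fac_add, ev_add]) (fun x y => by simp [fac_add, ev_add, smul_add])
      (fun q => (fac_sign_bas i p q).2) v⟩

theorem rho_eA : ∀ i v, rho (eA i) v = ev (RA i) v := by
  refine fun i => ext_bas (rho_add _) (ev_add _) ?_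
  simp only [rho_eq]
  revert i; decide +kernel

theorem rho_eB : ∀ i v, rho (eB i) v = ev (RB i) v := by
  refine fun i => ext_bas (rho_add _) (ev_add _) ?_
  simp only [rho_eq]
  revert i; decide +kernel

theorem rho_sign (u : W6) (i : Fin 3) (v : V) :
    rho u (ev (RA i) v) = (if (u i).2 = 1 then (-1 : ZMod 3) else 1) • ev (RA i) (rho u v) ∧
    rho u (ev (RB i) v) = (if (u i).1 = 1 then (-1 : ZMod 3) else 1) • ev (RB i) (rho u v) := by
  simp only [rho_eq]
  obtain rfl | rfl | rfl := (show ∀ i : Fin 3, i = 0 ∨ i = 1 ∨ i = 2 by decide) i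
  · have h2 := fac_other (show (2 : Fin 3) ≠ 0 by decide) (u 2) v
    have h1 := fac_other (show (1 : Fin 3) ≠ 0 by decide) (u 1) (fac 2 (u 2) v)
    rw [h2.1, h2.2, h1.1, h1.2]
    exact fac_sign 0 _ _
  · have h2 := fac_other (show (2 : Fin 3) ≠ 1 by decide) (u 2) v
    have h0 := fac_other (show (0 : Fin 3) ≠ 1 by decide) (u 0) (fac 1 (u 1) (fac 2 (u 2) v))
    rw [h2.1, h2.2, (fac_sign 1 _ _).1, (fac_sign 1 _ _).2, smul_of_add (fac_add 0 _), smul_of_add (fac_add 0 _),
      h0.1, h0.2]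
    exact ⟨rfl, rfl⟩
  · have h1 := fac_other (show (1 : Fin 3) ≠ 2 by decide) (u 1) (fac 2 (u 2) v)
    have h0 := fac_other (show (0 : Fin 3) ≠ 2 by decide) (u 0) (fac 1 (u 1) (fac 2 (u 2) v))
    rw [(fac_sign 2 _ _).1, (fac_sign 2 _ _).2, smul_of_add (fac_add 1 _), smul_of_add (fac_add 1 _), h1.1, h1.2,
      smul_of_add (fac_add 0 _), smul_of_add (fac_add 0 _), h0.1, h0.2]
    exact ⟨rfl, rfl⟩

/-- What fixes every element of the quotient is a scalar times one of the operators. -/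
theorem Tw.eq_rho {f : V → V} (hf : ∀ v w, f (v + w) = f v + f w) (hi : Function.Injective f)
    (ht : Tw f fun u => u) : ∃ w : W6, ∃ c : ZMod 3, c ≠ 0 ∧ ∀ v, f v = c • rho w v := by
  have hsA : ∀ i, ∃ c : ZMod 3, c ≠ 0 ∧ ∀ v, f (ev (RA i) v) = c • ev (RA i) (f v) := fun i => by
    obtain ⟨c, hc, h⟩ := ht (eA i)
    exact ⟨c, hc, fun v => by rw [← rho_eA, h, rho_eA]⟩
  have hsB : ∀ i, ∃ c : ZMod 3, c ≠ 0 ∧ ∀ v, f (ev (RB i) v) = c • ev (RB i) (f v) := fun i => by
    obtain ⟨c, hc, h⟩ := ht (eB i)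
    exact ⟨c, hc, fun v => by rw [← rho_eB, h, rho_eB]⟩
  choose a ha hA using hsA
  choose b hb hB using hsB
  let w : W6 := fun i => (if b i = -1 then 1 else 0, if a i = -1 then 1 else 0)
  have key : ∀ c : ZMod 3, c ≠ 0 → c * (if (if c = -1 then (1 : ZMod 2) else 0) = 1 then (-1 : ZMod 3) else 1) = 1 := by
    decide
  let C : V →+ V := AddMonoidHom.mk' (fun v => rho w (f v)) fun x y => by rw [hf, rho_add]
  obtain ⟨c, hc⟩ := scalar_of_commute C
    (fun i v => by
      show rho w (f (ev (RA i) v)) = ev (RA i) (rho w (f v))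
      rw [hA, rho_smul, (rho_sign w i _).1, smul_smul, key _ (ha i), one_smul])
    (fun i v => by
      show rho w (f (ev (RB i) v)) = ev (RB i) (rho w (f v))
      rw [hB, rho_smul, (rho_sign w i _).2, smul_smul, key _ (hb i), one_smul])
  obtain ⟨d, hd, hsq⟩ := rho_sq w
  have hdd : d * d = 1 := (show ∀ d : ZMod 3, d ≠ 0 → d * d = 1 by decide) d hd
  have he : ∀ v, f v = (d * c) • rho w v := fun v => by
    have h1 : rho w (f v) = c • v := hc v
    have h2 : rho w (rho w (f v)) = c • rho w v := by rw [h1, rho_smul]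
    rw [show rho w (rho w (f v)) = d • f v from hsq (f v)] at h2
    rw [mul_smul, ← h2, smul_smul, hdd, one_smul]
  refine ⟨w, d * c, fun e => ?_, he⟩
  obtain ⟨u, hu⟩ := exists_ne (0 : V)
  exact hu (hi (by rw [he u, he 0, e, zero_smul, zero_smul]))

/-- A map of the quotient by its images of the six generators. -/
def lin6 (im : Fin 6 → W6) (u : W6) : W6 :=
  ((if (u 0).1 = 1 then im 0 else 0) + (if (u 0).2 = 1 then im 1 else 0)) +
    ((if (u 1).1 = 1 then im 2 else 0) + (if (u 1).2 = 1 then im 3 else 0)) +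
    ((if (u 2).1 = 1 then im 4 else 0) + (if (u 2).2 = 1 then im 5 else 0))

theorem mem_CZ_of {h : Equiv.Perm W6} (ha : ∀ u w, h (u + w) = h u + h w) (hq : ∀ u, q6 (h u) = q6 u)
    (hz : ∀ u, zeta6 (h u) = h (zeta6 u)) : h ∈ CZ :=
  ⟨⟨ha, hq⟩, Subgroup.mem_centralizer_singleton_iff.2 (Equiv.ext fun u => (hz u).symm)⟩

/-- Two elements of the centraliser agreeing on the frame agree. -/
theorem CZ_ext {h k : Equiv.Perm W6} (hh : h ∈ CZ) (hk : k ∈ CZ) (e : ∀ j, h (fr j) = k (fr j)) : h = k := by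
  have hz : ∀ {g : Equiv.Perm W6}, g ∈ CZ → ∀ u, g (zeta6 u) = zeta6 (g u) := fun hg u => by
    simpa using Equiv.Perm.ext_iff.1 (Subgroup.mem_centralizer_singleton_iff.1 hg.2) u
  let A : W6 →+ W6 := AddMonoidHom.mk' h hh.1.1
  let B : W6 →+ W6 := AddMonoidHom.mk' k hk.1.1
  refine Equiv.ext fun u => ?_
  show A u = B u
  have hf : ∀ j, A (fr j) = B (fr j) ∧ A (zeta6 (fr j)) = B (zeta6 (fr j)) := fun j =>
    ⟨e j, by show h (zeta6 (fr j)) = k (zeta6 (fr j)); rw [hz hh, hz hk, e]⟩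
  rw [fr_decomp u]
  simp only [map_add]
  refine congrArg₂ _ (congrArg₂ _ (congrArg₂ _ ?_ ?_) (congrArg₂ _ ?_ ?_)) (congrArg₂ _ ?_ ?_) <;> split_ifs <;>
    simp only [map_zero, hf]

end Cfsg.Lib.Fi23Three
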