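import Cfsg.Agent.Lib.Fi23Three.Coord

/-!
# Every vector is fixed by a conjugate of the swap of two tensor factors
-/

set_option autoImplicit false
set_option linter.unusedSectionVars false
set_option maxRecDepth 100000

namespace Cfsg.Lib.Fi23Three

open scoped commutatorElement

/-- The swap of the first two factors. -/
def SW : M8 :=
  [[1, 0, 0, 0, 0, 0, 0, 0], [0, 1, 0, 0, 0, 0, 0, 0], [0, 0, 0, 0, 1, 0, 0, 0], [0, 0, 0, 0, 0, 1, 0, 0], [0, 0, 1, 0, 0, 0, 0, 0], [0, 0, 0, 1, 0, 0, 0, 0], [0, 0, 0, 0, 0, 0, 1, 0], [0, 0, 0, 0, 0, 0, 0, 1]]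

/-- The generators used for the cover. -/
def gl : Fin 10 → M8 :=
  ![RA 0, RB 0, RA 1, RB 1, RA 2, RB 2,
    [[1, 0, 0, 0, 1, 0, 0, 0], [0, 1, 0, 0, 0, 1, 0, 0], [0, 0, 1, 0, 0, 0, 1, 0], [0, 0, 0, 1, 0, 0, 0, 1], [0, 0, 0, 0, 1, 0, 0, 0], [0, 0, 0, 0, 0, 1, 0, 0], [0, 0, 0, 0, 0, 0, 1, 0], [0, 0, 0, 0, 0, 0, 0, 1]],
    [[1, 0, 1, 0, 0, 0, 0, 0], [0, 1, 0, 1, 0, 0, 0, 0], [0, 0, 1, 0, 0, 0, 0, 0], [0, 0, 0, 1, 0, 0, 0, 0], [0, 0, 0, 0, 1, 0, 1, 0], [0, 0, 0, 0, 0, 1, 0, 1], [0, 0, 0, 0, 0, 0, 1, 0], [0, 0, 0, 0, 0, 0, 0, 1]],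
    [[1, 1, 0, 0, 0, 0, 0, 0], [0, 1, 0, 0, 0, 0, 0, 0], [0, 0, 1, 1, 0, 0, 0, 0], [0, 0, 0, 1, 0, 0, 0, 0], [0, 0, 0, 0, 1, 1, 0, 0], [0, 0, 0, 0, 0, 1, 0, 0], [0, 0, 0, 0, 0, 0, 1, 1], [0, 0, 0, 0, 0, 0, 0, 1]],
    [[1, 0, 0, 0, 0, 0, 0, 0], [0, 0, 1, 0, 0, 0, 0, 0], [0, 0, 0, 0, 1, 0, 0, 0], [0, 0, 0, 0, 0, 0, 1, 0], [0, 1, 0, 0, 0, 0, 0, 0], [0, 0, 0, 1, 0, 0, 0, 0], [0, 0, 0, 0, 0, 1, 0, 0], [0, 0, 0, 0, 0, 0, 0, 1]]]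

/-- The map of a generator on the quotient. -/
def glp : Fin 10 → Equiv.Perm W6 :=
  ![1, 1, 1, 1, 1, 1, sperm (Pi.single 0 1) 0, sperm (Pi.single 1 1) 0, sperm (Pi.single 2 1) 0, sperm 0 1]

/-- The product of a word. -/
def wmat : List (Fin 10) → M8
  | [] => one8
  | i :: w => mmul (gl i) (wmat w)

/-- Words for the conjugates. -/
def cov : List (List (Fin 10)) :=
  [ [],
    [0],
    [1],
    [6],
    [7],
    [9],
    [0, 1],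
    [0, 6],
    [0, 7],
    [0, 9],
    [1, 6],
    [1, 7],
    [1, 9],
    [6, 1],
    [6, 9],
    [7, 3],
    [7, 9],
    [9, 9],
    [0, 1, 9],
    [0, 6, 9],
    [0, 7, 9],
    [0, 9, 9],
    [1, 6, 9],
    [1, 7, 9],
    [1, 9, 9],
    [6, 1, 9],
    [6, 9, 9],
    [7, 3, 9],
    [7, 9, 9],
    [0, 1, 9, 9],
    [0, 6, 9, 9],
    [0, 7, 9, 9],
    [1, 6, 9, 9],
    [1, 7, 9, 9],
    [6, 1, 9, 9],
    [7, 3, 9, 9] ]

/-- The two functionals of each word. -/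
def covR : List (List ℕ × List ℕ) :=
  [ ([0, 0, 1, 0, 2, 0, 0, 0], [0, 0, 0, 1, 0, 2, 0, 0]),
    ([1, 0, 0, 0, 0, 0, 1, 0], [0, 1, 0, 0, 0, 0, 0, 1]),
    ([2, 0, 1, 0, 1, 0, 1, 0], [0, 2, 0, 1, 0, 1, 0, 1]),
    ([0, 0, 1, 0, 2, 0, 1, 0], [0, 0, 0, 1, 0, 2, 0, 1]),
    ([0, 0, 1, 0, 2, 0, 2, 0], [0, 0, 0, 1, 0, 2, 0, 2]),
    ([0, 2, 0, 0, 1, 0, 0, 0], [0, 0, 0, 2, 0, 0, 1, 0]),
    ([1, 0, 1, 0, 1, 0, 2, 0], [0, 1, 0, 1, 0, 1, 0, 2]),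
    ([1, 0, 0, 0, 1, 0, 1, 0], [0, 1, 0, 0, 0, 1, 0, 1]),
    ([1, 0, 1, 0, 0, 0, 1, 0], [0, 1, 0, 1, 0, 0, 0, 1]),
    ([1, 0, 0, 0, 0, 1, 0, 0], [0, 0, 1, 0, 0, 0, 0, 1]),
    ([2, 0, 1, 0, 0, 0, 2, 0], [0, 2, 0, 1, 0, 0, 0, 2]),
    ([2, 0, 0, 0, 1, 0, 2, 0], [0, 2, 0, 0, 0, 1, 0, 2]),
    ([2, 1, 0, 0, 1, 1, 0, 0], [0, 0, 2, 1, 0, 0, 1, 1]),
    ([2, 0, 2, 0, 1, 0, 0, 0], [0, 2, 0, 2, 0, 1, 0, 0]),
    ([0, 2, 0, 0, 1, 1, 0, 0], [0, 0, 0, 2, 0, 0, 1, 1]),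
    ([1, 0, 2, 0, 1, 0, 0, 0], [0, 1, 0, 2, 0, 1, 0, 0]),
    ([0, 2, 0, 0, 1, 2, 0, 0], [0, 0, 0, 2, 0, 0, 1, 2]),
    ([0, 1, 2, 0, 0, 0, 0, 0], [0, 0, 0, 0, 0, 1, 2, 0]),
    ([1, 1, 0, 0, 1, 2, 0, 0], [0, 0, 1, 1, 0, 0, 1, 2]),
    ([1, 1, 0, 0, 0, 1, 0, 0], [0, 0, 1, 1, 0, 0, 0, 1]),
    ([1, 0, 0, 0, 1, 1, 0, 0], [0, 0, 1, 0, 0, 0, 1, 1]),
    ([1, 0, 0, 1, 0, 0, 0, 0], [0, 0, 0, 0, 1, 0, 0, 1]),
    ([2, 0, 0, 0, 1, 2, 0, 0], [0, 0, 2, 0, 0, 0, 1, 2]),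
    ([2, 1, 0, 0, 0, 2, 0, 0], [0, 0, 2, 1, 0, 0, 0, 2]),
    ([2, 1, 1, 1, 0, 0, 0, 0], [0, 0, 0, 0, 2, 1, 1, 1]),
    ([2, 1, 0, 0, 2, 0, 0, 0], [0, 0, 2, 1, 0, 0, 2, 0]),
    ([0, 1, 2, 1, 0, 0, 0, 0], [0, 0, 0, 0, 0, 1, 2, 1]),
    ([1, 1, 0, 0, 2, 0, 0, 0], [0, 0, 1, 1, 0, 0, 2, 0]),
    ([0, 1, 2, 2, 0, 0, 0, 0], [0, 0, 0, 0, 0, 1, 2, 2]),
    ([1, 1, 1, 2, 0, 0, 0, 0], [0, 0, 0, 0, 1, 1, 1, 2]),
    ([1, 0, 1, 1, 0, 0, 0, 0], [0, 0, 0, 0, 1, 0, 1, 1]),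
    ([1, 1, 0, 1, 0, 0, 0, 0], [0, 0, 0, 0, 1, 1, 0, 1]),
    ([2, 1, 0, 2, 0, 0, 0, 0], [0, 0, 0, 0, 2, 1, 0, 2]),
    ([2, 0, 1, 2, 0, 0, 0, 0], [0, 0, 0, 0, 2, 0, 1, 2]),
    ([2, 2, 1, 0, 0, 0, 0, 0], [0, 0, 0, 0, 2, 2, 1, 0]),
    ([1, 2, 1, 0, 0, 0, 0, 0], [0, 0, 0, 0, 1, 2, 1, 0]) ]

/-- The functionals of a matrix. -/
def rowsOf (P : M8) : List ℕ × List ℕ :=
  (List.ofFn fun i : Fin 8 => (ent P 2 i + 2 * ent P 4 i) % 3,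
    List.ofFn fun i : Fin 8 => (ent P 3 i + 2 * ent P 5 i) % 3)

theorem covR_eq : covR = cov.map (fun w => rowsOf (wmat w)) := by decide +kernel

/-- Half vectors. -/
abbrev Q4 : Type := ℕ × ℕ × ℕ × ℕ

/-- All half vectors. -/
def all81 : List Q4 :=
  [0, 1, 2].flatMap fun a => [0, 1, 2].flatMap fun b => [0, 1, 2].flatMap fun c => [0, 1, 2].map fun d => (a, b, c, d)

/-- The value of a functional on a first half. -/
def valLo (r : List ℕ) (x : Q4) : ℕ :=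
  (r.getD 0 0 * x.1 + r.getD 1 0 * x.2.1 + r.getD 2 0 * x.2.2.1 + r.getD 3 0 * x.2.2.2) % 3

/-- Minus the value of a functional on a second half. -/
def valHi (r : List ℕ) (x : Q4) : ℕ :=
  2 * (r.getD 4 0 * x.1 + r.getD 5 0 * x.2.1 + r.getD 6 0 * x.2.2.1 + r.getD 7 0 * x.2.2.2) % 3

theorem cov_check : ((all81.map fun x => covR.map fun p => valLo p.1 x * 3 + valLo p.2 x).all fun L =>
    (all81.map fun y => covR.map fun p => valHi p.1 y * 3 + valHi p.2 y).all fun H =>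
      (List.zipWith Nat.beq L H).any id) = true := by decide +kernel

theorem mem_all81 : ∀ a b c d : ZMod 3, (a.val, b.val, c.val, d.val) ∈ all81 := by decide

theorem cast_sub2 : ∀ x y : ZMod 3, x + 2 * y = x - y := by decide

theorem co_SW (v : V) : ev SW v = v ↔ co v 2 = co v 4 ∧ co v 3 = co v 5 := by
  have h : ∀ q, co (ev SW v) q = co v (![0, 1, 4, 5, 2, 3, 6, 7] q) := fun q => by
    rw [co_ev]; fin_cases q <;> simp [SW, ent, Fin.sum_univ_eight]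
  constructor
  · intro e
    have h2 := h 2; have h3 := h 3
    rw [e] at h2 h3
    exact ⟨h2, h3⟩
  · rintro ⟨e2, e3⟩
    refine co_inj (funext fun q => ?_)
    rw [h]
    fin_cases q
    exacts [rfl, rfl, e2.symm, e3.symm, e2, e3, rfl, rfl]

/-- Some word moves a given vector into the fixed space of the swap. -/
theorem exists_word (v : V) : ∃ w ∈ cov, ev SW (ev (wmat w) v) = ev (wmat w) v := by
  have h := cov_check
  simp only [List.all_eq_true, List.mem_map, forall_exists_index, and_imp, forall_apply_eq_imp_iff₂] at h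
  have h1 := h _ (mem_all81 (co v 0) (co v 1) (co v 2) (co v 3)) _ (mem_all81 (co v 4) (co v 5) (co v 6) (co v 7))
  rw [List.zipWith_map, List.zipWith_self, List.any_map, List.any_eq_true] at h1
  obtain ⟨p, hp, hpe⟩ := h1
  rw [covR_eq, List.mem_map] at hp
  obtain ⟨w, hw, rfl⟩ := hp
  refine ⟨w, hw, (co_SW _).2 ?_⟩
  simp only [Function.comp_apply, id_eq] at hpe
  replace hpe := Nat.eq_of_beq_eq_true hpe
  have hlt : ∀ r x, valLo r x < 3 ∧ valHi r x < 3 := fun r x => ⟨Nat.mod_lt _ (by norm_num), Nat.mod_lt _ (by norm_num)⟩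
  have e1 : valLo (rowsOf (wmat w)).1 ((co v 0).val, (co v 1).val, (co v 2).val, (co v 3).val) =
      valHi (rowsOf (wmat w)).1 ((co v 4).val, (co v 5).val, (co v 6).val, (co v 7).val) := by
    have := hlt (rowsOf (wmat w)).2 ((co v 0).val, (co v 1).val, (co v 2).val, (co v 3).val)
    have := hlt (rowsOf (wmat w)).2 ((co v 4).val, (co v 5).val, (co v 6).val, (co v 7).val)
    omega
  have e2 : valLo (rowsOf (wmat w)).2 ((co v 0).val, (co v 1).val, (co v 2).val, (co v 3).val) =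
      valHi (rowsOf (wmat w)).2 ((co v 4).val, (co v 5).val, (co v 6).val, (co v 7).val) := by omega
  have f1 := congrArg (fun n : ℕ => (n : ZMod 3)) e1
  have f2 := congrArg (fun n : ℕ => (n : ZMod 3)) e2
  have hg : ∀ (f : Fin 8 → ℕ) (j : Fin 8), (List.ofFn f).getD j.1 0 = f j := fun f j => by
    rw [List.getD_eq_getElem?_getD, List.getElem?_ofFn]; simp
  have hd0 := fun f => hg f 0
  have hd1 := fun f => hg f 1
  have hd2 := fun f => hg f 2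
  have hd3 := fun f => hg f 3
  have hd4 := fun f => hg f 4
  have hd5 := fun f => hg f 5
  have hd6 := fun f => hg f 6
  have hd7 := fun f => hg f 7
  simp only [Fin.val_zero, Fin.val_one, Fin.val_two, show ((3 : Fin 8) : ℕ) = 3 from rfl,
    show ((4 : Fin 8) : ℕ) = 4 from rfl, show ((5 : Fin 8) : ℕ) = 5 from rfl,
    show ((6 : Fin 8) : ℕ) = 6 from rfl, show ((7 : Fin 8) : ℕ) = 7 from rfl] at hd0 hd1 hd2 hd3 hd4 hd5 hd6 hd7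
  simp only [valLo, valHi, rowsOf, hd0, hd1, hd2, hd3, hd4, hd5, hd6, hd7, ZMod.natCast_mod, Nat.cast_add,
    Nat.cast_mul, Nat.cast_ofNat, ZMod.natCast_zmod_val] at f1 f2
  have h3 : (3 : ZMod 3) = 0 := by decide
  constructor <;> rw [co_ev, co_ev, Fin.sum_univ_eight, Fin.sum_univ_eight]
  · linear_combination f1 + ((ent (wmat w) 2 4 : ZMod 3) * co v 4 + (ent (wmat w) 4 4 : ZMod 3) * co v 4 + (ent (wmat w) 2 5 : ZMod 3) * co v 5 + (ent (wmat w) 4 5 : ZMod 3) * co v 5 + (ent (wmat w) 2 6 : ZMod 3) * co v 6 + (ent (wmat w) 4 6 : ZMod 3) * co v 6 + (ent (wmat w) 2 7 : ZMod 3) * co v 7 + (ent (wmat w) 4 7 : ZMod 3) * co v 7 -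
      ((ent (wmat w) 4 0 : ZMod 3) * co v 0 + (ent (wmat w) 4 1 : ZMod 3) * co v 1 + (ent (wmat w) 4 2 : ZMod 3) * co v 2 + (ent (wmat w) 4 3 : ZMod 3) * co v 3)) * h3
  · linear_combination f2 + ((ent (wmat w) 3 4 : ZMod 3) * co v 4 + (ent (wmat w) 5 4 : ZMod 3) * co v 4 + (ent (wmat w) 3 5 : ZMod 3) * co v 5 + (ent (wmat w) 5 5 : ZMod 3) * co v 5 + (ent (wmat w) 3 6 : ZMod 3) * co v 6 + (ent (wmat w) 5 6 : ZMod 3) * co v 6 + (ent (wmat w) 3 7 : ZMod 3) * co v 7 + (ent (wmat w) 5 7 : ZMod 3) * co v 7 -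
      ((ent (wmat w) 5 0 : ZMod 3) * co v 0 + (ent (wmat w) 5 1 : ZMod 3) * co v 1 + (ent (wmat w) 5 2 : ZMod 3) * co v 2 + (ent (wmat w) 5 3 : ZMod 3) * co v 3)) * h3

theorem symp_gl : ∀ i, Symp (gl i) := by unfold Symp; decide +kernel

theorem sperm_zeta : ∀ (e : Fin 3 → Fin 3) (k : Fin 3) (u : W6),
    sfun (fun _ => 1) 0 (sfun e k u) = sfun e k (sfun (fun _ => 1) 0 u) := by decide +kernel

theorem sperm_mem_CZ (e : Fin 3 → Fin 3) (k : Fin 3) : sperm e k ∈ CZ :=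
  mem_CZ_of (sperm_mem e k).1 (sperm_mem e k).2 (sperm_zeta e k)

theorem glp_mem (i : Fin 10) : glp i ∈ CZ := by
  have h1 : (1 : Equiv.Perm W6) ∈ CZ := one_mem _
  fin_cases i
  exacts [h1, h1, h1, h1, h1, h1, sperm_mem_CZ _ _, sperm_mem_CZ _ _, sperm_mem_CZ _ _, sperm_mem_CZ _ _]

theorem tw_gl (i : Fin 10) : Tw (ev (gl i)) (glp i) :=
  Tw.of_chk (glp_mem i).1.1 (by revert i; decide +kernel)

/-- The swap on the quotient. -/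
def swp : Equiv.Perm W6 where
  toFun u := ![u 1, u 0, u 2]
  invFun u := ![u 1, u 0, u 2]
  left_inv u := by funext i; fin_cases i <;> rfl
  right_inv u := by funext i; fin_cases i <;> rfl

theorem swp_mem : swp ∈ CZ := by
  refine mem_CZ_of ?_ ?_ ?_ <;> decide +kernel

theorem tw_SW : Tw (ev SW) swp := Tw.of_chk swp_mem.1.1 (by decide +kernel)

theorem SW_sq (v : V) : ev SW (ev SW v) = v := by
  refine ext_bas (f := fun v => ev SW (ev SW v)) (g := fun v => v) (fun a b => by simp [ev_add]) (fun _ _ => rfl) ?_ v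
  decide +kernel

theorem SW_ne : ev SW (bas 2) ≠ bas 2 := by decide +kernel

theorem symp_SW : Symp SW := by unfold Symp; decide +kernel

end Cfsg.Lib.Fi23Three
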