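import Mathlib

/-!
# The quadratic space of minus type on the quotient of `2^{1+6}`

Sylow 3-subgroups of its isometry group have order 81, the three part of `GL(6, 2)`; a subgroup of order 648
with a central element of order three is the centraliser of a fixed-point-free element `zeta`.
-/

set_option autoImplicit false
set_option linter.unusedSectionVars false
set_option linter.style.haveILetI false
set_option maxRecDepth 100000

namespace Cfsg.Lib.Fi23Three

/-- The space. -/
abbrev W6 : Type := Fin 3 → ZMod 2 × ZMod 2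

/-- The quadratic form. -/
def q6 (u : W6) : ZMod 2 := ∑ i, ((u i).1 * (u i).1 + (u i).1 * (u i).2 + (u i).2 * (u i).2)

/-- The bilinear form. -/
def pol6 (u v : W6) : ZMod 2 := ∑ i, ((u i).1 * (v i).2 + (u i).2 * (v i).1)

/-- One turn of a plane. -/
def turn (p : ZMod 2 × ZMod 2) : ZMod 2 × ZMod 2 := (p.2, p.1 + p.2)

/-- Turn the planes by exponents and permute them cyclically. -/
def sfun (e : Fin 3 → Fin 3) (k : Fin 3) (u : W6) : W6 := fun i => turn^[(e i).1] (u (i - k))

theorem turn_iter : ∀ (p : ZMod 2 × ZMod 2) (a : Fin 3), turn^[(-a).1] (turn^[a.1] p) = p ∧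
    turn^[a.1] (turn^[(-a).1] p) = p := by decide

/-- The monomial map as a permutation. -/
def sperm (e : Fin 3 → Fin 3) (k : Fin 3) : Equiv.Perm W6 where
  toFun := sfun e k
  invFun v := fun j => turn^[(-(e (j + k))).1] (v (j + k))
  left_inv u := funext fun j => by
    show turn^[(-(e (j + k))).1] (turn^[(e (j + k)).1] (u (j + k - k))) = u j
    rw [(turn_iter _ _).1, add_sub_cancel_right]
  right_inv v := funext fun i => by
    show turn^[(e i).1] (turn^[(-(e (i - k + k))).1] (v (i - k + k))) = v i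
    rw [sub_add_cancel, (turn_iter _ _).2]

/-- The fixed-point-free element. -/
def zeta6 : Equiv.Perm W6 := sperm (fun _ => 1) 0

/-- The isometries. -/
def Iso6 : Subgroup (Equiv.Perm W6) where
  carrier := {h | (∀ u v, h (u + v) = h u + h v) ∧ ∀ u, q6 (h u) = q6 u}
  mul_mem' {g h} hg hh := ⟨fun u v => by simp [hh.1, hg.1], fun u => by simp [hg.2, hh.2]⟩
  one_mem' := ⟨fun _ _ => rfl, fun _ => rfl⟩
  inv_mem' {g} hg := ⟨fun u v => g.injective (by simp [hg.1]), fun u => by
    conv_rhs => rw [show u = g (g⁻¹ u) by simp, hg.2]⟩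

theorem q6_add : ∀ u v : W6, q6 (u + v) = q6 u + q6 v + pol6 u v := by decide +kernel

theorem pol6_map {h : Equiv.Perm W6} (hh : h ∈ Iso6) (u v : W6) : pol6 (h u) (h v) = pol6 u v := by
  have h1 := hh.2 (u + v)
  rw [hh.1, q6_add, q6_add, hh.2, hh.2] at h1
  exact add_left_cancel h1

theorem sperm_mem (e : Fin 3 → Fin 3) (k : Fin 3) : sperm e k ∈ Iso6 := by
  refine ⟨fun u v => funext fun i => ?_, fun u => ?_⟩
  · exact (show ∀ (a : Fin 3) (p r : ZMod 2 × ZMod 2), turn^[a.1] (p + r) = turn^[a.1] p + turn^[a.1] r by decide) _ _ _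
  · have h : ∀ (a : Fin 3) (p : ZMod 2 × ZMod 2),
        (turn^[a.1] p).1 * (turn^[a.1] p).1 + (turn^[a.1] p).1 * (turn^[a.1] p).2 + (turn^[a.1] p).2 * (turn^[a.1] p).2 =
          p.1 * p.1 + p.1 * p.2 + p.2 * p.2 := by decide
    simp only [q6, sperm, Equiv.coe_fn_mk, sfun, h]
    exact Fintype.sum_equiv (Equiv.subRight k) _ _ fun i => rfl

/-- The linear map of an isometry. -/
def isoLin (h : Iso6) : W6 ≃ₗ[ZMod 2] W6 :=
  { (h : Equiv.Perm W6) with
    map_add' := h.2.1
    map_smul' := fun c u => ZMod.map_smul (AddMonoidHom.mk' (h : Equiv.Perm W6) h.2.1) c u }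

theorem card_Iso6 : Nat.card Iso6 ∣ 20158709760 := by
  classical
  let e : W6 ≃ₗ[ZMod 2] (Fin 6 → ZMod 2) := LinearEquiv.ofFinrankEq _ _ (by simp [Module.finrank_pi_fintype])
  let ρ : Iso6 →* ((Fin 6 → ZMod 2) ≃ₗ[ZMod 2] (Fin 6 → ZMod 2)) :=
    MonoidHom.mk' (fun h => (e.symm.trans (isoLin h)).trans e) fun g h => by ext; simp [isoLin]
  have hinj : Function.Injective ρ := fun g h hgh => by
    refine Subtype.ext (Equiv.ext fun u => e.injective ?_)
    have := LinearEquiv.congr_fun hgh (e u)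
    simpa [ρ, isoLin] using this
  have h1 := Subgroup.card_dvd_of_injective ρ hinj
  have h2 : Nat.card ((Fin 6 → ZMod 2) ≃ₗ[ZMod 2] (Fin 6 → ZMod 2)) = 20158709760 := by
    rw [Nat.card_congr ((Matrix.GeneralLinearGroup.toLin.trans
      (LinearMap.GeneralLinearGroup.generalLinearEquiv (ZMod 2) (Fin 6 → ZMod 2))).symm.toEquiv), Matrix.card_GL_field]
    simp [Fin.prod_univ_six]
  rwa [h2] at h1

theorem sperm_step : (∀ (j : Fin 3) (e : Fin 3 → Fin 3) (k : Fin 3) (u : W6),
      sfun (Pi.single j 1) 0 (sfun e k u) = sfun (Pi.single j 1 + e) k u) ∧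
    ∀ (e : Fin 3 → Fin 3) (k : Fin 3) (u : W6), sfun 0 1 (sfun e k u) = sfun (fun i => e (i - 1)) (k + 1) u := by
  refine ⟨fun j e k u => funext fun i => ?_, fun e k u => funext fun i => ?_⟩
  · show turn^[((Pi.single j 1 : Fin 3 → Fin 3) i).1] (turn^[(e (i - 0)).1] (u (i - 0 - k))) = _
    simp only [sfun, sub_zero, Pi.add_apply]
    exact (show ∀ (a b : Fin 3) (p : ZMod 2 × ZMod 2), turn^[a.1] (turn^[b.1] p) = turn^[(a + b).1] p by decide) _ _ _
  · show turn^[(0 : Fin 3).1] (turn^[(e (i - 1)).1] (u (i - 1 - k))) = _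
    simp only [sfun, Fin.val_zero, Function.iterate_zero, id_eq, show i - 1 - k = i - (k + 1) by abel]

/-- The standard Sylow subgroup. -/
def S81 : Subgroup (Equiv.Perm W6) :=
  Subgroup.closure ({sperm (Pi.single 0 1) 0, sperm (Pi.single 1 1) 0, sperm (Pi.single 2 1) 0, sperm 0 1} : Set _)

theorem S81_le : S81 ≤ Iso6 := by
  rw [S81, Subgroup.closure_le]
  rintro x (rfl | rfl | rfl | rfl) <;> exact sperm_mem _ _

theorem mem_S81 {g : Equiv.Perm W6} (hg : g ∈ S81) : ∃ e k, g = sperm e k := by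
  have key : ∀ y ∈ ({sperm (Pi.single 0 1) 0, sperm (Pi.single 1 1) 0, sperm (Pi.single 2 1) 0, sperm 0 1} : Set _),
      ∀ e k, ∃ e' k', y * sperm e k = sperm e' k' := by
    intro y hy e k
    rcases hy with rfl | rfl | rfl | rfl
    · exact ⟨_, _, Equiv.ext fun u => sperm_step.1 0 e k u⟩
    · exact ⟨_, _, Equiv.ext fun u => sperm_step.1 1 e k u⟩
    · exact ⟨_, _, Equiv.ext fun u => sperm_step.1 2 e k u⟩
    · exact ⟨_, _, Equiv.ext fun u => sperm_step.2 e k u⟩
  induction hg using Subgroup.closure_induction_left with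
  | one => exact ⟨0, 0, Equiv.ext fun u => funext fun i => by simp [sperm, sfun]⟩
  | mul_left y hy g _ ih =>
    obtain ⟨e, k, rfl⟩ := ih
    exact key y hy e k
  | inv_mul_cancel y hy g _ ih =>
    obtain ⟨e, k, rfl⟩ := ih
    obtain ⟨e1, k1, h1⟩ := key y hy e k
    have hcube : ∀ z ∈ ({sperm (Pi.single 0 1) 0, sperm (Pi.single 1 1) 0, sperm (Pi.single 2 1) 0, sperm 0 1} : Set _),
        z⁻¹ = z * z := by
      have : ∀ u : W6, (∀ j : Fin 3, sfun (Pi.single j 1) 0 (sfun (Pi.single j 1) 0 (sfun (Pi.single j 1) 0 u)) = u) ∧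
          sfun 0 1 (sfun 0 1 (sfun 0 1 u)) = u := by decide +kernel
      rintro z (rfl | rfl | rfl | rfl) <;> refine inv_eq_of_mul_eq_one_right (Equiv.ext fun u => ?_)
      · exact (this u).1 0
      · exact (this u).1 1
      · exact (this u).1 2
      · exact (this u).2
    rw [hcube y hy, mul_assoc, h1]
    exact key y hy e1 k1

theorem sperm_inj : ∀ (e e' : Fin 3 → Fin 3) (k k' : Fin 3), (∀ j, sfun e k (Pi.single j (1, 0)) = sfun e' k' (Pi.single j (1, 0))) →
    e = e' ∧ k = k' := by decide +kernel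

theorem mem_sperm (e : Fin 3 → Fin 3) (k : Fin 3) : sperm e k ∈ S81 := by
  have hgen : ∀ j, sperm (Pi.single j 1) 0 ∈ S81 := by
    intro j; fin_cases j <;> exact Subgroup.subset_closure (by simp)
  have hc : sperm 0 1 ∈ S81 := Subgroup.subset_closure (by simp)
  have hp : ∀ (f : Fin 3 → Fin 3) (k : Fin 3), sperm f k = sperm f 0 * sperm 0 k := fun f k =>
    Equiv.ext fun u => funext fun i => by simp [sperm, sfun]
  have hadd : ∀ f g : Fin 3 → Fin 3, sperm (f + g) 0 = sperm f 0 * sperm g 0 := fun f g =>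
    Equiv.ext fun u => funext fun i => by
      simp only [sperm, sfun, Equiv.Perm.coe_mul, Function.comp_apply, Equiv.coe_fn_mk, sub_zero, Pi.add_apply]
      exact (show ∀ (a b : Fin 3) (p : ZMod 2 × ZMod 2), turn^[(a + b).1] p = turn^[a.1] (turn^[b.1] p) by decide) _ _ _
  have hsum : e = Pi.single 0 (e 0) + Pi.single 1 (e 1) + Pi.single 2 (e 2) := by funext i; fin_cases i <;> simp
  have h1 : ∀ j (a : Fin 3), sperm (Pi.single j a) 0 ∈ S81 := by
    intro j a
    fin_cases a
    · have : sperm (Pi.single j (0 : Fin 3)) 0 = 1 := Equiv.ext fun u => funext fun i => by simp [sperm, sfun]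
      exact this ▸ one_mem _
    · exact hgen j
    · have : sperm (Pi.single j (2 : Fin 3)) 0 = sperm (Pi.single j 1) 0 * sperm (Pi.single j 1) 0 := by
        rw [← hadd, ← Pi.single_add]; rfl
      exact this ▸ mul_mem (hgen j) (hgen j)
  rw [hp, hsum, hadd, hadd]
  refine mul_mem (mul_mem (mul_mem (h1 _ _) (h1 _ _)) (h1 _ _)) ?_
  fin_cases k
  · exact (show sperm 0 (0 : Fin 3) = 1 from Equiv.ext fun u => funext fun i => by simp [sperm, sfun]) ▸ one_mem _
  · exact hc
  · exact (show sperm 0 (2 : Fin 3) = sperm 0 1 * sperm 0 1 from Equiv.ext fun u => funext fun i => by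
      simp [sperm, sfun, sub_sub]) ▸ mul_mem hc hc

/-- The codes are the elements. -/
noncomputable def s81Equiv : (Fin 3 → Fin 3) × Fin 3 ≃ S81 :=
  Equiv.ofBijective (fun p => ⟨sperm p.1 p.2, mem_sperm _ _⟩) ⟨fun p p' h => by
    obtain ⟨h1, h2⟩ := sperm_inj p.1 p'.1 p.2 p'.2 fun j =>
      congrFun (congrArg DFunLike.coe (congrArg Subtype.val h)) (Pi.single j (1, 0))
    exact Prod.ext h1 h2, fun g => by
    obtain ⟨e, k, h⟩ := mem_S81 g.2
    exact ⟨(e, k), Subtype.ext h.symm⟩⟩

theorem card_S81 : Nat.card S81 = 81 := by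
  rw [← Nat.card_congr s81Equiv]
  simp

theorem centre_S81 : ∀ (e : Fin 3 → Fin 3) (k : Fin 3),
    (∀ j u, sfun e k (sfun (Pi.single j 1) 0 u) = sfun (Pi.single j 1) 0 (sfun e k u)) →
    (∀ u, sfun e k (sfun 0 1 u) = sfun 0 1 (sfun e k u)) → k = 0 ∧ e 0 = e 1 ∧ e 1 = e 2 := by decide +kernel

/-- All pairs. -/
def all4 : List (ZMod 2 × ZMod 2) := [(0, 0), (1, 0), (0, 1), (1, 1)]

/-- The vectors of norm one. -/
def units : List W6 :=
  (all4.flatMap fun a => all4.flatMap fun b => all4.map fun c => ![a, b, c]).filter fun u => q6 u == 1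

theorem mem_units : ∀ u : W6, q6 u = 1 → u ∈ units := by decide +kernel

/-- Orthogonality of the lines over the field with four elements. -/
def orth4 (a b : W6) : Bool :=
  pol6 a b == 0 && pol6 (zeta6 a) b == 0 && pol6 a (zeta6 b) == 0 && pol6 (zeta6 a) (zeta6 b) == 0

/-- The first vectors of orthonormal frames. -/
def triples : List (W6 × W6 × W6) :=
  units.flatMap fun a => (units.filter (orth4 a)).flatMap fun b =>
    ((units.filter (orth4 a)).filter (orth4 b)).map fun c => (a, b, c)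

theorem length_triples : triples.length = 648 := by decide +kernel

/-- The centraliser of the fixed-point-free element. -/
def CZ : Subgroup (Equiv.Perm W6) := Iso6 ⊓ Subgroup.centralizer {zeta6}

/-- The standard frame. -/
def fr (j : Fin 3) : W6 := Pi.single j (1, 0)

theorem fr_decomp : ∀ u : W6, u = ((if (u 0).1 = 1 then fr 0 else 0) + (if (u 0).2 = 1 then zeta6 (fr 0) else 0)) +
    ((if (u 1).1 = 1 then fr 1 else 0) + (if (u 1).2 = 1 then zeta6 (fr 1) else 0)) +
    ((if (u 2).1 = 1 then fr 2 else 0) + (if (u 2).2 = 1 then zeta6 (fr 2) else 0)) := by decide +kernel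

theorem card_CZ : Nat.card CZ ≤ 648 := by
  classical
  have hz : ∀ h : CZ, ∀ u, (h : Equiv.Perm W6) (zeta6 u) = zeta6 ((h : Equiv.Perm W6) u) := fun h u => by
    have := Equiv.Perm.ext_iff.1 (Subgroup.mem_centralizer_iff.1 h.2.2 zeta6 rfl) u
    simpa using this.symm
  let f : CZ → {t // t ∈ triples} := fun h =>
    ⟨((h : Equiv.Perm W6) (fr 0), (h : Equiv.Perm W6) (fr 1), (h : Equiv.Perm W6) (fr 2)), by
      have hu : ∀ j, (h : Equiv.Perm W6) (fr j) ∈ units := fun j => mem_units _ (by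
        rw [h.2.1.2]; revert j; decide)
      have ho : ∀ i j, i ≠ j → orth4 ((h : Equiv.Perm W6) (fr i)) ((h : Equiv.Perm W6) (fr j)) = true := by
        intro i j hij
        simp only [orth4, ← hz h, pol6_map h.2.1]
        revert i j; decide +kernel
      simp only [triples, List.mem_flatMap, List.mem_map, List.mem_filter]
      exact ⟨_, hu 0, _, ⟨hu 1, ho 0 1 (by decide)⟩, _, ⟨⟨hu 2, ho 0 2 (by decide)⟩, ho 1 2 (by decide)⟩, rfl⟩⟩
  have hf : Function.Injective f := fun g h e => by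
    simp only [f, Subtype.mk.injEq, Prod.mk.injEq] at e
    refine Subtype.ext (Equiv.ext fun u => ?_)
    have hadd : ∀ (k : CZ) (a b : W6), (k : Equiv.Perm W6) (a + b) = (k : Equiv.Perm W6) a + (k : Equiv.Perm W6) b :=
      fun k => k.2.1.1
    have h0 : ∀ k : CZ, (k : Equiv.Perm W6) 0 = 0 := fun k => by simpa using hadd k 0 0
    rw [fr_decomp u]
    simp only [hadd, apply_ite (g : Equiv.Perm W6), apply_ite (h : Equiv.Perm W6), h0, hz, e.1, e.2.1, e.2.2]
  have h1 := Nat.card_le_card_of_injective f hf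
  calc Nat.card CZ ≤ Nat.card {t // t ∈ triples} := h1
    _ ≤ triples.length := by
      rw [Nat.card_congr (Equiv.subtypeEquivRight fun t => (List.mem_toFinset (l := triples) (a := t)).symm),
        Nat.card_eq_fintype_card, Fintype.card_coe]
      exact List.toFinset_card_le _
    _ = 648 := length_triples

theorem isPGroup_S81 : IsPGroup 3 S81 := IsPGroup.of_card (n := 4) (by rw [card_S81]; norm_num)

/-- A 3-subgroup of the isometries has order at most 81. -/
theorem card_le_of_three {T : Subgroup (Equiv.Perm W6)} (hT : IsPGroup 3 T) (hle : T ≤ Iso6) : Nat.card T ≤ 81 := by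
  haveI : Fact (Nat.Prime 3) := ⟨Nat.prime_three⟩
  obtain ⟨n, hn⟩ := IsPGroup.iff_card.1 hT
  have h : 3 ^ n ∣ 20158709760 := hn ▸ (Subgroup.card_dvd_of_le hle).trans card_Iso6
  by_contra hcon
  rw [hn] at hcon
  have h4 : 5 ≤ n := by
    by_contra hlt
    have := Nat.pow_le_pow_right (show 1 ≤ 3 by norm_num) (show n ≤ 4 by omega)
    omega
  exact absurd ((pow_dvd_pow 3 h4).trans h) (by decide)

/-- A subgroup of order 648 with a central element of order three is the centraliser of `zeta6`, after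
conjugation in the isometries. -/
theorem exists_conj_CZ {T : Subgroup (Equiv.Perm W6)} (hle : T ≤ Iso6) (hcard : 648 ∣ Nat.card T)
    (hcen : ∃ c ∈ T, orderOf c = 3 ∧ ∀ g ∈ T, Commute c g) :
    ∃ h ∈ Iso6, T.map (MulAut.conj h).toMonoidHom = CZ := by
  classical
  haveI : Fact (Nat.Prime 3) := ⟨Nat.prime_three⟩
  obtain ⟨c, hcT, hc3, hcc⟩ := hcen
  obtain ⟨P⟩ := (inferInstance : Nonempty (Sylow 3 T))
  have hP81 : Nat.card (P : Subgroup T) = 81 := by
    refine le_antisymm ?_ (Nat.le_of_dvd Nat.card_pos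
      (P.pow_dvd_card_of_pow_dvd_card (n := 4) ((show 3 ^ 4 ∣ 648 by norm_num).trans hcard)))
    rw [← Subgroup.card_map_of_injective T.subtype_injective]
    exact card_le_of_three (P.isPGroup'.map _) ((Subgroup.map_subtype_le _).trans hle)
  set P' : Subgroup Iso6 := ((P : Subgroup T).map T.subtype).subgroupOf Iso6
  set S' : Subgroup Iso6 := S81.subgroupOf Iso6
  have hPle : (P : Subgroup T).map T.subtype ≤ Iso6 := (Subgroup.map_subtype_le _).trans hle
  have hsyl : ∀ {X : Subgroup (Equiv.Perm W6)}, X ≤ Iso6 → Nat.card X = 81 →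
      ∃ Y : Sylow 3 Iso6, (Y : Subgroup Iso6) = X.subgroupOf Iso6 := fun {X} hX h81 => by
    have hp : IsPGroup 3 (X.subgroupOf Iso6) :=
      IsPGroup.of_card (n := 4) (by rw [Nat.card_congr (Subgroup.subgroupOfEquivOfLe hX).toEquiv, h81]; norm_num)
    obtain ⟨Y, hY⟩ := hp.exists_le_sylow
    refine ⟨Y, (Subgroup.eq_of_le_of_card_ge hY ?_).symm⟩
    rw [Nat.card_congr (Subgroup.subgroupOfEquivOfLe hX).toEquiv, h81,
      ← Subgroup.card_map_of_injective Iso6.subtype_injective]
    exact card_le_of_three (Y.isPGroup'.map _) (Subgroup.map_subtype_le _)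
  obtain ⟨YP, hYP⟩ := hsyl hPle (by rw [Subgroup.card_map_of_injective T.subtype_injective, hP81])
  obtain ⟨YS, hYS⟩ := hsyl S81_le card_S81
  obtain ⟨g, hg⟩ := MulAction.exists_smul_eq Iso6 YP YS
  set T' := T.map (MulAut.conj (g : Equiv.Perm W6)).toMonoidHom with hT'
  have hT'le : T' ≤ Iso6 := by
    rintro _ ⟨x, hx, rfl⟩; exact mul_mem (mul_mem g.2 (hle hx)) (inv_mem g.2)
  have hST : S81 ≤ T' := by
    intro s hs
    have h1 : (⟨s, S81_le hs⟩ : Iso6) ∈ (YS : Subgroup Iso6) := hYS ▸ Subgroup.mem_subgroupOf.2 hs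
    rw [← hg] at h1
    obtain ⟨y, hy, e⟩ := h1
    obtain ⟨x, hx, ex⟩ := Subgroup.mem_subgroupOf.1 (hYP ▸ hy : y ∈ _)
    exact ⟨x, x.2, by simpa [← ex] using congrArg Subtype.val e⟩
  set c' := MulAut.conj (g : Equiv.Perm W6) c with hc'
  have hc'T : c' ∈ T' := ⟨c, hcT, rfl⟩
  have hc'c : ∀ y ∈ T', Commute c' y := by
    rintro _ ⟨x, hx, rfl⟩; exact (hcc x hx).map (MulAut.conj (g : Equiv.Perm W6)).toMonoidHom
  have hc'3 : orderOf c' = 3 := by rw [hc', MulEquiv.orderOf_eq, hc3]
  have hsup : c' ∈ S81 := by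
    have hzp : IsPGroup 3 (Subgroup.zpowers c') := IsPGroup.of_card (n := 1) (by rw [Nat.card_zpowers, hc'3]; norm_num)
    have hn : Subgroup.zpowers c' ≤ Subgroup.normalizer (S81 : Set (Equiv.Perm W6)) :=
      Subgroup.zpowers_le.2 (Subgroup.mem_normalizer_iff.2 fun x => by
        constructor
        · intro hx; rw [(hc'c x (hST hx)).eq, mul_inv_cancel_right]; exact hx
        · intro hx
          have e : x = c' * x * c'⁻¹ := by
            have := (hc'c _ (hST hx)).eq
            calc x = c'⁻¹ * (c' * x * c'⁻¹) * c' := by group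
              _ = c'⁻¹ * ((c' * x * c'⁻¹) * c') := by group
              _ = c' * x * c'⁻¹ := by rw [← this]; group
          exact e ▸ hx)
    have hp := isPGroup_S81.to_sup_of_normal_left' hzp hn
    have := Subgroup.eq_of_le_of_card_ge (le_sup_left : S81 ≤ S81 ⊔ Subgroup.zpowers c') (by
      rw [card_S81]
      exact card_le_of_three hp (sup_le S81_le (Subgroup.zpowers_le.2 (hT'le hc'T))))
    exact this ▸ Subgroup.mem_sup_right (Subgroup.mem_zpowers c')
  obtain ⟨e, k, hek⟩ := mem_S81 hsup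
  obtain ⟨rfl, e01, e12⟩ := centre_S81 e k
    (fun j u => by
      have := Equiv.Perm.ext_iff.1 (hc'c _ (hST (mem_sperm (Pi.single j 1) 0))).eq u
      rw [hek] at this; simpa [sperm] using this)
    (fun u => by
      have := Equiv.Perm.ext_iff.1 (hc'c _ (hST (mem_sperm 0 1))).eq u
      rw [hek] at this; simpa [sperm] using this)
  have hec : e = fun _ => e 0 := by funext i; fin_cases i <;> simp [e01, e12]
  have hzc : ∀ y ∈ T', Commute zeta6 y := by
    intro y hy
    have h0 : e 0 ≠ 0 := fun h0 => by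
      have : c' = 1 := by
        rw [hek, hec, h0]; exact Equiv.ext fun u => funext fun i => by simp [sperm, sfun]
      rw [this, orderOf_one] at hc'3; norm_num at hc'3
    rcases (show ∀ a : Fin 3, a ≠ 0 → a = 1 ∨ a = 2 by decide) _ h0 with h1 | h1
    · have : zeta6 = c' := by rw [hek, hec, h1]; rfl
      exact this ▸ hc'c y hy
    · have : zeta6 = c' * c' := by rw [hek, hec, h1]; exact Equiv.ext (by decide +kernel)
      exact this ▸ (hc'c y hy).mul_left (hc'c y hy)
  have hle' : T' ≤ CZ := fun y hy =>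
    ⟨hT'le hy, Subgroup.mem_centralizer_iff.2 (by rintro _ rfl; exact (hzc y hy).eq)⟩
  exact ⟨g, g.2, Subgroup.eq_of_le_of_card_ge hle' (by
    rw [Subgroup.card_map_of_injective (MulAut.conj (g : Equiv.Perm W6)).injective]
    exact card_CZ.trans (Nat.le_of_dvd Nat.card_pos hcard))⟩

end Cfsg.Lib.Fi23Three
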