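import Cfsg.Agent.Lib.Fi23Three.Mat

/-!
# Three commuting quaternion pairs act as on the tensor product

Three commuting pairs of anticommuting square roots of `-1` on the space are equivalent to the standard ones,
an invariant form is a multiple of the standard one, and what commutes with all of them is a scalar.
-/

set_option autoImplicit false
set_option linter.unusedSectionVars false
set_option maxRecDepth 100000

namespace Cfsg.Lib.Fi23Three

/-- The first quaternion generator of a factor. -/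
def RA : Fin 3 → M8 :=
  ![[[0, 0, 0, 0, 1, 0, 0, 0], [0, 0, 0, 0, 0, 1, 0, 0], [0, 0, 0, 0, 0, 0, 1, 0], [0, 0, 0, 0, 0, 0, 0, 1], [2, 0, 0, 0, 0, 0, 0, 0], [0, 2, 0, 0, 0, 0, 0, 0], [0, 0, 2, 0, 0, 0, 0, 0], [0, 0, 0, 2, 0, 0, 0, 0]],
    [[0, 0, 1, 0, 0, 0, 0, 0], [0, 0, 0, 1, 0, 0, 0, 0], [2, 0, 0, 0, 0, 0, 0, 0], [0, 2, 0, 0, 0, 0, 0, 0], [0, 0, 0, 0, 0, 0, 1, 0], [0, 0, 0, 0, 0, 0, 0, 1], [0, 0, 0, 0, 2, 0, 0, 0], [0, 0, 0, 0, 0, 2, 0, 0]],
    [[0, 1, 0, 0, 0, 0, 0, 0], [2, 0, 0, 0, 0, 0, 0, 0], [0, 0, 0, 1, 0, 0, 0, 0], [0, 0, 2, 0, 0, 0, 0, 0], [0, 0, 0, 0, 0, 1, 0, 0], [0, 0, 0, 0, 2, 0, 0, 0], [0, 0, 0, 0, 0, 0, 0, 1], [0, 0, 0, 0, 0, 0, 2, 0]]]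

/-- The second quaternion generator of a factor. -/
def RB : Fin 3 → M8 :=
  ![[[1, 0, 0, 0, 1, 0, 0, 0], [0, 1, 0, 0, 0, 1, 0, 0], [0, 0, 1, 0, 0, 0, 1, 0], [0, 0, 0, 1, 0, 0, 0, 1], [1, 0, 0, 0, 2, 0, 0, 0], [0, 1, 0, 0, 0, 2, 0, 0], [0, 0, 1, 0, 0, 0, 2, 0], [0, 0, 0, 1, 0, 0, 0, 2]],
    [[1, 0, 1, 0, 0, 0, 0, 0], [0, 1, 0, 1, 0, 0, 0, 0], [1, 0, 2, 0, 0, 0, 0, 0], [0, 1, 0, 2, 0, 0, 0, 0], [0, 0, 0, 0, 1, 0, 1, 0], [0, 0, 0, 0, 0, 1, 0, 1], [0, 0, 0, 0, 1, 0, 2, 0], [0, 0, 0, 0, 0, 1, 0, 2]],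
    [[1, 1, 0, 0, 0, 0, 0, 0], [1, 2, 0, 0, 0, 0, 0, 0], [0, 0, 1, 1, 0, 0, 0, 0], [0, 0, 1, 2, 0, 0, 0, 0], [0, 0, 0, 0, 1, 1, 0, 0], [0, 0, 0, 0, 1, 2, 0, 0], [0, 0, 0, 0, 0, 0, 1, 1], [0, 0, 0, 0, 0, 0, 1, 2]]]

/-- A tensor index. -/
def idx (x : Fin 3 → Fin 2) : Fin 8 := ⟨(x 0).1 * 4 + (x 1).1 * 2 + (x 2).1, by omega⟩

theorem idx_surj : ∀ q : Fin 8, ∃ x, idx x = q := by decide +kernel

theorem RA_bas : ∀ (i : Fin 3) (x : Fin 3 → Fin 2),
    (x i = 0 → ev (RA i) (bas (idx x)) = -bas (idx (Function.update x i 1))) ∧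
    (x i = 1 → ev (RA i) (bas (idx x)) = bas (idx (Function.update x i 0))) ∧
    (x i = 0 → ev (RB i) (bas (idx x)) = bas (idx x) + bas (idx (Function.update x i 1))) ∧
    (x i = 1 → ev (RB i) (bas (idx x)) = bas (idx (Function.update x i 0)) - bas (idx x)) := by decide +kernel

/-- Three commuting quaternion pairs of operators. -/
structure Ops where
  A : Fin 3 → V →+ V
  B : Fin 3 → V →+ V
  A_sq : ∀ i v, A i (A i v) = -v
  B_sq : ∀ i v, B i (B i v) = -v
  anti : ∀ i v, A i (B i v) = -B i (A i v)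
  cAA : ∀ i j v, A i (A j v) = A j (A i v)
  cBB : ∀ i j v, B i (B j v) = B j (B i v)
  cAB : ∀ i j, i ≠ j → ∀ v, A i (B j v) = B j (A i v)

/-- The standard operators. -/
def evHom (M : M8) : V →+ V := AddMonoidHom.mk' (ev M) (ev_add M)

theorem ev_eq (M N : M8) (h : ∀ q, ev M (bas q) = ev N (bas q)) (v : V) : ev M v = ev N v :=
  ext_bas (ev_add M) (ev_add N) h v

namespace Ops

variable (O : Ops)

/-- The projection on a factor. -/
def P (i : Fin 3) (v : V) : V := -v + O.B i v + O.A i (O.B i v)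

/-- The vectors fixed by the projection. -/
def Fix (i : Fin 3) (u : V) : Prop := O.B i u = u - O.A i u

theorem three (u : V) : u + u + u = 0 :=
  funext fun i => (show ∀ p : ZMod 3 × ZMod 3, p + p + p = 0 by decide) (u i)

theorem P_fix (i : Fin 3) (v : V) : O.Fix i (O.P i v) := by
  unfold Fix P
  have h : O.B i (O.A i (O.B i v)) = O.A i v := by
    rw [← neg_eq_iff_eq_neg.2 (O.anti i (O.B i v)), O.B_sq, map_neg, neg_neg]
  simp only [map_add, map_neg, O.B_sq, h, O.A_sq]
  funext j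
  simp only [Pi.add_apply, Pi.neg_apply, Pi.sub_apply]
  exact Prod.ext ((show ∀ b v a c : ZMod 3, -b + -v + a = -v + b + c - (-a + c + -b) by decide) _ _ _ _)
    ((show ∀ b v a c : ZMod 3, -b + -v + a = -v + b + c - (-a + c + -b) by decide) _ _ _ _)

theorem P_A (i : Fin 3) (u : V) : O.P i (O.A i u) = O.A i (-u - O.B i u - O.A i (O.B i u)) := by
  have h : O.B i (O.A i u) = -O.A i (O.B i u) := by rw [O.anti, neg_neg]
  simp only [P, h, map_neg, map_sub, O.A_sq]
  abel

theorem exists_ne_P (i : Fin 3) {u : V} (hu : u ≠ 0) : O.P i u ≠ 0 ∨ O.P i (O.A i u) ≠ 0 := by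
  by_contra hcon
  push Not at hcon
  obtain ⟨h1, h2⟩ := hcon
  rw [P_A] at h2
  have h3 : -u - O.B i u - O.A i (O.B i u) = 0 := by
    have := congrArg (O.A i) h2
    rwa [O.A_sq, map_zero, neg_eq_zero] at this
  refine hu ?_
  have h5 : u = O.P i u + (-u - O.B i u - O.A i (O.B i u)) := by
    funext j
    simp only [P, Pi.add_apply, Pi.neg_apply, Pi.sub_apply]
    exact (show ∀ b v c : ZMod 3 × ZMod 3, v = -v + b + c + (-v - b - c) by decide +kernel) _ _ _
  rw [h5, h1, h3, add_zero]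

variable {O} in
theorem Fix.A {i : Fin 3} {u : V} (h : O.Fix i u) {j : Fin 3} (hj : i ≠ j) : O.Fix i (O.A j u) := by
  unfold Fix at h ⊢
  rw [← O.cAB j i hj.symm, h, map_sub, O.cAA]

variable {O} in
theorem Fix.B {i : Fin 3} {u : V} (h : O.Fix i u) {j : Fin 3} (hj : i ≠ j) : O.Fix i (O.B j u) := by
  unfold Fix at h ⊢
  rw [O.cBB, h, map_sub, ← O.cAB i j hj]

variable {O} in
theorem Fix.P {i : Fin 3} {u : V} (h : O.Fix i u) {j : Fin 3} (hj : i ≠ j) : O.Fix i (O.P j u) := by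
  have h1 := h.B hj
  have h2 := h1.A hj
  unfold Fix at h h1 h2 ⊢
  simp only [Ops.P, map_add, map_neg, h, h1, h2]
  abel

/-- A common fixed vector. -/
theorem exists_fix : ∃ v, v ≠ 0 ∧ ∀ i, O.Fix i v := by
  obtain ⟨u, hu⟩ := exists_ne (0 : V)
  obtain ⟨u0, hu0, h00⟩ : ∃ u0, u0 ≠ 0 ∧ O.Fix 0 u0 := by
    rcases O.exists_ne_P 0 hu with h | h <;> exact ⟨_, h, O.P_fix _ _⟩
  obtain ⟨u1, hu1, h10, h11⟩ : ∃ u1, u1 ≠ 0 ∧ O.Fix 0 u1 ∧ O.Fix 1 u1 := by
    rcases O.exists_ne_P 1 hu0 with h | h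
    · exact ⟨_, h, h00.P (by decide), O.P_fix _ _⟩
    · exact ⟨_, h, (h00.A (by decide)).P (by decide), O.P_fix _ _⟩
  rcases O.exists_ne_P 2 hu1 with h | h
  · refine ⟨_, h, fun i => ?_⟩
    fin_cases i
    exacts [h10.P (by decide), h11.P (by decide), O.P_fix _ _]
  · refine ⟨_, h, fun i => ?_⟩
    fin_cases i
    exacts [(h10.A (by decide)).P (by decide), (h11.A (by decide)).P (by decide), O.P_fix _ _]

/-- The shift of a factor. -/
def shift (i : Fin 3) (c : Fin 2) (u : V) : V := if c = 0 then u else -O.A i u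

variable {O} in
theorem Fix.shift {i : Fin 3} {u : V} (h : O.Fix i u) {j : Fin 3} (hj : i ≠ j) (c : Fin 2) : O.Fix i (O.shift j c u) := by
  have h1 := h.A hj
  unfold Fix at h h1 ⊢
  unfold Ops.shift
  split_ifs with hc
  · exact h
  · simp only [map_neg, h1]; abel

theorem shift_comm (i j : Fin 3) (c d : Fin 2) (u : V) : O.shift i c (O.shift j d u) = O.shift j d (O.shift i c u) := by
  unfold shift; split_ifs <;> simp [O.cAA i j u]

/-- The vectors of the basis. -/
def w (v : V) (x : Fin 3 → Fin 2) : V := O.shift 0 (x 0) (O.shift 1 (x 1) (O.shift 2 (x 2) v))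

theorem w_spec {v : V} (hv : ∀ i, O.Fix i v) (i : Fin 3) (x : Fin 3 → Fin 2) :
    ∃ u, O.Fix i u ∧ ∀ c, O.w v (Function.update x i c) = O.shift i c u := by
  obtain rfl | rfl | rfl := (show ∀ i : Fin 3, i = 0 ∨ i = 1 ∨ i = 2 by decide) i
  · exact ⟨_, ((hv 0).shift (j := 2) (by decide) (x 2)).shift (j := 1) (by decide) (x 1), fun c => by
      simp [w, Function.update]⟩
  · exact ⟨_, ((hv 1).shift (j := 2) (by decide) (x 2)).shift (j := 0) (by decide) (x 0), fun c => by
      rw [O.shift_comm 1 0]; simp [w, Function.update]⟩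
  · exact ⟨_, ((hv 2).shift (j := 1) (by decide) (x 1)).shift (j := 0) (by decide) (x 0), fun c => by
      rw [O.shift_comm 2 0, O.shift_comm 2 1]; simp [w, Function.update]⟩

theorem act_w {v : V} (hv : ∀ i, O.Fix i v) (i : Fin 3) (x : Fin 3 → Fin 2) :
    (x i = 0 → O.A i (O.w v x) = -O.w v (Function.update x i 1)) ∧
    (x i = 1 → O.A i (O.w v x) = O.w v (Function.update x i 0)) ∧
    (x i = 0 → O.B i (O.w v x) = O.w v x + O.w v (Function.update x i 1)) ∧
    (x i = 1 → O.B i (O.w v x) = O.w v (Function.update x i 0) - O.w v x) := by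
  obtain ⟨u, hu, h⟩ := O.w_spec hv i x
  have hx : O.w v x = O.shift i (x i) u := by rw [← h, Function.update_eq_self]
  unfold Fix at hu
  refine ⟨fun e => ?_, fun e => ?_, fun e => ?_, fun e => ?_⟩ <;> rw [hx, h, e] <;>
    simp only [shift, if_true, if_false, reduceCtorEq, Fin.one_eq_zero_iff, OfNat.ofNat_ne_one, neg_neg, map_neg]
  · rw [O.A_sq, neg_neg]
  · rw [hu, sub_eq_add_neg]
  · rw [show O.B i (O.A i u) = -O.A i (O.B i u) by rw [O.anti, neg_neg], hu, map_sub, O.A_sq]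
    abel

/-- The map from the standard module. -/
def toHom (v : V) : V →+ V :=
  AddMonoidHom.mk' (fun u => ∑ x : Fin 3 → Fin 2, co u (idx x) • O.w v x) fun a b => by
    rw [← Finset.sum_add_distrib]
    exact Finset.sum_congr rfl fun x _ => by rw [co_add, Pi.add_apply, add_smul]

theorem idx_inj : ∀ x y : Fin 3 → Fin 2, idx x = idx y → x = y := by decide +kernel

theorem toHom_bas (v : V) (x : Fin 3 → Fin 2) : O.toHom v (bas (idx x)) = O.w v x := by
  show ∑ y : Fin 3 → Fin 2, co (bas (idx x)) (idx y) • O.w v y = _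
  rw [Finset.sum_eq_single x (fun y _ hy => by
    rw [co_bas, Pi.single_eq_of_ne (fun e => hy (idx_inj _ _ e)), zero_smul]) (by simp), co_bas, Pi.single_eq_same,
    one_smul]

theorem intertwine {v : V} (hv : ∀ i, O.Fix i v) (i : Fin 3) (u : V) :
    O.toHom v (ev (RA i) u) = O.A i (O.toHom v u) ∧ O.toHom v (ev (RB i) u) = O.B i (O.toHom v u) := by
  constructor
  · refine ext_bas (f := fun u => O.toHom v (ev (RA i) u)) (g := fun u => O.A i (O.toHom v u))
      (fun a b => by simp [ev_add]) (fun a b => by simp) (fun q => ?_) u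
    obtain ⟨x, rfl⟩ := idx_surj q
    obtain ⟨h0, h1, -, -⟩ := RA_bas i x
    obtain ⟨k0, k1, -, -⟩ := O.act_w hv i x
    rcases (show ∀ c : Fin 2, c = 0 ∨ c = 1 by decide) (x i) with e | e
    · simp only [h0 e, k0 e, map_neg, toHom_bas]
    · simp only [h1 e, k1 e, toHom_bas]
  · refine ext_bas (f := fun u => O.toHom v (ev (RB i) u)) (g := fun u => O.B i (O.toHom v u))
      (fun a b => by simp [ev_add]) (fun a b => by simp) (fun q => ?_) u
    obtain ⟨x, rfl⟩ := idx_surj q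
    obtain ⟨-, -, h0, h1⟩ := RA_bas i x
    obtain ⟨-, -, k0, k1⟩ := O.act_w hv i x
    rcases (show ∀ c : Fin 2, c = 0 ∨ c = 1 by decide) (x i) with e | e
    · simp only [h0 e, k0 e, map_add, toHom_bas]
    · simp only [h1 e, k1 e, map_sub, toHom_bas]

end Ops

/-- The standard projection. -/
def Pst (i : Fin 3) (v : V) : V := -v + ev (RB i) v + ev (RA i) (ev (RB i) v)

theorem Pst_add (i : Fin 3) (a b : V) : Pst i (a + b) = Pst i a + Pst i b := by
  simp only [Pst, ev_add]; abel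

theorem Pst_bas : ∀ (i : Fin 3) (x : Fin 3 → Fin 2),
    (x i = 0 → Pst i (bas (idx x)) = bas (idx x)) ∧ (x i = 1 → Pst i (bas (idx x)) = 0) := by decide +kernel

theorem Pst_all (v : V) : Pst 0 (Pst 1 (Pst 2 v)) = co v 0 • bas 0 := by
  refine ext_bas (f := fun v => Pst 0 (Pst 1 (Pst 2 v))) (g := fun v => co v 0 • bas 0)
    (fun a b => by simp only [Pst_add]) (fun a b => by simp only [co_add, Pi.add_apply, add_smul]) (fun q => ?_) v
  obtain ⟨x, rfl⟩ := idx_surj q
  have hz : ∀ i, Pst i (0 : V) = 0 := fun i => by simpa using Pst_add i 0 0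
  have hne : ∀ i, x i = 1 → (0 : Fin 8) ≠ idx x := by revert x; decide
  simp only [co_bas]
  rcases (show ∀ c : Fin 2, c = 0 ∨ c = 1 by decide) (x 2) with e2 | e2
  · rw [(Pst_bas 2 x).1 e2]
    rcases (show ∀ c : Fin 2, c = 0 ∨ c = 1 by decide) (x 1) with e1 | e1
    · rw [(Pst_bas 1 x).1 e1]
      rcases (show ∀ c : Fin 2, c = 0 ∨ c = 1 by decide) (x 0) with e0 | e0
      · have hx : idx x = 0 := by simp [idx, e0, e1, e2]
        rw [(Pst_bas 0 x).1 e0, hx, Pi.single_eq_same, one_smul]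
      · rw [(Pst_bas 0 x).2 e0, Pi.single_eq_of_ne (hne 0 e0), zero_smul]
    · rw [(Pst_bas 1 x).2 e1, hz, Pi.single_eq_of_ne (hne 1 e1), zero_smul]
  · rw [(Pst_bas 2 x).2 e2, hz, hz, Pi.single_eq_of_ne (hne 2 e2), zero_smul]

/-- One step of `reach`. -/
def stepR (x : Fin 3 → Fin 2) (i : Fin 3) (u : V) : V := if x i = 0 then u else ev (RA i) u

theorem stepR_add (x : Fin 3 → Fin 2) (i : Fin 3) (a b : V) : stepR x i (a + b) = stepR x i a + stepR x i b := by
  unfold stepR; split_ifs <;> simp [ev_add]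

/-- Reaching the first coordinate. -/
def reach (x : Fin 3 → Fin 2) (v : V) : V := stepR x 0 (stepR x 1 (stepR x 2 v))

theorem RA_co : ∀ (i : Fin 3) (y : Fin 3 → Fin 2) (q : Fin 8), y i = 0 →
    co (ev (RA i) (bas q)) (idx y) = co (bas q) (idx (Function.update y i 1)) := by decide +kernel

theorem co_step (x : Fin 3 → Fin 2) (i : Fin 3) (y : Fin 3 → Fin 2) (hy : y i = 0) (u : V) :
    co (stepR x i u) (idx y) = co u (idx (Function.update y i (x i))) := by
  rcases (show ∀ c : Fin 2, c = 0 ∨ c = 1 by decide) (x i) with e | e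
  · rw [stepR, if_pos e, e, show Function.update y i 0 = y by rw [← hy, Function.update_eq_self]]
  · rw [stepR, if_neg (by rw [e]; decide), e]
    let F : V →+ ZMod 3 := AddMonoidHom.mk' (fun v => co (ev (RA i) v) (idx y)) fun a b => by
      rw [ev_add, co_add, Pi.add_apply]
    let Gh : V →+ ZMod 3 := AddMonoidHom.mk' (fun v => co v (idx (Function.update y i 1))) fun a b => by
      rw [co_add, Pi.add_apply]
    show F u = Gh u
    rw [eq_sum_bas u, map_sum, map_sum]
    exact Finset.sum_congr rfl fun q _ => by rw [ZMod.map_smul, ZMod.map_smul]; exact congrArg _ (RA_co i y q hy)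

theorem co_reach (x : Fin 3 → Fin 2) (v : V) : co (reach x v) 0 = co v (idx x) := by
  rw [reach, show (0 : Fin 8) = idx 0 by decide, co_step x 0 0 rfl, co_step x 1 _ (by simp [Function.update]),
    co_step x 2 _ (by simp [Function.update])]
  congr 2
  funext i; fin_cases i <;> simp [Function.update]

/-- The operators are equivalent to the standard ones. -/
theorem Ops.exists_equiv (O : Ops) : ∃ φ : V →+ V, Function.Bijective φ ∧
    ∀ i u, φ (ev (RA i) u) = O.A i (φ u) ∧ φ (ev (RB i) u) = O.B i (φ u) := by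
  obtain ⟨v, hv0, hv⟩ := O.exists_fix
  refine ⟨O.toHom v, (Finite.injective_iff_bijective).1 ((injective_iff_map_eq_zero _).2 fun u hu => ?_), O.intertwine hv⟩
  refine co_inj (funext fun q => ?_)
  obtain ⟨x, rfl⟩ := idx_surj q
  have hr : ∀ i a, O.toHom v a = 0 → O.toHom v (ev (RA i) a) = 0 := fun i a ha => by
    rw [(O.intertwine hv i a).1, ha, map_zero]
  have hk : O.toHom v (reach x u) = 0 := by
    have hs : ∀ i a, O.toHom v a = 0 → O.toHom v (stepR x i a) = 0 := fun i a ha => by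
      unfold stepR; split_ifs
      · exact ha
      · exact hr i a ha
    exact hs _ _ (hs _ _ (hs _ _ hu))
  have hP : ∀ i a, O.toHom v a = 0 → O.toHom v (Pst i a) = 0 := fun i a ha => by
    simp [Pst, (O.intertwine hv i _).1, (O.intertwine hv i _).2, ha]
  have h0 := hP 0 _ (hP 1 _ (hP 2 _ hk))
  rw [Pst_all, ZMod.map_smul, show (0 : Fin 8) = idx 0 by decide, O.toHom_bas] at h0
  have hz : co (reach x u) (idx 0) = 0 := (smul_eq_zero.1 h0).resolve_right (by simpa [Ops.w, Ops.shift] using hv0)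
  rw [show idx 0 = 0 by decide] at hz
  rw [show co (0 : V) (idx x) = 0 from congrFun (by funext i; fin_cases i <;> simp [co] : co (0 : V) = 0) (idx x)]
  rw [← co_reach x u, hz]

/-- What commutes with the standard operators is a scalar. -/
theorem scalar_of_commute (C : V →+ V) (hA : ∀ i v, C (ev (RA i) v) = ev (RA i) (C v))
    (hB : ∀ i v, C (ev (RB i) v) = ev (RB i) (C v)) : ∃ c : ZMod 3, ∀ v, C v = c • v := by
  have hP : ∀ i v, C (Pst i v) = Pst i (C v) := fun i v => by simp [Pst, hA, hB]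
  set c := co (C (bas 0)) 0
  have h0 : C (bas 0) = c • bas 0 := by
    have e : Pst 0 (Pst 1 (Pst 2 (bas 0))) = bas 0 := by rw [Pst_all, co_bas, Pi.single_eq_same, one_smul]
    conv_lhs => rw [← e, hP, hP, hP, Pst_all]
  refine ⟨c, fun v => ext_bas (map_add C) (fun a b => smul_add c a b) (fun q => ?_) v⟩
  obtain ⟨x, rfl⟩ := idx_surj q
  have hstep : ∀ (x : Fin 3 → Fin 2) i (y : Fin 3 → Fin 2), y i = 0 → ∀ u, (u = bas (idx y) ∨ u = -bas (idx y)) →
      stepR x i u = bas (idx (Function.update y i (x i))) ∨ stepR x i u = -bas (idx (Function.update y i (x i))) := by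
    intro x i y hy u hu
    rcases (show ∀ c : Fin 2, c = 0 ∨ c = 1 by decide) (x i) with e | e
    · rw [stepR, if_pos e, e, show Function.update y i 0 = y by rw [← hy, Function.update_eq_self]]; exact hu
    · rw [stepR, if_neg (by rw [e]; decide), e]
      have hneg : ∀ v, ev (RA i) (-v) = -ev (RA i) v := fun v => (evHom (RA i)).map_neg v
      rcases hu with rfl | rfl
      · exact Or.inr ((RA_bas i y).1 hy)
      · exact Or.inl (by rw [hneg, (RA_bas i y).1 hy, neg_neg])
  have hw : ∀ x : Fin 3 → Fin 2, reach x (bas 0) = bas (idx x) ∨ reach x (bas 0) = -bas (idx x) := fun x => by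
    have h := hstep x 0 _ (by simp [Function.update]) _ (hstep x 1 _ (by simp [Function.update]) _
      (hstep x 2 0 rfl (bas 0) (Or.inl (congrArg bas (by decide)))))
    rwa [show Function.update (Function.update (Function.update (0 : Fin 3 → Fin 2) 2 (x 2)) 1 (x 1)) 0 (x 0) = x by
      funext i; fin_cases i <;> simp [Function.update]] at h
  have hc : C (reach x (bas 0)) = c • reach x (bas 0) := by
    simp only [reach, stepR]; split_ifs <;> simp [hA, h0, ev_smul]
  rcases hw x with e | e <;> rw [e] at hc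
  · exact hc
  · simpa using hc

theorem ω_standard : ∀ (i : Fin 3) (q r : Fin 8), ω (ev (RA i) (bas q)) (ev (RA i) (bas r)) = ω (bas q) (bas r) ∧
    ω (ev (RB i) (bas q)) (ev (RB i) (bas r)) = ω (bas q) (bas r) := by decide +kernel

theorem ω_add_right (u v w : V) : ω u (v + w) = ω u v + ω u w := by
  rw [ω_swap (v + w) u, ω_swap v u, ω_swap w u, ω_add_left, neg_add]

/-- A map preserving the form on the basis preserves it. -/
theorem ω_ev {M : M8} (h : ∀ q r, ω (ev M (bas q)) (ev M (bas r)) = ω (bas q) (bas r)) (u v : V) :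
    ω (ev M u) (ev M v) = ω u v := by
  have h1 : ∀ r u, ω (ev M u) (ev M (bas r)) = ω u (bas r) := fun r u => by
    let F : V →+ ZMod 3 := AddMonoidHom.mk' (fun u => ω (ev M u) (ev M (bas r))) fun a b => by rw [ev_add, ω_add_left]
    let Gh : V →+ ZMod 3 := AddMonoidHom.mk' (fun u => ω u (bas r)) fun a b => ω_add_left _ _ _
    show F u = Gh u
    rw [eq_sum_bas u, map_sum, map_sum]
    exact Finset.sum_congr rfl fun q _ => by rw [ZMod.map_smul, ZMod.map_smul]; exact congrArg _ (h q r)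
  let F : V →+ ZMod 3 := AddMonoidHom.mk' (fun v => ω (ev M u) (ev M v)) fun a b => by rw [ev_add, ω_add_right]
  let Gh : V →+ ZMod 3 := AddMonoidHom.mk' (fun v => ω u v) fun a b => ω_add_right _ _ _
  show F v = Gh v
  rw [eq_sum_bas v, map_sum, map_sum]
  exact Finset.sum_congr rfl fun q _ => by rw [ZMod.map_smul, ZMod.map_smul]; exact congrArg _ (h1 q u)

/-- An invariant form is a multiple of the standard one. -/
theorem form_scalar (φ : V →+ V)
    (hA : ∀ i u v, ω (φ (ev (RA i) u)) (φ (ev (RA i) v)) = ω (φ u) (φ v))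
    (hB : ∀ i u v, ω (φ (ev (RB i) u)) (φ (ev (RB i) v)) = ω (φ u) (φ v)) :
    ∃ c : ZMod 3, ∀ u v, ω (φ u) (φ v) = c * ω u v := by
  let f : V → V → ZMod 3 := fun u v => ω (φ u) (φ v)
  have fl : ∀ u u' v, f (u + u') v = f u v + f u' v := fun u u' v => by simp only [f, map_add, ω_add_left]
  have fr' : ∀ u v v', f u (v + v') = f u v + f u v' := fun u v v' => by simp only [f, map_add, ω_add_right]
  let C : V →+ V := AddMonoidHom.mk' (fun v i => (-f (Pi.single i (0, 1)) v, f (Pi.single i (1, 0)) v)) fun a b => by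
    funext i; refine Prod.ext ?_ ?_ <;> simp [fr', add_comm]
  have hC : ∀ u v, ω u (C v) = f u v := fun u v => by
    let F : V →+ ZMod 3 := AddMonoidHom.mk' (fun u => ω u (C v)) fun a b => ω_add_left _ _ _
    let Gh : V →+ ZMod 3 := AddMonoidHom.mk' (fun u => f u v) fun a b => fl a b v
    show F u = Gh u
    have hu : u = ∑ i, ((u i).1 • (Pi.single i (1, 0) : V) + (u i).2 • (Pi.single i (0, 1) : V)) := by
      funext j
      simp [Finset.sum_apply, Pi.single_apply, Finset.sum_add_distrib, Prod.ext_iff]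
    have h1 : ∀ i, F (Pi.single i (1, 0)) = Gh (Pi.single i (1, 0)) ∧ F (Pi.single i (0, 1)) = Gh (Pi.single i (0, 1)) :=
      fun i => by
        constructor
        · show ω (Pi.single i (1, 0)) (C v) = _
          rw [ω_single_left]; simp [pl, C, Gh]
        · show ω (Pi.single i (0, 1)) (C v) = _
          rw [ω_single_left]; simp [pl, C, Gh]
    rw [hu, map_sum, map_sum]
    exact Finset.sum_congr rfl fun i _ => by
      rw [map_add, map_add, ZMod.map_smul, ZMod.map_smul, ZMod.map_smul, ZMod.map_smul, (h1 i).1, (h1 i).2]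
  have hnd : ∀ a b : V, (∀ u, ω u a = ω u b) → a = b := fun a b h => sub_eq_zero.1 (ω_eq_zero fun u => by
    have e : ω u (a - b) + ω u b = ω u a := by rw [← ω_add_right, sub_add_cancel]
    rw [h u] at e
    rw [ω_swap, add_eq_right.1 e, neg_zero])
  have hcomm : ∀ M : M8, (∀ u v, ω (ev M u) (ev M v) = ω u v) → Function.Surjective (ev M) →
      (∀ u v, f (ev M u) (ev M v) = f u v) → ∀ v, C (ev M v) = ev M (C v) := fun M h1 h2 h3 v =>
    hnd _ _ fun u => by
      obtain ⟨u', rfl⟩ := h2 u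
      rw [hC, h3, h1, hC]
  have hsurj : ∀ i, Function.Surjective (ev (RA i)) ∧ Function.Surjective (ev (RB i)) := fun i => by
    have h : ∀ M ∈ [RA i, RB i], ∀ v, ev M (ev M v) = -v := fun M hM v => by
      rw [← ev_mmul, ← ev_neg8]
      refine ev_eq _ _ ?_ v
      simp only [List.mem_cons, List.not_mem_nil, or_false] at hM
      rcases hM with rfl | rfl
      · exact (show ∀ i q, ev (mmul (RA i) (RA i)) (bas q) = ev neg8 (bas q) by decide +kernel) i
      · exact (show ∀ i q, ev (mmul (RB i) (RB i)) (bas q) = ev neg8 (bas q) by decide +kernel) i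
    exact ⟨fun v => ⟨-ev (RA i) v, by rw [← neg_one_smul (ZMod 3), ev_smul, h _ (by simp)]; simp⟩,
      fun v => ⟨-ev (RB i) v, by rw [← neg_one_smul (ZMod 3), ev_smul, h _ (by simp)]; simp⟩⟩
  obtain ⟨c, hc⟩ := scalar_of_commute C
    (fun i => hcomm _ (ω_ev fun q r => (ω_standard i q r).1) (hsurj i).1 (hA i))
    (fun i => hcomm _ (ω_ev fun q r => (ω_standard i q r).2) (hsurj i).2 (hB i))
  refine ⟨c, fun u v => ?_⟩
  show f u v = _
  rw [← hC, hc]
  simp only [ω, pl, Pi.smul_apply, Prod.smul_fst, Prod.smul_snd, smul_eq_mul, Finset.mul_sum]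
  exact Finset.sum_congr rfl fun i _ => by ring

end Cfsg.Lib.Fi23Three
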