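import Cfsg.Agent.Lib.Fi23Three.Act
import Cfsg.Agent.Lib.Fi23Three.Rep
import Cfsg.Agent.Lib.Fi23Three.Quad

/-!
# A 3-centraliser of type Fi₂₃: the data

`C(z)/Q` is the preimage in `Sp(8, 3)` of the centraliser of `zeta6` in the isometries of the quotient of
`2^{1+6}` by its centre, acting on `Q/⟨z⟩` as the tensor product of three quaternion modules.
-/

set_option autoImplicit false
set_option linter.unusedSectionVars false

namespace Cfsg.Lib.Fi23Three

/-- A power of a matrix with exponent at most one. -/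
def pow1 (M : M8) (c : ZMod 2) : M8 := if c = 1 then M else one8

/-- The matrix of an element of the quotient of `2^{1+6}`. -/
def rhoM (u : W6) : M8 :=
  mmul (mmul (pow1 (RA 0) (u 0).1) (pow1 (RB 0) (u 0).2))
    (mmul (mmul (pow1 (RA 1) (u 1).1) (pow1 (RB 1) (u 1).2)) (mmul (pow1 (RA 2) (u 2).1) (pow1 (RB 2) (u 2).2)))

/-- Its map. -/
def rho (u : W6) (v : V) : V := ev (rhoM u) v

/-- The map `f` induces `h` on the quotient of `2^{1+6}`. -/
def Tw (f : V → V) (h : W6 → W6) : Prop :=
  ∀ u, ∃ c : ZMod 3, c ≠ 0 ∧ ∀ v, f (rho u v) = c • rho (h u) (f v)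

/-- The matrix preserves the form. -/
def Symp (M : M8) : Prop := ∀ q r, ω (ev M (bas q)) (ev M (bas r)) = ω (bas q) (bas r)

/-- The hypotheses on the centraliser of the element of order three. -/
structure Data (G : Type*) [Group G] extends Frame G where
  card_H : Nat.card (Subgroup.centralizer ({z} : Set G)) = 3 ^ 9 * 128 * 648
  lift : ∀ (M : M8) (h : Equiv.Perm W6), h ∈ CZ → Symp M → Tw (ev M) h →
    ∃ g, Commute g z ∧ ∀ v, toFrame.act g v = ev M v
  top : ∀ g, Commute g z → ∃ h ∈ CZ, Tw (toFrame.act g) h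

/-- A conjugate of `z` lies in `Q` outside its centre. -/
def Data.IsPt {G : Type*} [Group G] (D : Data G) (g : G) : Prop :=
  g * D.z * g⁻¹ ∈ D.Q ∧ g * D.z * g⁻¹ ∉ Subgroup.zpowers D.z

end Cfsg.Lib.Fi23Three
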