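import Cfsg.Agent.Lib.Fi23Three.Local
import Cfsg.Agent.Lib.Fi22Three.Basic

/-!
# The centraliser of the involution modulo it satisfies the hypotheses for Fi₂₂
-/

set_option autoImplicit false
set_option linter.unusedSectionVars false
set_option linter.style.haveILetI false

namespace Cfsg.Lib.Fi23Three

open Subgroup
open scoped commutatorElement
open Cfsg.Lib.U6Three (zp zp_zero zp_one zp_mem)

theorem mem_of_two_pows {G : Type*} [Group G] (K : Subgroup G) {c : G} {a b : ℕ} (ha : c ^ a ∈ K) (hb : c ^ b ∈ K)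
    (h : Nat.Coprime a b) : c ∈ K := by
  have e : ((Nat.gcd a b : ℕ) : ℤ) = a * Nat.gcdA a b + b * Nat.gcdB a b := Nat.gcd_eq_gcd_ab a b
  rw [h.gcd_eq_one] at e
  have : c = (c ^ a) ^ Nat.gcdA a b * (c ^ b) ^ Nat.gcdB a b := by
    rw [← zpow_natCast c a, ← zpow_natCast c b, ← zpow_mul, ← zpow_mul, ← zpow_add, ← e, Nat.cast_one, zpow_one]
  rw [this]
  exact mul_mem (zpow_mem ha _) (zpow_mem hb _)

namespace Data

variable {G : Type*} [Group G] [Finite G] (D : Data G)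

theorem commute_act_of_normal {N : Subgroup G} (hN3 : IsPGroup 3 N) (hNz : ∀ x ∈ N, Commute x D.z)
    (hNn : ∀ g, Commute g D.z → ∀ x ∈ N, g * x * g⁻¹ ∈ N) {n : G} (hn : n ∈ N) (e : W6) (v : V) :
    D.toFrame.act n (rho e v) = rho e (D.toFrame.act n v) := by
  obtain ⟨r, hr, er⟩ := D.lifted_rho e
  have hnz := hNz n hn
  obtain ⟨h, -, htw⟩ := D.top n hnz
  obtain ⟨a, ha, ea⟩ := htw e
  obtain ⟨c, hc⟩ : ∃ c, c = n * r * n⁻¹ * r⁻¹ := ⟨_, rfl⟩
  have hcN : c ∈ N := by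
    rw [hc, show n * r * n⁻¹ * r⁻¹ = n * (r * n⁻¹ * r⁻¹) by group]
    exact mul_mem hn (hNn r hr _ (inv_mem hn))
  have hcz := hNz c hcN
  obtain ⟨d, hd, ed⟩ := rho_sq e
  obtain ⟨b, hb, eb⟩ := rho_mul (h e) e
  beta_reduce at ed eb
  have hcact : ∀ w, D.toFrame.act c w = (a * (d * b)) • rho (h e + e) w := by
    intro w
    obtain ⟨w', rfl⟩ := D.toFrame.act_surjective hr w
    obtain ⟨w'', rfl⟩ := D.toFrame.act_surjective hnz w'
    rw [← D.toFrame.act_mul hcz hr, ← D.toFrame.act_mul (hcz.mul_left hr) hnz,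
      show c * r * n = n * r by rw [hc]; group, D.toFrame.act_mul hnz hr, er, er]
    show D.toFrame.act n (rho e w'') = (a * (d * b)) • rho (h e + e) (rho e (D.toFrame.act n w''))
    have h1 := eb (rho e (D.toFrame.act n w''))
    rw [ed, rho_smul, id_eq] at h1
    have h2 := congrArg (fun x : V => b • x) h1
    simp only [smul_smul, (show ∀ b : ZMod 3, b ≠ 0 → b * b = 1 by decide) b hb, one_smul] at h2
    rw [ea, ← h2, smul_smul]
    congr 1
    have hd2 := (show ∀ b : ZMod 3, b ≠ 0 → b * b = 1 by decide) d hd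
    have hb2 := (show ∀ b : ZMod 3, b ≠ 0 → b * b = 1 by decide) b hb
    linear_combination -a * d * d * hb2 - a * hd2
  have hc4 : c ^ 4 ∈ D.Q := by
    refine D.toFrame.mem_Q_of_act (hcz.pow_left 4) fun w => ?_
    obtain ⟨s, hs⟩ : ∃ s, s = a * (d * b) := ⟨_, rfl⟩
    rw [← hs] at hcact
    obtain ⟨t, ht, et⟩ := rho_sq (h e + e)
    beta_reduce at et
    rw [show c ^ 4 = c * c * (c * c) by simp only [pow_succ, pow_zero, one_mul, mul_assoc],
      D.toFrame.act_mul (hcz.mul_left hcz) (hcz.mul_left hcz), D.toFrame.act_mul hcz hcz, D.toFrame.act_mul hcz hcz]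
    have hsq : ∀ w, D.toFrame.act c (D.toFrame.act c w) = (s * s * t) • w := fun w => by
      rw [hcact, hcact, rho_smul, et, smul_smul, smul_smul, id_eq]
    rw [hsq, hsq, smul_smul, (show ∀ s t : ZMod 3, s ≠ 0 → t ≠ 0 → s * s * t * (s * s * t) = 1 by decide) s t
      (hs ▸ mul_ne_zero ha (mul_ne_zero hd hb)) ht, one_smul]
  obtain ⟨k, hk⟩ := hN3 ⟨c, hcN⟩
  have hc3 : c ^ 3 ^ k ∈ D.Q := by
    have : c ^ 3 ^ k = 1 := congrArg Subtype.val hk
    rw [this]; exact one_mem _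
  have hcQ : c ∈ D.Q := mem_of_two_pows D.Q hc4 hc3
    (Nat.Coprime.pow_right k (show Nat.Coprime 4 3 by norm_num))
  have h1 := D.toFrame.act_mul hcz (hr.mul_left hnz) v
  rw [D.toFrame.act_Q hcQ, show c * (r * n) = n * r by rw [hc]; group, D.toFrame.act_mul hnz hr,
    D.toFrame.act_mul hr hnz, er, er] at h1
  exact h1

/-- A 3-subgroup normalised by the centraliser lies in `Q`. -/
theorem le_Q_of_normal {N : Subgroup G} (hN3 : IsPGroup 3 N) (hNz : ∀ x ∈ N, Commute x D.z)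
    (hNn : ∀ g, Commute g D.z → ∀ x ∈ N, g * x * g⁻¹ ∈ N) : N ≤ D.Q := by
  intro n hn
  have hnz := hNz n hn
  obtain ⟨s, hs⟩ := scalar_of_commute (D.toFrame.actHom hnz)
    (fun i v => by
      show D.toFrame.act n (ev (RA i) v) = ev (RA i) (D.toFrame.act n v)
      rw [← rho_eA, ← rho_eA]; exact D.commute_act_of_normal hN3 hNz hNn hn (eA i) v)
    (fun i v => by
      show D.toFrame.act n (ev (RB i) v) = ev (RB i) (D.toFrame.act n v)
      rw [← rho_eB, ← rho_eB]; exact D.commute_act_of_normal hN3 hNz hNn hn (eB i) v)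
  have hs' : ∀ v, D.toFrame.act n v = s • v := hs
  have hs0 : s ≠ 0 := fun e => by
    obtain ⟨u, hu⟩ := exists_ne (0 : V)
    exact hu (D.toFrame.act_injective hnz (by rw [hs' u, hs' 0, e, zero_smul, zero_smul]))
  have h2 : n ^ 2 ∈ D.Q := D.toFrame.mem_Q_of_act (hnz.pow_left 2) fun v => by
    rw [pow_two, D.toFrame.act_mul hnz hnz, hs', hs', smul_smul,
      (show ∀ b : ZMod 3, b ≠ 0 → b * b = 1 by decide) s hs0, one_smul]
  obtain ⟨k, hk⟩ := hN3 ⟨n, hn⟩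
  have h3 : n ^ 3 ^ k ∈ D.Q := by
    have : n ^ 3 ^ k = 1 := congrArg Subtype.val hk
    rw [this]; exact one_mem _
  exact mem_of_two_pows D.Q h2 h3 (Nat.Coprime.pow_right k (show Nat.Coprime 2 3 by norm_num))

theorem inv_Q {g : G} (hg : g * D.z * g⁻¹ = D.z⁻¹) : ∀ q ∈ D.Q, g * q * g⁻¹ ∈ D.Q := by
  intro q hq
  refine D.le_Q_of_normal (N := D.Q.map (MulAut.conj g).toMonoidHom)
    ((IsPGroup.of_card (n := 9) (by rw [D.card_Q]; norm_num)).map _) ?_ ?_ ⟨q, hq, rfl⟩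
  · rintro _ ⟨x, hx, rfl⟩
    have := (Commute.conj_iff g).2 (D.comm_z x hx)
    rw [hg] at this
    simpa using this.inv_right
  · rintro c hc _ ⟨x, hx, rfl⟩
    have hc' : Commute (g⁻¹ * c * g) D.z := by
      have h1 := (Commute.conj_iff g⁻¹).2 hc.inv_right
      rw [inv_inv, ← hg] at h1
      simpa [mul_assoc] using h1
    refine ⟨_, D.norm_Q _ hc' x hx, ?_⟩
    simp [mul_assoc]

variable {D} (P : D.Piv)

/-- The centraliser of the involution. -/
abbrev Piv.Ct : Subgroup G := centralizer ({P.τ} : Set G)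

theorem Piv.commute_Ct (x : P.Ct) : Commute (x : G) P.τ := mem_centralizer_singleton_iff.1 x.2

instance : ((zpowers P.τ).subgroupOf P.Ct).Normal := ⟨fun k hk x => by
  rw [mem_subgroupOf] at hk ⊢
  obtain ⟨n, hn⟩ := mem_zpowers_iff.1 hk
  rw [coe_mul, coe_mul, coe_inv, ← hn, ((P.commute_Ct x).zpow_right n).eq, mul_inv_cancel_right]
  exact zpow_mem (mem_zpowers _) n⟩

/-- The centraliser of the involution modulo it. -/
abbrev Piv.Gb : Type _ := P.Ct ⧸ (zpowers P.τ).subgroupOf P.Ct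

/-- The projection. -/
abbrev Piv.π : P.Ct →* P.Gb := QuotientGroup.mk' _

theorem Piv.τ_pow (n : ℤ) : P.τ ^ n = 1 ∨ P.τ ^ n = P.τ := by
  rcases Int.even_or_odd n with ⟨k, rfl⟩ | ⟨k, rfl⟩
  · exact Or.inl (by rw [zpow_add, ← (Commute.refl P.τ).mul_zpow, P.sq, one_zpow])
  · refine Or.inr ?_
    rw [two_mul, zpow_add, zpow_add, ← (Commute.refl P.τ).mul_zpow, P.sq, one_zpow, one_mul, zpow_one]

theorem Piv.π_one {x : P.Ct} (h : P.π x = 1) : (x : G) = 1 ∨ (x : G) = P.τ := by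
  obtain ⟨n, hn⟩ := mem_zpowers_iff.1 (mem_subgroupOf.1 ((QuotientGroup.eq_one_iff x).1 h))
  rw [← hn]; exact P.τ_pow n

theorem Piv.π_eq {x y : P.Ct} (h : P.π x = P.π y) : (x : G) = y ∨ (x : G) = P.τ * y := by
  rcases P.π_one (x := x * y⁻¹) (by rw [map_mul, map_inv, h, mul_inv_cancel]) with e | e <;>
    rw [coe_mul, coe_inv, mul_inv_eq_iff_eq_mul] at e
  · exact Or.inl (e.trans (one_mul _))
  · exact Or.inr e

theorem Piv.τ_nQ : P.τ ∉ D.Q := fun h => SW_ne (by rw [← P.act_τ, D.toFrame.act_Q h])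

theorem Piv.τ_mul_nQ {q : G} (hq : q ∈ D.Q) : P.τ * q ∉ D.Q := fun h =>
  P.τ_nQ (by simpa using mul_mem h (inv_mem hq))

theorem Piv.π_eq_Q {x y : P.Ct} (h : P.π x = P.π y) (hx : (x : G) ∈ D.Q) (hy : (y : G) ∈ D.Q) : (x : G) = y :=
  (P.π_eq h).resolve_right fun e => P.τ_mul_nQ hy (e ▸ hx)

theorem Piv.mem_Ct {g : G} : g ∈ P.Ct ↔ Commute g P.τ := mem_centralizer_singleton_iff

/-- The element `z` in the centraliser. -/
def Piv.zC : P.Ct := ⟨D.z, P.mem_Ct.2 P.comm_z.symm⟩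

theorem Piv.conj_z_eq {x : P.Ct} {w : G} (hw : w ∈ D.toFrame.Zc) (hwC : w ∈ P.Ct)
    (h : P.π (x * P.zC * x⁻¹) = P.π ⟨w, hwC⟩) : (x : G) * D.z * (x : G)⁻¹ = w := by
  refine (P.π_eq h).resolve_right fun e => P.ne ?_
  have e' : (x : G) * D.z * (x : G)⁻¹ = P.τ * w := e
  have h3 : (P.τ * w) ^ 3 = 1 := by rw [← e', conj_pow, D.toFrame.z_cube]; group
  have hc : Commute P.τ w := D.toFrame.comm_Zc P.comm_z hw
  rw [hc.mul_pow, D.toFrame.cube_Zc hw, mul_one, pow_succ, pow_two, P.sq, one_mul] at h3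
  exact h3

theorem Piv.commute_of_π {x : P.Ct} (h : Commute (P.π x) (P.π P.zC)) : (x : G) ∈ P.Ht := by
  refine P.mem_Ht.2 ⟨?_, P.commute_Ct x⟩
  have := P.conj_z_eq (x := x) (mem_zpowers D.z) P.zC.2 (by
    rw [map_mul, map_mul, map_inv, h.eq, mul_inv_cancel_right]; rfl)
  exact mul_inv_eq_iff_eq_mul.1 this

theorem Piv.Qt_Ct {q : G} (hq : q ∈ P.Qt) : q ∈ P.Ct := hq.2

theorem Piv.el_mem {v : V} (h : ev SW v = v) : D.toFrame.el v ∈ P.Qt :=
  P.mem_Qt.2 ⟨D.toFrame.el_mem v, by rw [D.toFrame.vec_el, h]⟩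

theorem Piv.center_Qt {q : G} (hq : q ∈ P.Qt) (h : ∀ r ∈ P.Qt, Commute q r) : q ∈ D.toFrame.Zc := by
  obtain ⟨hqQ, hf⟩ := P.mem_Qt.1 hq
  rw [D.toFrame.mem_Zc_iff hqQ, fix_decomp hf]
  have hp : ∀ i, prj i (D.toFrame.vec q) = 0 := fun i => by
    have h1 := (D.toFrame.commute_iff hqQ (D.toFrame.el_mem _)).1 (h _ (P.el_mem (pab i i).2.2.2.2))
    have h2 := (D.toFrame.commute_iff (D.toFrame.el_mem _) hqQ).1 (h _ (P.el_mem (pab i i).2.2.2.1)).symm
    rw [D.toFrame.vec_el] at h1 h2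
    simp [prj, h1, h2]
  simp [hp]

/-- A plane of the centraliser. -/
def Piv.plane (i : Fin 3) : Subgroup G where
  carrier := {q | q ∈ P.Qt ∧ InPl i (D.toFrame.vec q)}
  mul_mem' := fun {a b} ha hb => ⟨mul_mem ha.1 hb.1, by
    show prj i _ = _
    rw [D.toFrame.vec_mul ha.1.1 hb.1.1, prj_add, show prj i (D.toFrame.vec a) = _ from ha.2,
      show prj i (D.toFrame.vec b) = _ from hb.2]⟩
  one_mem' := ⟨one_mem _, by
    show prj i _ = _
    rw [D.toFrame.vec_one]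
    exact (AddMonoidHom.mk' (prj i) (prj_add i)).map_zero⟩
  inv_mem' := fun {a} ha => ⟨inv_mem ha.1, by
    show prj i _ = _
    rw [D.toFrame.vec_inv ha.1.1, neg_of_add (prj_add i), show prj i (D.toFrame.vec a) = _ from ha.2]⟩

theorem Piv.mem_plane {i : Fin 3} {q : G} : q ∈ P.plane i ↔ q ∈ P.Qt ∧ InPl i (D.toFrame.vec q) := Iff.rfl

theorem fix_prj (i : Fin 3) (v : V) : ev SW (prj i v) = prj i v := by
  rw [prj, ev_add, ev_smul, ev_smul, (pab i i).2.2.2.1, (pab i i).2.2.2.2]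

theorem prj_idem (i : Fin 3) (v : V) : InPl i (prj i v) := by
  show prj i (ω v (pb i) • pa i + ω (pa i) v • pb i) = ω v (pb i) • pa i + ω (pa i) v • pb i
  rw [prj_add, smul_of_add (prj_add i), smul_of_add (prj_add i), show prj i (pa i) = pa i from (prj_pair i).1,
    show prj i (pb i) = pb i from (prj_pair i).2]

theorem Piv.card_plane (i : Fin 3) : Nat.card (P.plane i) = 27 := by
  have hinj : Function.Bijective (fun p : D.toFrame.Zc × (ZMod 3 × ZMod 3) =>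
      (⟨(p.1 : G) * D.toFrame.el (p.2.1 • pa i + p.2.2 • pb i), by
        have hv : D.toFrame.vec ((p.1 : G) * D.toFrame.el (p.2.1 • pa i + p.2.2 • pb i)) = p.2.1 • pa i + p.2.2 • pb i := by
          rw [D.toFrame.vec_mul (D.toFrame.Zc_le p.1.2) (D.toFrame.el_mem _), D.toFrame.vec_Zc p.1.2, zero_add,
            D.toFrame.vec_el]
        refine P.mem_plane.2 ⟨P.mem_Qt.2 ⟨mul_mem (D.toFrame.Zc_le p.1.2) (D.toFrame.el_mem _), ?_⟩, ?_⟩ <;> rw [hv]
        · rw [ev_add, ev_smul, ev_smul, (pab i i).2.2.2.1, (pab i i).2.2.2.2]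
        · show prj i _ = _
          rw [prj_add, smul_of_add (prj_add i), smul_of_add (prj_add i), show prj i (pa i) = pa i from (prj_pair i).1,
            show prj i (pb i) = pb i from (prj_pair i).2]⟩ : P.plane i)) := by
    constructor
    · intro p p' e
      have e' : (p.1 : G) * D.toFrame.el _ = p'.1 * D.toFrame.el _ := congrArg Subtype.val e
      have hv := congrArg D.toFrame.vec e'
      rw [D.toFrame.vec_mul (D.toFrame.Zc_le p.1.2) (D.toFrame.el_mem _),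
        D.toFrame.vec_mul (D.toFrame.Zc_le p'.1.2) (D.toFrame.el_mem _),
        D.toFrame.vec_Zc p.1.2, D.toFrame.vec_Zc p'.1.2, zero_add, zero_add, D.toFrame.vec_el, D.toFrame.vec_el] at hv
      have ha := congrArg (fun v => ω v (pb i)) hv
      have hb := congrArg (fun v => ω (pa i) v) hv
      simp only [ω_add_left, ω_add_right, ω_smul_left, ω_smul_right, (pab i i).1, (pab i i).2.1, (pab i i).2.2.1,
        if_true, mul_one, mul_zero, add_zero, zero_add] at ha hb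
      have h2 : p.2 = p'.2 := Prod.ext ha hb
      rw [h2] at e'
      exact Prod.ext (Subtype.ext (mul_right_cancel e')) h2
    · rintro ⟨q, hq⟩
      obtain ⟨hqt, hpl⟩ := P.mem_plane.1 hq
      obtain ⟨w, hw, e⟩ := D.toFrame.exists_el hqt.1
      refine ⟨(⟨w, hw⟩, (ω (D.toFrame.vec q) (pb i), ω (pa i) (D.toFrame.vec q))), Subtype.ext ?_⟩
      show w * D.toFrame.el (prj i (D.toFrame.vec q)) = q
      rw [show prj i (D.toFrame.vec q) = D.toFrame.vec q from hpl]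
      exact e.symm
  rw [← Nat.card_eq_of_bijective _ hinj, Nat.card_prod, D.toFrame.card_Zc, Nat.card_prod, Nat.card_zmod]

theorem Piv.plane_comm {i j : Fin 3} (hij : i ≠ j) {a b : G} (ha : a ∈ P.plane i) (hb : b ∈ P.plane j) :
    Commute a b := by
  rw [D.toFrame.commute_iff ha.1.1 hb.1.1, ← show prj i (D.toFrame.vec a) = _ from ha.2,
    ← show prj j (D.toFrame.vec b) = _ from hb.2]
  have hba : ω (pb i) (pa j) = 0 := by rw [ω_swap, (pab j i).1, if_neg hij.symm, neg_zero]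
  simp only [prj, ω_add_left, ω_add_right, ω_smul_left, ω_smul_right, (pab i j).1, if_neg hij, (pab i j).2.1,
    (pab i j).2.2.1, hba, mul_zero, add_zero]

/-- A 2-complement in the preimage. -/
theorem Piv.exists_P2 : ∃ S : Subgroup G, S ≤ P.Pre ∧ Nat.card S = 256 ∧ P.τ ∈ S ∧
    ∀ x ∈ P.Pre, ∃ p ∈ S, p⁻¹ * x ∈ P.Qt := by
  classical
  haveI : Fact (Nat.Prime 2) := ⟨Nat.prime_two⟩
  have hτ2 : IsPGroup 2 (zpowers (⟨P.τ, P.τ_Pre⟩ : P.Pre)) := by
    refine IsPGroup.of_card (n := 1) ?_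
    rw [Nat.card_zpowers, ← Subgroup.orderOf_coe, pow_one]
    exact orderOf_eq_prime (by rw [pow_two]; exact P.sq) P.ne
  obtain ⟨S, hS⟩ := hτ2.exists_le_sylow
  have hc : Nat.card (S : Subgroup P.Pre) = 256 := by
    rw [Sylow.card_eq_multiplicity, P.card_Pre, Nat.factorization_mul (by norm_num) (by norm_num), Finsupp.add_apply,
      Nat.factorization_eq_zero_of_not_dvd (show ¬ 2 ∣ 2187 by norm_num), show (256 : ℕ) = 2 ^ 8 by norm_num,
      Nat.prime_two.factorization_pow, Finsupp.single_eq_same]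
  refine ⟨(S : Subgroup P.Pre).map P.Pre.subtype, map_subtype_le _, by
    rw [card_map_of_injective P.Pre.subtype_injective, hc], ⟨⟨P.τ, P.τ_Pre⟩, hS (mem_zpowers _), rfl⟩, fun x hx => ?_⟩
  obtain ⟨T, hT⟩ : ∃ T : Subgroup P.Pre, T = (S : Subgroup P.Pre) := ⟨_, rfl⟩
  rw [← hT] at hS hc ⊢
  let f : T × P.Qt → P.Pre := fun p =>
    ⟨(p.1 : P.Pre) * (p.2 : G), mul_mem (p.1 : P.Pre).2 (P.Qt_le_Pre p.2.2)⟩
  have hf : Function.Injective f := by
    rintro ⟨a, b⟩ ⟨a', b'⟩ e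
    have e' : ((a : P.Pre) : G) * (b : G) = ((a' : P.Pre) : G) * (b' : G) := congrArg Subtype.val e
    have hu : (((a'⁻¹ * a : T) : P.Pre) : G) = (b' : G) * (b : G)⁻¹ := by
      push_cast
      calc ((a' : P.Pre) : G)⁻¹ * ((a : P.Pre) : G)
          = ((a' : P.Pre) : G)⁻¹ * (((a : P.Pre) : G) * (b : G)) * (b : G)⁻¹ := by group
        _ = (b' : G) * (b : G)⁻¹ := by rw [e']; group
    have hcop : Nat.Coprime 256 2187 := by norm_num
    have h1 : ((((a'⁻¹ * a : T) : P.Pre) : G)) ^ 256 = 1 := by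
      rw [← hc, ← SubgroupClass.coe_pow, ← SubgroupClass.coe_pow, pow_card_eq_one']; rfl
    have h2 : ((((a'⁻¹ * a : T) : P.Pre) : G)) ^ 2187 = 1 := by
      rw [hu, ← P.card_Qt]
      exact congrArg Subtype.val (pow_card_eq_one' (x := b' * b⁻¹))
    have h0 := mem_of_two_pows (⊥ : Subgroup G) (mem_bot.2 h1) (mem_bot.2 h2) hcop
    rw [mem_bot] at h0
    have ha : a = a' := by
      have : a'⁻¹ * a = 1 := Subtype.ext (Subtype.ext h0)
      exact (inv_mul_eq_one.1 this).symm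
    subst ha
    exact Prod.ext rfl (Subtype.ext (mul_left_cancel e'))
  obtain ⟨⟨a, b⟩, e⟩ := ((Nat.bijective_iff_injective_and_card f).2
    ⟨hf, by rw [Nat.card_prod, hc, P.card_Qt, P.card_Pre]⟩).2 ⟨x, hx⟩
  refine ⟨((a : P.Pre) : G), ⟨a, a.2, rfl⟩, ?_⟩
  have e' : ((a : P.Pre) : G) * (b : G) = x := congrArg Subtype.val e
  rw [← e', inv_mul_cancel_left]; exact b.2

/-- The data for Fi₂₂. -/
theorem Piv.exists_fi22_data : ∃ D' : Fi22Three.Data P.Gb, D'.z = P.π P.zC := by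
  classical
  obtain ⟨S, hSle, hSc, hτS, hdec⟩ := P.exists_P2
  obtain ⟨q0, u0, hq0, hq0τ, -, hu0τ, hwz, -⟩ := P.exists_mover
  have hQC : P.Qt ≤ P.Ct := inf_le_right
  have hSC : S ≤ P.Ct := fun x hx => (P.Pre_le (hSle hx)).2
  have hzo : orderOf (P.π P.zC) = 3 := by
    haveI : Fact (Nat.Prime 3) := ⟨Nat.prime_three⟩
    refine orderOf_eq_prime ?_ fun h => ?_
    · rw [← map_pow, show P.zC ^ 3 = 1 from Subtype.ext D.toFrame.z_cube, map_one]
    · rcases P.π_one h with e | e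
      · exact D.toFrame.z_ne e
      · exact P.τ_nQ (show P.τ ∈ D.Q from e ▸ D.z_mem)
  have hmemQ : ∀ {x : P.Ct}, (x : G) ∈ P.Qt → P.π x ∈ (P.Qt.subgroupOf P.Ct).map P.π := fun h => ⟨_, h, rfl⟩
  have hzc : ∀ {x : P.Ct}, (x : G) ∈ D.toFrame.Zc → P.π x ∈ zpowers (P.π P.zC) := fun {x} hx => by
    obtain ⟨n, hn⟩ := mem_zpowers_iff.1 hx
    refine mem_zpowers_iff.2 ⟨n, ?_⟩
    rw [← map_zpow]
    exact congrArg _ (Subtype.ext (by simp [Piv.zC, hn]))
  have hzQt : D.z ∈ P.Qt := P.mem_Qt.2 ⟨D.z_mem, by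
    rw [D.toFrame.vec_Zc (mem_zpowers _)]; exact (evHom SW).map_zero⟩
  have hZQt : ∀ {w : G}, w ∈ D.toFrame.Zc → w ∈ P.Qt := fun hw => (zpowers_le.2 hzQt) hw
  refine ⟨{
    z := P.π P.zC
    hz := hzo
    Q := (P.Qt.subgroupOf P.Ct).map P.π
    card_Q := ?_
    z_mem := hmemQ hzQt
    comm_z := ?_
    norm_Q := ?_
    center_Q := ?_
    comm_Q := ?_
    cube_Q := ?_
    cent_Q := ?_
    inv_Q := ?_
    Qp := fun i => ((P.plane i).subgroupOf P.Ct).map P.π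
    Qp_le := fun i => map_mono (fun x hx => (P.mem_plane.1 hx).1)
    card_Qp := ?_
    z_mem_Qp := ?_
    comm_Qp := ?_
    gen_Q := ?_
    a := fun i => P.π ⟨D.toFrame.el (pa i), hQC (P.el_mem (pab i i).2.2.2.1)⟩
    b := fun i => P.π ⟨D.toFrame.el (pb i), hQC (P.el_mem (pab i i).2.2.2.2)⟩
    ha := ?_
    hb := ?_
    hab := ?_
    P2 := (S.subgroupOf P.Ct).map P.π
    card_P2 := ?_
    P2_z := ?_
    P2_normal := ?_
    P2_Qp := ?_
    two_core := ?_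
    sgn := ?_
    nwc := ?_ }, rfl⟩
  · rw [← P.card_Qt, ← Nat.card_congr (subgroupOfEquivOfLe hQC).toEquiv]
    refine (Nat.card_eq_of_bijective (fun x : P.Qt.subgroupOf P.Ct =>
      (⟨P.π x.1, hmemQ x.2⟩ : (P.Qt.subgroupOf P.Ct).map P.π)) ⟨fun a b e => ?_, ?_⟩).symm
    · exact Subtype.ext (Subtype.ext (P.π_eq_Q (congrArg Subtype.val e) a.2.1 b.2.1))
    · rintro ⟨_, x, hx, rfl⟩; exact ⟨⟨x, hx⟩, rfl⟩
  · rintro _ ⟨x, hx, rfl⟩
    exact (show Commute x P.zC from Subtype.ext (D.comm_z _ hx.1)).map P.π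
  · intro g hg _ hq
    obtain ⟨x, hx, rfl⟩ := hq
    obtain ⟨g, rfl⟩ := QuotientGroup.mk'_surjective _ g
    rw [← map_inv, ← map_mul, ← map_mul]
    have hgH := P.mem_Ht.1 (P.commute_of_π hg)
    exact hmemQ ⟨D.norm_Q _ hgH.1 _ hx.1, (g * x * g⁻¹).2⟩
  · rintro _ ⟨x, hx, rfl⟩ hall
    refine hzc (P.center_Qt hx fun r hr => ?_)
    have := P.π_eq (x := x * ⟨r, hQC hr⟩) (y := ⟨r, hQC hr⟩ * x) (by
      rw [map_mul, map_mul]; exact (hall _ (hmemQ hr)).eq)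
    exact this.resolve_right fun e => P.τ_mul_nQ (mul_mem hr.1 hx.1)
      (show P.τ * (r * (x : G)) ∈ D.Q from e ▸ mul_mem hx.1 hr.1)
  · rintro _ ⟨x, hx, rfl⟩ _ ⟨y, hy, rfl⟩
    rw [← map_commutatorElement]
    exact hzc (D.comm_Q _ hx.1 _ hy.1)
  · rintro _ ⟨x, hx, rfl⟩
    rw [← map_pow, show x ^ 3 = 1 from Subtype.ext (by rw [SubgroupClass.coe_pow]; exact D.cube_Q _ (mem_subgroupOf.1 hx).1), map_one]
    exact one_mem _
  · intro g hg hall
    obtain ⟨g, rfl⟩ := QuotientGroup.mk'_surjective _ g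
    have hgH := P.commute_of_π hg
    have hgz := (P.mem_Ht.1 hgH).1
    have hfix : ∀ v, ev SW v = v → D.toFrame.act (g : G) v = v := fun v hv => by
      have hmv := P.el_mem hv
      have e : P.π (g * ⟨_, hQC hmv⟩ * g⁻¹) = P.π ⟨_, hQC hmv⟩ := by
        rw [map_mul, map_mul, map_inv, (hall _ (hmemQ hmv)).eq, mul_inv_cancel_right]
      have e' := P.π_eq_Q e (D.norm_Q _ hgz _ hmv.1) hmv.1
      have e'' := congrArg D.toFrame.vec e'
      rw [coe_mul, coe_mul, coe_inv, D.toFrame.vec_conj hgz hmv.1, D.toFrame.vec_el] at e''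
      exact e''
    have fin : ∀ k : P.Ct, P.π k = P.π g → (k : G) ∈ D.Q → P.π g ∈ zpowers (P.π P.zC) := fun k hk hkQ => by
      rw [← hk]
      refine hzc (P.center_Qt ⟨hkQ, k.2⟩ fun r hr => ?_)
      have := P.π_eq (x := k * ⟨r, hQC hr⟩) (y := ⟨r, hQC hr⟩ * k) (by
        rw [map_mul, map_mul, hk]; exact (hall _ (hmemQ hr)).eq)
      exact this.resolve_right fun e => P.τ_mul_nQ (mul_mem hr.1 hkQ)
        (show P.τ * (r * (k : G)) ∈ D.Q from e ▸ mul_mem hkQ hr.1)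
    rcases P.mem_of_fix (g := ⟨g, hgH⟩) hfix with h | h
    · exact fin g rfl h
    · refine fin (g * ⟨P.τ, P.mem_Ct.2 (Commute.refl _)⟩) ?_ h
      rw [map_mul, show P.π ⟨P.τ, P.mem_Ct.2 (Commute.refl _)⟩ = 1 from
        (QuotientGroup.eq_one_iff _).2 (mem_subgroupOf.2 (mem_zpowers _)), mul_one]
  · intro g hg _ hq
    obtain ⟨x, hx, rfl⟩ := hq
    obtain ⟨g, rfl⟩ := QuotientGroup.mk'_surjective _ g
    rw [← map_inv, ← map_mul, ← map_mul]
    have e := P.conj_z_eq (x := g) (inv_mem (mem_zpowers D.z)) (inv_mem P.zC.2) (by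
      rw [map_mul, map_mul, map_inv, hg, ← map_inv]; rfl)
    exact hmemQ ⟨D.inv_Q e _ hx.1, (g * x * g⁻¹).2⟩
  · intro i
    have hle : P.plane i ≤ P.Ct := fun x hx => hQC (P.mem_plane.1 hx).1
    rw [← P.card_plane i, ← Nat.card_congr (subgroupOfEquivOfLe hle).toEquiv]
    refine (Nat.card_eq_of_bijective (fun x : (P.plane i).subgroupOf P.Ct =>
      (⟨P.π x.1, x.1, x.2, rfl⟩ : ((P.plane i).subgroupOf P.Ct).map P.π)) ⟨fun a b e => ?_, ?_⟩).symm
    · exact Subtype.ext (Subtype.ext (P.π_eq_Q (congrArg Subtype.val e) a.2.1.1 b.2.1.1))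
    · rintro ⟨_, x, hx, rfl⟩; exact ⟨⟨x, hx⟩, rfl⟩
  · intro i
    refine ⟨P.zC, ⟨hzQt, ?_⟩, rfl⟩
    show prj i (D.toFrame.vec D.z) = D.toFrame.vec D.z
    rw [D.toFrame.vec_Zc (mem_zpowers _)]
    exact (AddMonoidHom.mk' (prj i) (prj_add i)).map_zero
  · rintro i j hij _ ⟨x, hx, rfl⟩ _ ⟨y, hy, rfl⟩
    exact (show Commute x y from Subtype.ext (P.plane_comm hij hx hy).eq).map P.π
  · rintro _ ⟨⟨q, hqC⟩, hq, rfl⟩
    obtain ⟨hqQ, hqf⟩ := P.mem_Qt.1 (mem_subgroupOf.1 hq)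
    have hm : ∀ i, D.toFrame.el (prj i (D.toFrame.vec q)) ∈ P.plane i := fun i =>
      P.mem_plane.2 ⟨P.el_mem (fix_prj i _), by rw [D.toFrame.vec_el]; exact prj_idem i _⟩
    obtain ⟨e0, he0⟩ : ∃ e : P.Ct, (e : G) = D.toFrame.el (prj 0 (D.toFrame.vec q)) := ⟨⟨_, hQC (hm 0).1⟩, rfl⟩
    obtain ⟨e1, he1⟩ : ∃ e : P.Ct, (e : G) = D.toFrame.el (prj 1 (D.toFrame.vec q)) := ⟨⟨_, hQC (hm 1).1⟩, rfl⟩
    obtain ⟨e2, he2⟩ : ∃ e : P.Ct, (e : G) = D.toFrame.el (prj 2 (D.toFrame.vec q)) := ⟨⟨_, hQC (hm 2).1⟩, rfl⟩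
    have hr : ((⟨q, hqC⟩ * (e0 * e1 * e2)⁻¹ : P.Ct) : G) ∈ D.toFrame.Zc := by
      rw [coe_mul, coe_inv, coe_mul, coe_mul, he0, he1, he2]
      refine D.toFrame.div_mem_Zc hqQ (mul_mem (mul_mem (D.toFrame.el_mem _) (D.toFrame.el_mem _))
        (D.toFrame.el_mem _)) ?_
      rw [D.toFrame.vec_mul (mul_mem (D.toFrame.el_mem _) (D.toFrame.el_mem _)) (D.toFrame.el_mem _),
        D.toFrame.vec_mul (D.toFrame.el_mem _) (D.toFrame.el_mem _), D.toFrame.vec_el, D.toFrame.vec_el, D.toFrame.vec_el]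
      exact fix_decomp hqf
    set F : Fin 3 → Subgroup P.Gb := fun i => ((P.plane i).subgroupOf P.Ct).map P.π
    rw [show (⟨q, hqC⟩ : P.Ct) = ⟨q, hqC⟩ * (e0 * e1 * e2)⁻¹ * (e0 * e1 * e2) by rw [inv_mul_cancel_right],
      map_mul, map_mul, map_mul]
    have hz0 : P.π (⟨q, hqC⟩ * (e0 * e1 * e2)⁻¹) ∈ F 0 := ⟨_, ⟨hZQt hr, by
      show prj 0 _ = _
      rw [subtype_apply, D.toFrame.vec_Zc hr]; exact (AddMonoidHom.mk' (prj 0) (prj_add 0)).map_zero⟩, rfl⟩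
    exact mul_mem (le_iSup F 0 hz0) (mul_mem (mul_mem
      (le_iSup F 0 ⟨e0, mem_subgroupOf.2 (he0 ▸ hm 0), rfl⟩) (le_iSup F 1 ⟨e1, mem_subgroupOf.2 (he1 ▸ hm 1), rfl⟩))
      (le_iSup F 2 ⟨e2, mem_subgroupOf.2 (he2 ▸ hm 2), rfl⟩))
  · intro i
    refine ⟨⟨_, hQC (P.el_mem (pab i i).2.2.2.1)⟩, ⟨P.el_mem (pab i i).2.2.2.1, ?_⟩, rfl⟩
    show InPl i (D.toFrame.vec (D.toFrame.el (pa i)))
    rw [D.toFrame.vec_el]
    exact (prj_pair i).1
  · intro i
    refine ⟨⟨_, hQC (P.el_mem (pab i i).2.2.2.2)⟩, ⟨P.el_mem (pab i i).2.2.2.2, ?_⟩, rfl⟩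
    show InPl i (D.toFrame.vec (D.toFrame.el (pb i)))
    rw [D.toFrame.vec_el]
    exact (prj_pair i).2
  · intro i
    rw [← map_commutatorElement]
    refine congrArg _ (Subtype.ext ?_)
    simp only [commutatorElement_def, coe_mul, coe_inv]
    rw [← commutatorElement_def, D.toFrame.form_eq (D.toFrame.el_mem _) (D.toFrame.el_mem _), D.toFrame.vec_el,
      D.toFrame.vec_el, (pab i i).1, if_pos rfl, zp_one]
    rfl
  · have h1 : Nat.card (S.subgroupOf P.Ct) = 256 := by rw [Nat.card_congr (subgroupOfEquivOfLe hSC).toEquiv, hSc]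
    let φ := (P.π.comp (S.subgroupOf P.Ct).subtype)
    have h2 := φ.ker.card_mul_index
    rw [index_ker, h1, MonoidHom.range_comp, range_subtype] at h2
    have hker : Nat.card φ.ker = 2 := by
      refine Nat.card_eq_two_iff.2 ⟨1, ⟨⟨⟨P.τ, P.mem_Ct.2 (Commute.refl _)⟩, mem_subgroupOf.2 hτS⟩,
        MonoidHom.mem_ker.2 ((QuotientGroup.eq_one_iff _).2 (mem_subgroupOf.2 (mem_zpowers _)))⟩, ?_, ?_⟩
      · exact fun e => P.ne (Subtype.ext_iff.1 (Subtype.ext_iff.1 (Subtype.ext_iff.1 e :) :) :).symm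
      · refine Set.eq_univ_iff_forall.2 fun k => ?_
        rcases P.π_one (MonoidHom.mem_ker.1 k.2) with e | e
        · exact Or.inl (Subtype.ext (Subtype.ext (Subtype.ext e)))
        · exact Or.inr (Subtype.ext (Subtype.ext (Subtype.ext e)))
    rw [hker] at h2
    omega
  · rintro _ ⟨x, hx, rfl⟩
    exact (show Commute x P.zC from Subtype.ext (P.mem_Ht.1 (P.Pre_le (hSle hx))).1.eq).map P.π
  · intro g hg _ hp
    obtain ⟨x, hx, rfl⟩ := hp
    obtain ⟨g, rfl⟩ := QuotientGroup.mk'_surjective _ g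
    obtain ⟨p, hp, hpq⟩ := hdec _ (P.Pre_normal (P.commute_of_π hg) (hSle hx))
    refine ⟨P.π ⟨p, hSC hp⟩, ⟨_, mem_subgroupOf.2 hp, rfl⟩, ?_⟩
    rw [← map_inv, ← map_inv, ← map_mul, ← map_mul, ← map_mul]
    exact hmemQ hpq
  · rintro _ ⟨x, hx, rfl⟩ i _ ⟨q, hq, rfl⟩
    rw [← map_inv, ← map_mul, ← map_mul]
    have hxH := P.mem_Ht.1 (P.Pre_le (hSle hx))
    refine ⟨x * q * x⁻¹, ⟨⟨D.norm_Q _ hxH.1 _ hq.1.1, (x * q * x⁻¹).2⟩, ?_⟩, rfl⟩
    rw [subtype_apply, coe_mul, coe_mul, coe_inv]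
    replace hq : (q : G) ∈ P.plane i := hq
    rw [D.toFrame.vec_conj (show Commute (x : G) D.z from hxH.1) hq.1.1]
    exact P.Pre_planes (hSle hx) hq.2
  · intro N hNz _ hN2 n hn
    obtain ⟨x, rfl⟩ := QuotientGroup.mk'_surjective _ n
    have hxH := P.commute_of_π (hNz _ hn)
    obtain ⟨k, hk⟩ := hN2 _ hn
    obtain ⟨q, hq, e⟩ := hk
    rw [← map_pow] at e
    have hpow : (x : G) ^ 2 ^ (k + 1) ∈ P.Qt := by
      rw [pow_succ, pow_mul]
      rcases P.π_eq e.symm with e' | e' <;> rw [SubgroupClass.coe_pow] at e' <;> rw [e']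
      · exact pow_mem hq 2
      · have hτq : Commute P.τ (q : G) := (P.commute_Ct q).symm
        rw [hτq.mul_pow, pow_two P.τ, P.sq, one_mul]
        exact pow_mem hq 2
    obtain ⟨p, hp, hpq⟩ := hdec _ (P.mem_Pre_of_pow hxH hpow)
    refine ⟨P.π ⟨p, hSC hp⟩, ⟨_, mem_subgroupOf.2 hp, rfl⟩, ?_⟩
    rw [← map_inv, ← map_mul]
    exact hmemQ hpq
  · intro i
    obtain ⟨pp, c, hc, hsg⟩ := diag_sgn i
    obtain ⟨g, hg, eg⟩ := P.exists_diag pp 0 hc
    obtain ⟨p, hp, hpq⟩ := hdec g (P.mem_Pre.2 ⟨hg, by rw [P.hh_diag hg eg hc]; exact one_mem _⟩)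
    have hpz := (P.mem_Ht.1 (P.Pre_le (hSle hp))).1
    have hact : ∀ v, D.toFrame.act p v = c • rho (diag pp 0) v := fun v => by
      rw [← eg, ← D.toFrame.act_Q hpq.1 v, ← D.toFrame.act_mul hpz (hpz.inv_left.mul_left (P.mem_Ht.1 hg).1),
        mul_inv_cancel_left, D.toFrame.act_Q hpq.1]
    have hlin : ∀ j v, InPl j v → c • rho (diag pp 0) v = if j = i then -v else v := by
      intro j v hv
      conv_lhs => rw [← show prj j v = v from hv, prj, rho_add, rho_smul, rho_smul, smul_add,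
        smul_comm c _ (rho (diag pp 0) (pa j)), smul_comm c _ (rho (diag pp 0) (pb j))]
      have h1 := (hsg j).1
      have h2 := (hsg j).2
      rw [show fac 0 pp (fac 1 pp (fac 2 0 (pa j))) = rho (diag pp 0) (pa j) from (rho_eq (diag pp 0) _).symm] at h1
      rw [show fac 0 pp (fac 1 pp (fac 2 0 (pb j))) = rho (diag pp 0) (pb j) from (rho_eq (diag pp 0) _).symm] at h2
      rw [h1, h2]
      split_ifs
      · rw [smul_neg, smul_neg, ← neg_add]; exact congrArg Neg.neg hv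
      · exact hv
    refine ⟨P.π ⟨p, hSC hp⟩, ⟨_, mem_subgroupOf.2 hp, rfl⟩, ?_, ?_⟩
    · rintro _ ⟨q, hq, rfl⟩
      replace hq : (q : G) ∈ P.plane i := hq
      rw [← map_inv, ← map_mul, ← map_mul, ← map_mul]
      refine hzc ?_
      have hm := D.norm_Q p hpz _ hq.1.1
      show p * (q : G) * p⁻¹ * (q : G) ∈ D.toFrame.Zc
      rw [D.toFrame.mem_Zc_iff (mul_mem hm hq.1.1), D.toFrame.vec_mul hm hq.1.1, D.toFrame.vec_conj hpz hq.1.1, hact,
        hlin i _ hq.2, if_pos rfl, neg_add_cancel]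
    · rintro j hji _ ⟨q, hq, rfl⟩
      replace hq : (q : G) ∈ P.plane j := hq
      rw [← map_commutatorElement]
      refine hzc ?_
      show p * (q : G) * p⁻¹ * (q : G)⁻¹ ∈ D.toFrame.Zc
      have hm := D.norm_Q p hpz _ hq.1.1
      rw [D.toFrame.mem_Zc_iff (mul_mem hm (inv_mem hq.1.1)), D.toFrame.vec_mul hm (inv_mem hq.1.1),
        D.toFrame.vec_conj hpz hq.1.1, hact, D.toFrame.vec_inv hq.1.1, hlin j _ hq.2, if_neg hji, add_neg_cancel]
  · refine ⟨P.π ⟨q0 * u0, P.mem_Ct.2 (hq0τ.mul_left hu0τ)⟩, ?_, fun h => ?_⟩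
    · rw [← map_inv, ← map_mul, ← map_mul]
      refine (show Commute _ P.zC from Subtype.ext ?_).map P.π
      show q0 * u0 * D.z * (q0 * u0)⁻¹ * D.z = D.z * (q0 * u0 * D.z * (q0 * u0)⁻¹)
      rw [hwz]
      exact (D.comm_z _ P.pt.1).eq
    · rw [← map_inv, ← map_mul, ← map_mul] at h
      obtain ⟨n, hn⟩ := mem_zpowers_iff.1 h
      rw [← map_zpow] at hn
      have hq : D.z ^ n ∈ D.Q := zpow_mem D.z_mem n
      rcases P.π_eq hn.symm with e | e
      · change q0 * u0 * D.z * (q0 * u0)⁻¹ = D.z ^ n at e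
        rw [hwz] at e
        exact P.pt.2 (e ▸ zpow_mem (mem_zpowers _) n)
      · change q0 * u0 * D.z * (q0 * u0)⁻¹ = P.τ * D.z ^ n at e
        rw [hwz] at e
        exact P.τ_mul_nQ hq (e ▸ P.pt.1)

end Data

end Cfsg.Lib.Fi23Three
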