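import Cfsg.Agent.Lib.Fi23Three.Fi22
import Cfsg.Agent.Lib.Fi22Three.Top
import Cfsg.Agent.Lib.Fi22Three.Base
import Cfsg.Agent.Lib.Fi22Three.Recognise
import Cfsg.Agent.Lib.Fischer.Cent23.Iso

/-!
# A point gives Fi₂₃
-/

set_option autoImplicit false
set_option linter.unusedSectionVars false
set_option linter.style.haveILetI false
set_option maxRecDepth 10000
set_option synthInstance.maxSize 2000

namespace Cfsg.Lib.Fi23Three

open Subgroup
open scoped commutatorElement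

theorem mem_of_index_two_odd {H : Type*} [Group H] {N : Subgroup H} (h2 : N.index = 2) {x : H} {n : ℕ}
    (hn : Odd n) (h : x ^ n = 1) : x ∈ N :=
  mem_of_two_pows N (a := 2) (b := n) (sq_mem_of_index_two h2 x) (h ▸ one_mem _)
    (Nat.coprime_two_left.2 hn)

namespace Data

variable {G : Type*} [Group G] [Finite G] {D : Data G} (P : D.Piv)

theorem Piv.odd_mem {N : Subgroup P.Ct} (h2 : N.index = 2) {x : G} (hx : x ∈ P.Ct) {n : ℕ} (hn : Odd n)
    (h : x ^ n = 1) : (⟨x, hx⟩ : P.Ct) ∈ N :=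
  mem_of_index_two_odd h2 hn (Subtype.ext (by rw [SubgroupClass.coe_pow]; exact h))

theorem Piv.Ht_Ct {g : G} (hg : g ∈ P.Ht) : g ∈ P.Ct := hg.2

theorem gwEv_zero (w : List (Fin 3)) (v : V) (c : ZMod 3) : gwEv w (c • v) = c • gwEv w v :=
  smul_of_add (gwEv_add w) c v

/-- The centraliser of `z` lies in a subgroup of index two. -/
theorem Piv.Ht_le {N : Subgroup P.Ct} (h2 : N.index = 2) {g : G} (hg : g ∈ P.Ht) :
    (⟨g, P.Ht_Ct hg⟩ : P.Ct) ∈ N := by
  haveI := normal_of_index_eq_two h2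
  -- the elements of `N` in the centraliser of `z`
  let M : Subgroup G := P.Ht ⊓ N.map P.Ct.subtype
  have hM : ∀ {x}, x ∈ M ↔ ∃ h : x ∈ P.Ht, (⟨x, P.Ht_Ct h⟩ : P.Ct) ∈ N := fun {x} =>
    ⟨fun hx => ⟨hx.1, by obtain ⟨y, hy, e⟩ := hx.2; rwa [show (⟨x, P.Ht_Ct hx.1⟩ : P.Ct) = y from Subtype.ext e.symm]⟩,
      fun ⟨h, hy⟩ => ⟨h, _, hy, rfl⟩⟩
  have hQ : P.Qt ≤ M := fun q hq => hM.2 ⟨P.Qt_le hq, P.odd_mem h2 _ (by decide : Odd 3) (D.cube_Q q hq.1)⟩
  have hsame : ∀ {a b}, a ∈ M → b ∈ P.Ht → (∀ v, D.toFrame.act b v = D.toFrame.act a v) → b ∈ M := by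
    intro a b ha hb e
    have h : a⁻¹ * b ∈ P.Qt := by
      have h1 : a⁻¹ * b ∈ P.Ht := mul_mem (inv_mem ha.1) hb
      exact ⟨D.mem_Q_of_act_eq (P.mem_Ht.1 hb).1 (P.mem_Ht.1 ha.1).1 e, h1.2⟩
    simpa using mul_mem ha (hQ h)
  have hgen : ∀ {i}, ∀ {l : G}, l ∈ P.Ht → (∀ v, D.toFrame.act l v = ev (gw i) v) → l ∈ M := by
    intro i l hl el
    have hlz := (P.mem_Ht.1 hl).1
    have h3 : l ^ 3 ∈ D.Q := D.toFrame.mem_Q_of_act (hlz.pow_left 3) fun v => by
      rw [show l ^ 3 = l * (l * l) by simp only [pow_succ, pow_zero, one_mul, mul_assoc],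
        D.toFrame.act_mul hlz (hlz.mul_left hlz), D.toFrame.act_mul hlz hlz, el, el, el, gw_cube]
    exact hM.2 ⟨hl, P.odd_mem h2 _ (by decide : Odd 9) (by
      rw [show 9 = 3 * 3 from rfl, pow_mul]; exact D.cube_Q _ h3)⟩
  -- a commutator with a generator
  have hcom : ∀ (i : Fin 3) (p r : ZMod 2 × ZMod 2), ∃ a ∈ M, ∃ c : ZMod 3, c ≠ 0 ∧
      ∀ v, D.toFrame.act a v = c • rho (gp i (diag p r) + diag p r) v := by
    intro i p r
    obtain ⟨x, hx, ex⟩ := P.exists_gw i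
    obtain ⟨y, hy, ey⟩ := P.exists_diag p r (one_ne_zero (α := ZMod 3))
    obtain ⟨a, ha, ea⟩ := tw_gw i (diag p r)
    obtain ⟨b, hb, eb⟩ := rho_mul (gp i (diag p r)) (diag p r)
    obtain ⟨d, hd, ed⟩ := rho_sq (diag p r)
    beta_reduce at eb ed
    obtain ⟨c, hc⟩ : ∃ c, c = x * y * x⁻¹ * y⁻¹ := ⟨_, rfl⟩
    have hcH : c ∈ P.Ht := hc ▸ mul_mem (mul_mem (mul_mem hx hy) (inv_mem hx)) (inv_mem hy)
    have hxN := (hM.1 (hgen hx ex)).2
    have hcN : c ∈ M := hM.2 ⟨hcH, by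
      rw [show (⟨c, P.Ht_Ct hcH⟩ : P.Ct) =
          ⟨x, P.Ht_Ct hx⟩ * (⟨y, P.Ht_Ct hy⟩ * ⟨x, P.Ht_Ct hx⟩⁻¹ * ⟨y, P.Ht_Ct hy⟩⁻¹) from
        Subtype.ext (by simp [hc, mul_assoc])]
      exact mul_mem hxN ((normal_of_index_eq_two h2).conj_mem _ (inv_mem hxN) _)⟩
    refine ⟨c, hcN, a * (d * b), mul_ne_zero ha (mul_ne_zero hd hb), fun v => ?_⟩
    have hxz := (P.mem_Ht.1 hx).1
    have hyz := (P.mem_Ht.1 hy).1
    have hcz := (P.mem_Ht.1 hcH).1
    obtain ⟨v', rfl⟩ := D.toFrame.act_surjective hyz v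
    obtain ⟨v'', rfl⟩ := D.toFrame.act_surjective hxz v'
    rw [← D.toFrame.act_mul hcz hyz, ← D.toFrame.act_mul (hcz.mul_left hyz) hxz,
      show c * y * x = x * y by rw [hc]; group, D.toFrame.act_mul hxz hyz, ey, one_smul, ex, ey, one_smul, ea, ex]
    have h1 := eb (rho (diag p r) (ev (gw i) v''))
    rw [ed, rho_smul, id_eq] at h1
    have h2' := congrArg (fun x : V => b • x) h1
    simp only [smul_smul, (show ∀ b : ZMod 3, b ≠ 0 → b * b = 1 by decide) b hb, one_smul] at h2'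
    rw [← h2', smul_smul]
    congr 1
    have hd2 := (show ∀ b : ZMod 3, b ≠ 0 → b * b = 1 by decide) d hd
    have hb2 := (show ∀ b : ZMod 3, b ≠ 0 → b * b = 1 by decide) b hb
    linear_combination -a * d * d * hb2 - a * hd2
  have hneg : ∃ a ∈ M, ∀ v, D.toFrame.act a v = -v := by
    obtain ⟨y, hy, ey⟩ := P.exists_diag 0 (1, 0) (one_ne_zero (α := ZMod 3))
    refine ⟨y * y, hM.2 ⟨mul_mem hy hy, ?_⟩, fun v => ?_⟩
    · have := sq_mem_of_index_two h2 (⟨y, P.Ht_Ct hy⟩ : P.Ct)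
      rw [pow_two] at this
      exact this
    rw [D.toFrame.act_mul (P.mem_Ht.1 hy).1 (P.mem_Ht.1 hy).1, ey, ey, one_smul, one_smul,
      show diag 0 (1, 0) = eA 2 by funext i; fin_cases i <;> rfl, rho_eA, rho_eA]
    exact ext_bas (f := fun v => ev (RA 2) (ev (RA 2) v)) (g := fun v => -v)
      (fun a b => by simp [ev_add]) (fun a b => by abel) (by decide +kernel) v
  obtain ⟨m, hm, em⟩ := hneg
  have hrho : ∀ p r, ∃ a ∈ M, ∃ c : ZMod 3, c ≠ 0 ∧ ∀ v, D.toFrame.act a v = c • rho (diag p r) v := by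
    intro p r
    obtain ⟨p', hp'⟩ : ∃ p', gp 1 (diag p' 0) + diag p' 0 = diag p 0 := by
      revert p; decide +kernel
    obtain ⟨r', hr'⟩ : ∃ r', gp 0 (diag 0 r') + diag 0 r' = diag 0 r := by
      revert r; decide +kernel
    obtain ⟨a, ha, c, hc, ea⟩ := hcom 1 p' 0
    obtain ⟨b, hb, d, hd, eb⟩ := hcom 0 0 r'
    rw [hp'] at ea; rw [hr'] at eb
    obtain ⟨e, he, ee⟩ := rho_mul (diag p 0) (diag 0 r)
    beta_reduce at ee
    refine ⟨a * b, mul_mem ha hb, c * (d * e), mul_ne_zero hc (mul_ne_zero hd he), fun v => ?_⟩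
    rw [D.toFrame.act_mul (P.mem_Ht.1 ha.1).1 (P.mem_Ht.1 hb.1).1, eb, ea, rho_smul, ee,
      show diag p 0 + diag 0 r = diag p r by funext i; fin_cases i <;> simp [diag], smul_smul, smul_smul, mul_assoc]
  have hall : ∀ p r, ∀ c : ZMod 3, c ≠ 0 → ∃ a ∈ M, ∀ v, D.toFrame.act a v = c • rho (diag p r) v := by
    intro p r c hc
    obtain ⟨a, ha, d, hd, ea⟩ := hrho p r
    rcases (show ∀ c d : ZMod 3, c ≠ 0 → d ≠ 0 → c = d ∨ c = -d by decide) c d hc hd with rfl | rfl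
    · exact ⟨a, ha, ea⟩
    · exact ⟨m * a, mul_mem hm ha, fun v => by
        rw [D.toFrame.act_mul (P.mem_Ht.1 hm.1).1 (P.mem_Ht.1 ha.1).1, em, ea, neg_smul]⟩
  have hwords : ∀ w : List (Fin 3), ∃ a ∈ M, ∀ v, D.toFrame.act a v = gwEv w v := by
    intro w
    induction w with
    | nil => exact ⟨1, one_mem _, fun v => D.toFrame.act_one v⟩
    | cons i w ih =>
      obtain ⟨a, ha, ea⟩ := ih
      obtain ⟨l, hl, el⟩ := P.exists_gw i
      exact ⟨l * a, mul_mem (hgen hl el) ha, fun v => by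
        rw [D.toFrame.act_mul (P.mem_Ht.1 hl).1 (P.mem_Ht.1 ha.1).1, ea, el]; rfl⟩
  obtain ⟨w, -, hw⟩ := P.exists_word ⟨g, hg⟩
  obtain ⟨p, r, c, hc, e⟩ := P.decomp hw
  obtain ⟨a, ha, ea⟩ := hall p r c hc
  obtain ⟨b, hb, eb⟩ := hwords w
  exact (hM.1 (hsame (mul_mem ha hb) hg fun v => by
    rw [D.toFrame.act_mul (P.mem_Ht.1 ha.1).1 (P.mem_Ht.1 hb.1).1, eb, ea]; exact e v)).2

/-- The centraliser of the involution has no subgroup of index two. -/
theorem Piv.no_index_two (N : Subgroup P.Ct) (h2 : N.index = 2) : False := by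
  classical
  haveI : Fact (Nat.Prime 3) := ⟨Nat.prime_three⟩
  haveI := normal_of_index_eq_two h2
  obtain ⟨q, u, hq, hqτ, hu3, huτ, -, hw3⟩ := P.exists_mover
  obtain ⟨w, hwdef⟩ : ∃ w, w = (q * u) ^ 3 := ⟨_, rfl⟩
  rw [← hwdef] at hw3
  have hwC : w ∈ P.Ct := hwdef ▸ pow_mem (mul_mem (P.mem_Ct.2 hqτ) (P.mem_Ct.2 huτ)) 3
  have hwN : (⟨w, hwC⟩ : P.Ct) ∈ N := by
    rw [show (⟨w, hwC⟩ : P.Ct) = (⟨q, P.mem_Ct.2 hqτ⟩ * ⟨u, P.mem_Ct.2 huτ⟩) ^ 3 from Subtype.ext (by simp [hwdef])]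
    exact pow_mem (mul_mem (P.odd_mem h2 _ (by decide : Odd 3) (D.cube_Q q hq))
      (P.odd_mem h2 _ (by decide : Odd 3) hu3)) 3
  have hzQt : D.z ∈ P.Qt := P.mem_Qt.2 ⟨D.z_mem, by
    rw [D.toFrame.vec_Zc (mem_zpowers _)]; exact (evHom SW).map_zero⟩
  have hQ3 : IsPGroup 3 (P.Qt.subgroupOf P.Ht) :=
    IsPGroup.of_card (n := 7) (by rw [Nat.card_congr (subgroupOfEquivOfLe P.Qt_le).toEquiv, P.card_Qt]; norm_num)
  obtain ⟨T, hT⟩ := hQ3.exists_le_sylow
  set Tg : Subgroup G := (T : Subgroup P.Ht).map P.Ht.subtype with hTg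
  have hQT : P.Qt ≤ Tg := fun x hx => ⟨⟨x, P.Qt_le hx⟩, hT (mem_subgroupOf.2 hx), rfl⟩
  have hTH : Tg ≤ P.Ht := map_subtype_le _
  have hcent : ∀ y ∈ Tg, (∀ x ∈ Tg, Commute y x) → y ∈ zpowers D.z := by
    intro y hy hall
    have hyH := hTH hy
    have hyz := (P.mem_Ht.1 hyH).1
    have hfix : ∀ v, ev SW v = v → D.toFrame.act y v = v := fun v hv => by
      have h := (hall _ (hQT (P.el_mem hv))).eq
      have e := D.toFrame.vec_conj hyz (D.toFrame.el_mem v)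
      rw [h, mul_inv_cancel_right, D.toFrame.vec_el] at e
      exact e.symm
    obtain ⟨k, hk⟩ := (T.isPGroup'.map P.Ht.subtype) ⟨y, hy⟩
    have hk' : y ^ 3 ^ k = 1 := congrArg Subtype.val hk
    have hyQ : y ∈ D.Q := by
      rcases P.mem_of_fix (g := ⟨y, hyH⟩) hfix with h | h
      · exact h
      · have hc := (P.mem_Ht.1 hyH).2
        have h2 : y ^ 2 ∈ D.Q := by
          have := pow_mem h 2
          rwa [hc.mul_pow, pow_two P.τ, P.sq, mul_one] at this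
        exact mem_of_two_pows D.Q h2 (hk' ▸ one_mem _) (Nat.Coprime.pow_right k (show Nat.Coprime 2 3 by norm_num))
    exact P.center_Qt ⟨hyQ, hyH.2⟩ fun r hr => hall r (hQT hr)
  have hct : Fi22Three.CentTop P.Ct D.z Tg := by
    refine ⟨T.isPGroup'.map _, fun x hx => P.Ht_Ct (hTH hx), fun x hx => (hTH hx).1, D.hz, hQT hzQt, hcent, ?_⟩
    intro T' hp hle hC hz'
    have hle' : T' ≤ P.Ht := le_inf hz' hC
    have h1 : T'.subgroupOf P.Ht = T := T.is_maximal' (hp.of_injective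
      (subgroupOfEquivOfLe hle').toMonoidHom (subgroupOfEquivOfLe hle').injective)
      fun x hx => mem_subgroupOf.2 (hle ⟨x, hx, rfl⟩)
    refine le_antisymm (fun x hx => ⟨⟨x, hle' hx⟩, ?_, rfl⟩) hle
    rw [← h1]; exact mem_subgroupOf.2 hx
  let S : Sylow 3 P.Ct :=
    { toSubgroup := Tg.subgroupOf P.Ct
      isPGroup' := hct.three.of_injective (subgroupOfEquivOfLe hct.le).toMonoidHom (subgroupOfEquivOfLe hct.le).injective
      is_maximal' := fun {S'} hp hle => by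
        have h1 : S'.map P.Ct.subtype = Tg := hct.maximal (hp.map _)
          (fun x hx => ⟨⟨x, hct.le hx⟩, hle (mem_subgroupOf.2 hx), rfl⟩) (map_subtype_le _)
        refine le_antisymm (fun x hx => mem_subgroupOf.2 (h1 ▸ ⟨x, hx, rfl⟩)) hle }
  have hSN : (S : Subgroup P.Ct) ≤ N := fun x hx => by
    obtain ⟨k, hk⟩ := hct.three ⟨(x : G), mem_subgroupOf.1 hx⟩
    exact P.odd_mem h2 x.2 (Odd.pow (by decide : Odd 3)) (congrArg Subtype.val hk)
  have htop := Sylow.normalizer_sup_eq_top' (N := N) S hSN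
  obtain ⟨g, hg, hgN⟩ : ∃ g ∈ normalizer ((S : Subgroup P.Ct) : Set P.Ct), g ∉ N := by
    by_contra hcon
    push Not at hcon
    have : (⊤ : Subgroup P.Ct) ≤ N := htop ▸ sup_le hcon le_rfl
    rw [top_le_iff.1 this, index_top] at h2
    norm_num at h2
  have hgz : (g : G) * D.z * (g : G)⁻¹ ∈ zpowers D.z := by
    refine hcent _ ?_ fun x hx => ?_
    · exact mem_subgroupOf.1 ((mem_normalizer_iff.1 hg P.zC).1 (mem_subgroupOf.2 hct.mem))
    · have hx' : ((g⁻¹ * ⟨x, hct.le hx⟩ * g : P.Ct) : G) ∈ Tg := by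
        have := (mem_normalizer_iff.1 (inv_mem hg) ⟨x, hct.le hx⟩).1 (mem_subgroupOf.2 hx)
        rw [inv_inv] at this
        exact mem_subgroupOf.1 this
      have hc : Commute D.z ((g : G)⁻¹ * x * g) := (P.mem_Ht.1 (hTH hx')).1.symm
      have := (Commute.conj_iff (g : G)).2 hc
      rwa [show (g : G) * ((g : G)⁻¹ * x * g) * (g : G)⁻¹ = x by group] at this
  rcases Fi22Three.eq_or_inv D.hz hgz (by simpa using D.toFrame.z_ne) with e | e
  · exact hgN (P.Ht_le h2 (P.mem_Ht.2 ⟨mul_inv_eq_iff_eq_mul.1 e, P.commute_Ct g⟩))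
  · refine hgN ?_
    have hwg : w * (g : G) ∈ P.Ht := P.mem_Ht.2 ⟨by
      refine mul_inv_eq_iff_eq_mul.1 ?_
      calc w * g * D.z * (w * g)⁻¹ = w * ((g : G) * D.z * (g : G)⁻¹) * w⁻¹ := by group
        _ = (w * D.z * w⁻¹)⁻¹ := by rw [e]; group
        _ = D.z := by rw [hw3, inv_inv], (P.mem_Ct.1 hwC).mul_left (P.commute_Ct g)⟩
    have := P.Ht_le h2 hwg
    rw [show (⟨w * (g : G), P.Ht_Ct hwg⟩ : P.Ct) = ⟨w, hwC⟩ * g from rfl] at this
    simpa using mul_mem (inv_mem hwN) this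

theorem Piv.iso_fi22 : Cfsg.Spor.IsoFi22 P.Gb := by
  obtain ⟨D', -⟩ := P.exists_fi22_data
  obtain ⟨B⟩ := D'.exists_base
  refine B.recognise.resolve_right ?_
  rintro ⟨e⟩
  refine P.no_index_two ((Cfsg.Inn Cfsg.Spor.Fi22).comap (e.toMonoidHom.comp P.π)) ?_
  rw [index_comap_of_surjective _ (e.surjective.comp (QuotientGroup.mk'_surjective _)), index_eq_card]
  exact Cfsg.Lib.CosetEnum.Fi22Out.card_out

theorem center_fi22 : Subgroup.center Cfsg.Spor.Fi22 = ⊥ := by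
  haveI : Finite Cfsg.Spor.Fi22 :=
    Nat.finite_of_card_ne_zero (by rw [Cfsg.Lib.CosetEnum.Fi22Pres.isFi22.2]; decide)
  haveI := Cfsg.Lib.CosetEnum.Fi22Out.simple_fi22
  refine ((Subgroup.center Cfsg.Spor.Fi22).normal_of_characteristic.eq_bot_or_eq_top).resolve_right fun h => ?_
  let : CommGroup Cfsg.Spor.Fi22 := Group.commGroupOfCenterEqTop h
  have := IsSimpleGroup.prime_card (α := Cfsg.Spor.Fi22)
  rw [(show Cfsg.IsFi22 Cfsg.Spor.Fi22 from Cfsg.Lib.CosetEnum.Fi22Pres.isFi22).2] at this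
  exact Nat.not_prime_mul (a := 2) (b := 32280875827200) (by decide) (by decide) this

theorem Piv.quasisimple : Cfsg.IsQuasisimple P.Ct := by
  classical
  obtain ⟨e⟩ := P.iso_fi22
  haveI := Cfsg.Lib.CosetEnum.Fi22Out.simple_fi22
  haveI : IsSimpleGroup P.Gb := e.isSimpleGroup
  have hcb : center P.Gb = ⊥ := by
    refine (eq_bot_iff_forall _).2 fun x hx => e.injective ?_
    have : e x ∈ center Cfsg.Spor.Fi22 := mem_center_iff.2 fun y => by
      obtain ⟨y, rfl⟩ := e.surjective y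
      rw [← map_mul, ← map_mul, mem_center_iff.1 hx y]
    rw [center_fi22, mem_bot] at this
    rw [this, map_one]
  have hker : P.π.ker ≤ center P.Ct := fun x hx => by
    rcases P.π_one (MonoidHom.mem_ker.1 hx) with e' | e'
    · rw [show x = 1 from Subtype.ext e']; exact one_mem _
    · exact mem_center_iff.2 fun y => Subtype.ext (by simp only [coe_mul, e', (P.commute_Ct y).eq])
  have hK : center P.Ct = P.π.ker := by
    refine le_antisymm (fun x hx => MonoidHom.mem_ker.2 ?_) hker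
    rw [← mem_bot, ← hcb]
    refine mem_center_iff.2 fun y => ?_
    obtain ⟨y, rfl⟩ := QuotientGroup.mk'_surjective _ y
    rw [← map_mul, ← map_mul, mem_center_iff.1 hx y]
  refine ⟨⟨?_⟩, ?_⟩
  · have hne : commutator P.Gb ≠ ⊥ := by
      intro h
      have hall : center P.Gb = ⊤ := eq_top_iff.2 fun x _ => mem_center_iff.2 fun y => by
        have : ⁅y, x⁆ ∈ commutator P.Gb := commutator_mem_commutator (mem_top _) (mem_top _)
        rw [h, mem_bot] at this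
        exact (commutatorElement_eq_one_iff_commute.1 this).eq
      rw [hcb] at hall
      exact bot_ne_top hall
    have htop : commutator P.Gb = ⊤ := ((commutator_normal _ _).eq_bot_or_eq_top).resolve_left hne
    have hmap : (commutator P.Ct).map P.π = ⊤ := by
      rw [← htop, commutator_def, commutator_def, map_commutator,
        map_top_of_surjective _ (QuotientGroup.mk'_surjective _)]
    by_contra hne'
    refine P.no_index_two (commutator P.Ct) ?_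
    have hsup : commutator P.Ct ⊔ P.π.ker = ⊤ := by
      rw [← comap_map_eq, hmap, comap_top]
    obtain ⟨τC, hτC⟩ : ∃ x : P.Ct, x = ⟨P.τ, P.mem_Ct.2 (Commute.refl _)⟩ := ⟨_, rfl⟩
    have hτnot : τC ∉ commutator P.Ct := fun hmem => hne' (by
      rw [← hsup, eq_comm, sup_eq_left]
      intro x hx
      rcases P.π_one (MonoidHom.mem_ker.1 hx) with e' | e'
      · rw [show x = 1 from Subtype.ext e']; exact one_mem _
      · rwa [show x = τC from hτC ▸ Subtype.ext e'])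
    have hsq : τC * τC = 1 := hτC ▸ Subtype.ext P.sq
    rw [index_eq_two_iff]
    refine ⟨τC, fun x => ?_⟩
    have hx : x ∈ commutator P.Ct ⊔ P.π.ker := hsup ▸ mem_top x
    obtain ⟨a, ha, k, hk, rfl⟩ := mem_sup_of_normal_left.1 hx
    rcases P.π_one (MonoidHom.mem_ker.1 hk) with e' | e'
    · rw [show k = 1 from Subtype.ext e', mul_one]
      exact Or.inr ⟨ha, fun h => hτnot (by simpa using mul_mem (inv_mem ha) h)⟩
    · rw [show k = τC from hτC ▸ Subtype.ext e', mul_assoc, hsq, mul_one]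
      exact Or.inl ⟨ha, fun h => hτnot (by simpa using mul_mem (inv_mem ha) h)⟩
  · exact ((QuotientGroup.quotientMulEquivOfEq hK).trans
      (QuotientGroup.quotientMulEquivOfEq (QuotientGroup.ker_mk' _))).isSimpleGroup

theorem Piv.exists_commuting : ∃ g : G, g * P.τ * g⁻¹ ∈ P.Ct ∧ g * P.τ * g⁻¹ ≠ P.τ := by
  obtain ⟨r, hr, er⟩ := D.lifted_gl 0
  obtain ⟨t', ht'⟩ : ∃ t', t' = r * P.τ * r⁻¹ := ⟨_, rfl⟩
  have ht'z : Commute t' D.z := ht' ▸ (hr.mul_left P.comm_z).mul_left hr.inv_left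
  have hsq' : t' * t' = 1 := by
    rw [ht', show r * P.τ * r⁻¹ * (r * P.τ * r⁻¹) = r * (P.τ * P.τ) * r⁻¹ by group, P.sq]; group
  obtain ⟨s, hs⟩ : ∃ s, s = P.τ * t' := ⟨_, rfl⟩
  have hsz : Commute s D.z := hs ▸ P.comm_z.mul_left ht'z
  have hsact : ∀ v, D.toFrame.act s v = ev SW (ev (gl 0) (ev SW (-ev (gl 0) v))) := by
    intro v
    have hinv : D.toFrame.act r⁻¹ v = -ev (gl 0) v := by
      refine D.toFrame.act_injective hr ?_
      rw [D.toFrame.act_cancel_inv hr, er]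
      refine (ext_bas (f := fun v => ev (gl 0) (-ev (gl 0) v)) (g := fun v => v)
        (fun a b => by simp [neg_of_add (ev_add (gl 0)), ev_add]; abel) (fun _ _ => rfl)
        (by decide +kernel) v).symm
    rw [hs, D.toFrame.act_mul P.comm_z ht'z, ht', D.toFrame.act_mul (hr.mul_left P.comm_z) hr.inv_left,
      D.toFrame.act_mul hr P.comm_z, P.act_τ, P.act_τ, er, hinv]
  have hs2 : s * s ∈ D.Q := D.toFrame.mem_Q_of_act (hsz.mul_left hsz) fun v => by
    rw [D.toFrame.act_mul hsz hsz, hsact, hsact]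
    exact ext_bas (f := fun v => ev SW (ev (gl 0) (ev SW (-ev (gl 0) (ev SW (ev (gl 0) (ev SW (-ev (gl 0) v))))))))
      (g := fun v => v) (fun a b => by simp [neg_of_add (ev_add (gl 0)), neg_of_add (ev_add SW), ev_add])
      (fun _ _ => rfl) (by decide +kernel) v
  have h6 : s ^ 3 * s ^ 3 = 1 := by
    rw [← D.cube_Q _ hs2]
    simp only [← pow_two, ← pow_mul]
  have hne : s ^ 3 ≠ 1 := fun e => by
    have hsQ : s ∈ D.Q := mem_of_two_pows D.Q (a := 2) (b := 3) (by rwa [pow_two]) (e ▸ one_mem _) (by norm_num)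
    have h := hsact (bas 2)
    rw [D.toFrame.act_Q hsQ] at h
    revert h; decide +kernel
  have hi : P.τ⁻¹ = P.τ := inv_eq_of_mul_eq_one_right P.sq
  have hi' : t'⁻¹ = t' := inv_eq_of_mul_eq_one_right hsq'
  have hsi : P.τ * s * P.τ⁻¹ = s⁻¹ := by rw [hs, mul_inv_rev, hi, hi', ← mul_assoc, P.sq, one_mul]
  refine ⟨t' * P.τ * r, ?_⟩
  have hkey : t' * P.τ * r * P.τ * (t' * P.τ * r)⁻¹ = P.τ * s ^ 3 := by
    calc t' * P.τ * r * P.τ * (t' * P.τ * r)⁻¹ = t' * P.τ * (r * P.τ * r⁻¹) * P.τ⁻¹ * t'⁻¹ := by group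
      _ = _ := by
        rw [← ht', hi, hi', hs, show P.τ * (P.τ * t') ^ 3 = P.τ * (P.τ * t') * (P.τ * t') * (P.τ * t') by
          simp only [pow_succ, pow_zero, one_mul, mul_assoc]]
        rw [← mul_assoc P.τ P.τ t', P.sq, one_mul]
        simp only [mul_assoc]
  rw [hkey]
  refine ⟨P.mem_Ct.2 ?_, fun e => hne (by simpa using e)⟩
  have h3 : P.τ * s ^ 3 * P.τ⁻¹ = s ^ 3 := by
    rw [← conj_pow, hsi, inv_pow]; exact inv_eq_of_mul_eq_one_right h6
  exact (Commute.refl P.τ).mul_left (mul_inv_eq_iff_eq_mul.1 h3).symm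

theorem isoFi23_of_pt {G : Type*} [Group G] [Finite G] (D : Data G) {g : G} (hg : D.IsPt g) :
    Cfsg.Spor.IsoFi23 G := by
  obtain ⟨P⟩ := D.exists_piv hg
  obtain ⟨e⟩ := P.iso_fi22
  obtain ⟨i, -⟩ := Cfsg.Lib.Fischer.Cent23.exists_iso_fi22
    (orderOf_eq_prime (p := 2) (by rw [pow_two]; exact P.sq) P.ne) P.quasisimple e P.exists_commuting
  exact ⟨i.symm⟩

end Data

end Cfsg.Lib.Fi23Three
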