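import Cfsg.Agent.Lib.U6Three.Quat

/-!
# A 3-centraliser of type Fi₂₃: coordinates on the extraspecial group

`z` has order three and `Q` is extraspecial of order `3⁹` and exponent three with the symplectic basis `a`, `b`.
-/

set_option autoImplicit false
set_option linter.unusedSectionVars false

namespace Cfsg.Lib.Fi23Three

open Subgroup
open scoped commutatorElement
open Cfsg.Lib.U6Three (zp zp_add zp_zero zp_one zp_inv zp_mem zp_comm zp_eq_one SL3)

/-- An extraspecial group of order `3⁹` and exponent three in the centraliser of its centre, with a symplectic basis. -/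
structure Frame (G : Type*) [Group G] where
  /-- The element of order three. -/
  z : G
  hz : orderOf z = 3
  /-- The extraspecial subgroup. -/
  Q : Subgroup G
  card_Q : Nat.card Q = 19683
  z_mem : z ∈ Q
  comm_z : ∀ q ∈ Q, Commute q z
  norm_Q : ∀ g, Commute g z → ∀ q ∈ Q, g * q * g⁻¹ ∈ Q
  comm_Q : ∀ x ∈ Q, ∀ y ∈ Q, ⁅x, y⁆ ∈ zpowers z
  cube_Q : ∀ x ∈ Q, x ^ 3 = 1
  cent_Q : ∀ g, Commute g z → (∀ q ∈ Q, Commute g q) → g ∈ zpowers z
  /-- The first element of a hyperbolic pair. -/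
  a : Fin 4 → G
  /-- The second element of a hyperbolic pair. -/
  b : Fin 4 → G
  ha' : ∀ i, a i ∈ Q
  hb' : ∀ i, b i ∈ Q
  hab : ∀ i, ⁅a i, b i⁆ = z
  haa : ∀ i j, Commute (a i) (a j)
  hbb : ∀ i j, Commute (b i) (b j)
  hne : ∀ i j, i ≠ j → Commute (a i) (b j)

/-- The coordinates of `Q` modulo its centre. -/
abbrev V : Type := Fin 4 → ZMod 3 × ZMod 3

/-- The symplectic form of one plane. -/
def pl (u w : ZMod 3 × ZMod 3) : ZMod 3 := u.1 * w.2 - u.2 * w.1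

/-- The symplectic form. -/
def ω (v w : V) : ZMod 3 := ∑ i, pl (v i) (w i)

theorem ω_add_left (v v' w : V) : ω (v + v') w = ω v w + ω v' w := by
  simp only [ω, ← Finset.sum_add_distrib, pl, Pi.add_apply, Prod.fst_add, Prod.snd_add]
  exact Finset.sum_congr rfl fun i _ => by ring

theorem ω_swap (v w : V) : ω w v = -ω v w := by
  simp only [ω, ← Finset.sum_neg_distrib, pl]
  exact Finset.sum_congr rfl fun i _ => by ring

theorem ω_self (v : V) : ω v v = 0 := by simp [ω, pl, mul_comm]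

theorem ω_single_left (i : Fin 4) (u : ZMod 3 × ZMod 3) (w : V) : ω (Pi.single i u) w = pl u (w i) := by
  simp only [ω]
  rw [Finset.sum_eq_single i (fun j _ hj => by simp [Pi.single_eq_of_ne hj, pl]) (by simp), Pi.single_eq_same]

theorem ω_single_right (i : Fin 4) (u : ZMod 3 × ZMod 3) (v : V) : ω v (Pi.single i u) = pl (v i) u := by
  rw [ω_swap, ω_single_left]
  simp only [pl]; ring

theorem ω_eq_zero {v : V} (h : ∀ w, ω v w = 0) : v = 0 := by
  funext i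
  have h1 := h (Pi.single i (0, 1))
  have h2 := h (Pi.single i (1, 0))
  rw [ω_single_right] at h1 h2
  simp [pl] at h1 h2
  exact Prod.ext h1 h2

namespace Frame

variable {G : Type*} [Group G] [Finite G] (D : Frame G)

/-- The centre. -/
abbrev Zc : Subgroup G := zpowers D.z

theorem z_cube : D.z ^ 3 = 1 := by rw [← D.hz]; exact pow_orderOf_eq_one _

theorem z_ne : D.z ≠ 1 := fun h => by simpa [h] using D.hz

theorem Zc_le : D.Zc ≤ D.Q := zpowers_le.2 D.z_mem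

theorem card_Zc : Nat.card D.Zc = 3 := by rw [Nat.card_zpowers, D.hz]

theorem exists_zp {w : G} (hw : w ∈ D.Zc) : ∃ k : ZMod 3, w = zp D.z k := by
  obtain ⟨n, rfl⟩ := mem_zpowers_iff.1 hw
  refine ⟨(n : ZMod 3), ?_⟩
  rw [zp, ← zpow_natCast, ← orderOf_dvd_sub_iff_zpow_eq_zpow, D.hz, ← ZMod.intCast_zmod_eq_zero_iff_dvd]
  simp

theorem cube_Zc {w : G} (hw : w ∈ D.Zc) : w ^ 3 = 1 := D.cube_Q w (D.Zc_le hw)

theorem comm_Zc {g w : G} (hg : Commute g D.z) (hw : w ∈ D.Zc) : Commute g w := by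
  obtain ⟨k, rfl⟩ := mem_zpowers_iff.1 hw
  exact hg.zpow_right k

theorem comm_Q_Zc {q w : G} (hq : q ∈ D.Q) (hw : w ∈ D.Zc) : Commute q w :=
  D.comm_Zc (D.comm_z q hq) hw

theorem zp_z_inj {k l : ZMod 3} (h : zp D.z k = zp D.z l) : k = l := by
  have : zp D.z (k - l) = 1 := by rw [sub_eq_add_neg, zp_add D.z_cube, ← zp_inv D.z_cube, h, mul_inv_cancel]
  exact sub_eq_zero.1 (zp_eq_one D.hz this)

/-- The exponent of an element of the centre. -/
noncomputable def zlog (w : G) : ZMod 3 :=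
  open scoped Classical in if h : ∃ k : ZMod 3, w = zp D.z k then h.choose else 0

theorem zlog_spec {w : G} (hw : w ∈ D.Zc) : w = zp D.z (D.zlog w) := by
  rw [zlog, dif_pos (D.exists_zp hw)]
  exact (D.exists_zp hw).choose_spec

theorem zlog_zp (k : ZMod 3) : D.zlog (zp D.z k) = k :=
  D.zp_z_inj (D.zlog_spec (zp_mem (mem_zpowers _) k)).symm

theorem zlog_mul {u w : G} (hu : u ∈ D.Zc) (hw : w ∈ D.Zc) : D.zlog (u * w) = D.zlog u + D.zlog w :=
  D.zp_z_inj (by rw [zp_add D.z_cube, ← D.zlog_spec hu, ← D.zlog_spec hw, ← D.zlog_spec (mul_mem hu hw)])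

theorem zlog_one : D.zlog 1 = 0 := by rw [← zp_zero D.z, zlog_zp]

theorem zlog_self : D.zlog D.z = 1 := by
  have h := D.zlog_zp 1
  rwa [zp_one] at h

theorem conj_eq {x y : G} : x * y * x⁻¹ = ⁅x, y⁆ * y := by rw [commutatorElement_def]; group

theorem form_mul_left {x x' y : G} (hx : x ∈ D.Q) (hx' : x' ∈ D.Q) (hy : y ∈ D.Q) :
    ⁅x * x', y⁆ = ⁅x, y⁆ * ⁅x', y⁆ := by
  have h1 : ⁅x * x', y⁆ = x * ⁅x', y⁆ * x⁻¹ * ⁅x, y⁆ := by simp only [commutatorElement_def]; group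
  rw [h1, (D.comm_Q_Zc hx (D.comm_Q x' hx' y hy)).eq, mul_inv_cancel_right]
  exact (D.comm_Q_Zc (D.Zc_le (D.comm_Q x' hx' y hy)) (D.comm_Q x hx y hy)).eq

theorem form_mul_right {x y y' : G} (hx : x ∈ D.Q) (hy : y ∈ D.Q) (hy' : y' ∈ D.Q) :
    ⁅x, y * y'⁆ = ⁅x, y⁆ * ⁅x, y'⁆ := by
  rw [← commutatorElement_inv (y * y') x, D.form_mul_left hy hy' hx, mul_inv_rev,
    commutatorElement_inv, commutatorElement_inv]
  exact (D.comm_Q_Zc (D.Zc_le (D.comm_Q x hx y' hy')) (D.comm_Q x hx y hy)).eq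

/-- The coordinates of an element of `Q`. -/
noncomputable def vec (q : G) : V := fun i => (D.zlog ⁅q, D.b i⁆, D.zlog ⁅D.a i, q⁆)

theorem vec_mul {q r : G} (hq : q ∈ D.Q) (hr : r ∈ D.Q) : D.vec (q * r) = D.vec q + D.vec r := by
  funext i
  refine Prod.ext ?_ ?_
  · show D.zlog ⁅q * r, D.b i⁆ = _
    rw [D.form_mul_left hq hr (D.hb' i), D.zlog_mul (D.comm_Q _ hq _ (D.hb' i)) (D.comm_Q _ hr _ (D.hb' i))]
    rfl
  · show D.zlog ⁅D.a i, q * r⁆ = _
    rw [D.form_mul_right (D.ha' i) hq hr, D.zlog_mul (D.comm_Q _ (D.ha' i) _ hq) (D.comm_Q _ (D.ha' i) _ hr)]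
    rfl

theorem vec_one : D.vec 1 = 0 := by funext i; simp [vec, D.zlog_one]

theorem vec_inv {q : G} (hq : q ∈ D.Q) : D.vec q⁻¹ = -D.vec q := by
  refine eq_neg_of_add_eq_zero_left ?_
  rw [← D.vec_mul (D.Q.inv_mem hq) hq, inv_mul_cancel, D.vec_one]

theorem vec_pow {q : G} (hq : q ∈ D.Q) (n : ℕ) : D.vec (q ^ n) = n • D.vec q := by
  induction n with
  | zero => simp [D.vec_one]
  | succ n ih => rw [pow_succ, D.vec_mul (D.Q.pow_mem hq n) hq, ih, succ_nsmul]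

theorem vec_zp {q : G} (hq : q ∈ D.Q) (k : ZMod 3) : D.vec (zp q k) = k • D.vec q := by
  rw [zp, D.vec_pow hq, ← Nat.cast_smul_eq_nsmul (ZMod 3), ZMod.natCast_zmod_val]

theorem vec_Zc {w : G} (hw : w ∈ D.Zc) : D.vec w = 0 := by
  funext i
  have h1 : ⁅w, D.b i⁆ = 1 := commutatorElement_eq_one_iff_commute.2 (D.comm_Q_Zc (D.hb' i) hw).symm
  have h2 : ⁅D.a i, w⁆ = 1 := commutatorElement_eq_one_iff_commute.2 (D.comm_Q_Zc (D.ha' i) hw)
  simp [vec, h1, h2, D.zlog_one]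

theorem vec_a (i : Fin 4) : D.vec (D.a i) = Pi.single i (1, 0) := by
  funext j
  by_cases h : j = i
  · subst h
    simp [vec, D.hab j, D.zlog_self, D.zlog_one, commutatorElement_def]
  · have h1 : ⁅D.a i, D.b j⁆ = 1 := commutatorElement_eq_one_iff_commute.2 (D.hne i j (Ne.symm h))
    have h2 : ⁅D.a j, D.a i⁆ = 1 := commutatorElement_eq_one_iff_commute.2 (D.haa j i)
    simp [vec, h1, h2, D.zlog_one, Pi.single_eq_of_ne h]

theorem vec_b (i : Fin 4) : D.vec (D.b i) = Pi.single i (0, 1) := by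
  funext j
  by_cases h : j = i
  · subst h
    simp [vec, D.hab j, D.zlog_self, D.zlog_one, commutatorElement_def]
  · have h1 : ⁅D.b i, D.b j⁆ = 1 := commutatorElement_eq_one_iff_commute.2 (D.hbb i j)
    have h2 : ⁅D.a j, D.b i⁆ = 1 := commutatorElement_eq_one_iff_commute.2 (D.hne j i h)
    simp [vec, h1, h2, D.zlog_one, Pi.single_eq_of_ne h]

/-- A section of the coordinates on one plane. -/
noncomputable def elp (i : Fin 4) (u : ZMod 3 × ZMod 3) : G := zp (D.a i) u.1 * zp (D.b i) u.2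

theorem elp_mem (i : Fin 4) (u : ZMod 3 × ZMod 3) : D.elp i u ∈ D.Q :=
  mul_mem (zp_mem (D.ha' i) _) (zp_mem (D.hb' i) _)

theorem vec_elp (i : Fin 4) (u : ZMod 3 × ZMod 3) : D.vec (D.elp i u) = Pi.single i u := by
  rw [elp, D.vec_mul (zp_mem (D.ha' i) _) (zp_mem (D.hb' i) _), D.vec_zp (D.ha' i), D.vec_zp (D.hb' i),
    D.vec_a, D.vec_b, ← Pi.single_smul, ← Pi.single_smul, ← Pi.single_add]
  congr 1
  simp [Prod.smul_def]

/-- A section of the coordinates. -/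
noncomputable def el (v : V) : G := D.elp 0 (v 0) * D.elp 1 (v 1) * D.elp 2 (v 2) * D.elp 3 (v 3)

theorem el_mem (v : V) : D.el v ∈ D.Q :=
  mul_mem (mul_mem (mul_mem (D.elp_mem _ _) (D.elp_mem _ _)) (D.elp_mem _ _)) (D.elp_mem _ _)

theorem vec_el (v : V) : D.vec (D.el v) = v := by
  rw [el, D.vec_mul (mul_mem (mul_mem (D.elp_mem _ _) (D.elp_mem _ _)) (D.elp_mem _ _)) (D.elp_mem _ _),
    D.vec_mul (mul_mem (D.elp_mem _ _) (D.elp_mem _ _)) (D.elp_mem _ _), D.vec_mul (D.elp_mem _ _) (D.elp_mem _ _),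
    D.vec_elp, D.vec_elp, D.vec_elp, D.vec_elp]
  funext i
  fin_cases i <;> simp

/-- The centre and the section exhaust `Q`. -/
theorem exists_el {q : G} (hq : q ∈ D.Q) : ∃ w ∈ D.Zc, q = w * D.el (D.vec q) := by
  classical
  let f : D.Zc × V → D.Q := fun p => ⟨p.1 * D.el p.2, mul_mem (D.Zc_le p.1.2) (D.el_mem p.2)⟩
  have hinj : Function.Injective f := by
    intro p p' e
    have e' : (p.1 : G) * D.el p.2 = p'.1 * D.el p'.2 := congrArg Subtype.val e
    have hv := congrArg D.vec e'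
    rw [D.vec_mul (D.Zc_le p.1.2) (D.el_mem _), D.vec_mul (D.Zc_le p'.1.2) (D.el_mem _),
      D.vec_Zc p.1.2, D.vec_Zc p'.1.2, zero_add, zero_add, D.vec_el, D.vec_el] at hv
    rw [hv] at e'
    exact Prod.ext (Subtype.ext (mul_right_cancel e')) hv
  have hcard : Nat.card (D.Zc × V) = Nat.card D.Q := by
    rw [Nat.card_prod, D.card_Zc, D.card_Q, Nat.card_fun, Nat.card_prod, Nat.card_zmod, Nat.card_fin]
    norm_num
  obtain ⟨⟨w, v⟩, hp⟩ := ((Nat.bijective_iff_injective_and_card f).2 ⟨hinj, hcard⟩).2 ⟨q, hq⟩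
  have e : q = (w : G) * D.el v := (congrArg Subtype.val hp).symm
  refine ⟨w, w.2, ?_⟩
  rw [show D.vec q = v by rw [e, D.vec_mul (D.Zc_le w.2) (D.el_mem _), D.vec_Zc w.2, zero_add, D.vec_el]]
  exact e

/-- What commutes with all the hyperbolic pairs commutes with `Q`. -/
theorem commute_Q_of_pairs {g : G} (hgz : Commute g D.z) (h : ∀ i, Commute g (D.a i) ∧ Commute g (D.b i)) :
    ∀ q ∈ D.Q, Commute g q := by
  intro q hq
  obtain ⟨w, hw, e⟩ := D.exists_el hq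
  rw [e]
  have h' : ∀ i u, Commute g (D.elp i u) := fun i u =>
    ((zp_comm (h i).1.symm u.1).symm).mul_right ((zp_comm (h i).2.symm u.2).symm)
  exact (D.comm_Zc hgz hw).mul_right ((((h' 0 _).mul_right (h' 1 _)).mul_right (h' 2 _)).mul_right (h' 3 _))

theorem center_Q {x : G} (hx : x ∈ D.Q) (h : ∀ y ∈ D.Q, Commute x y) : x ∈ D.Zc :=
  D.cent_Q x (D.comm_z x hx) h

theorem mem_Zc_iff {q : G} (hq : q ∈ D.Q) : q ∈ D.Zc ↔ D.vec q = 0 := by
  refine ⟨D.vec_Zc, fun h => D.center_Q hq (D.commute_Q_of_pairs (D.comm_z q hq) fun i => ?_)⟩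
  have h1 : D.zlog ⁅q, D.b i⁆ = 0 := congrArg Prod.fst (congrFun h i)
  have h2 : D.zlog ⁅D.a i, q⁆ = 0 := congrArg Prod.snd (congrFun h i)
  refine ⟨(commutatorElement_eq_one_iff_commute.1 ?_).symm, commutatorElement_eq_one_iff_commute.1 ?_⟩
  · rw [D.zlog_spec (D.comm_Q _ (D.ha' i) _ hq), h2, zp_zero]
  · rw [D.zlog_spec (D.comm_Q _ hq _ (D.hb' i)), h1, zp_zero]

/-- Equal coordinates differ by a central element. -/
theorem div_mem_Zc {q r : G} (hq : q ∈ D.Q) (hr : r ∈ D.Q) (h : D.vec q = D.vec r) : q * r⁻¹ ∈ D.Zc := by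
  rw [D.mem_Zc_iff (mul_mem hq (inv_mem hr)), D.vec_mul hq (inv_mem hr), D.vec_inv hr, h, add_neg_cancel]

theorem zlog_form_elp {q : G} (hq : q ∈ D.Q) (i : Fin 4) (u : ZMod 3 × ZMod 3) :
    D.zlog ⁅q, D.elp i u⁆ = pl (D.vec q i) u := by
  have hp : ∀ x ∈ D.Q, ∀ n : ℕ, D.zlog ⁅q, x ^ n⁆ = n * D.zlog ⁅q, x⁆ := by
    intro x hx n
    induction n with
    | zero => simp [D.zlog_one, commutatorElement_def]
    | succ n ih =>
      rw [pow_succ, D.form_mul_right hq (D.Q.pow_mem hx n) hx,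
        D.zlog_mul (D.comm_Q _ hq _ (D.Q.pow_mem hx n)) (D.comm_Q _ hq _ hx), ih]
      push_cast; ring
  have hneg : D.zlog ⁅q, D.a i⁆ = -(D.vec q i).2 := by
    refine eq_neg_of_add_eq_zero_left ?_
    show _ + D.zlog ⁅D.a i, q⁆ = 0
    rw [← D.zlog_mul (D.comm_Q _ hq _ (D.ha' i)) (D.comm_Q _ (D.ha' i) _ hq), ← commutatorElement_inv q,
      mul_inv_cancel, D.zlog_one]
  rw [elp, D.form_mul_right hq (zp_mem (D.ha' i) _) (zp_mem (D.hb' i) _),
    D.zlog_mul (D.comm_Q _ hq _ (zp_mem (D.ha' i) _)) (D.comm_Q _ hq _ (zp_mem (D.hb' i) _)), zp, zp,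
    hp _ (D.ha' i), hp _ (D.hb' i), hneg, ZMod.natCast_zmod_val, ZMod.natCast_zmod_val,
    show D.zlog ⁅q, D.b i⁆ = (D.vec q i).1 from rfl, pl]
  ring

/-- The commutator in coordinates. -/
theorem form_eq {q r : G} (hq : q ∈ D.Q) (hr : r ∈ D.Q) : ⁅q, r⁆ = zp D.z (ω (D.vec q) (D.vec r)) := by
  obtain ⟨w, hw, e⟩ := D.exists_el hr
  have h1 : ⁅q, w⁆ = 1 := commutatorElement_eq_one_iff_commute.2 (D.comm_Q_Zc hq hw)
  have hm : ∀ i u, ⁅q, D.elp i u⁆ ∈ D.Zc := fun i u => D.comm_Q _ hq _ (D.elp_mem _ _)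
  have hmem : ∀ i u, D.elp i u ∈ D.Q := fun i u => D.elp_mem i u
  rw [D.zlog_spec (D.comm_Q _ hq _ hr)]
  congr 1
  conv_lhs => rw [e, D.form_mul_right hq (D.Zc_le hw) (D.el_mem _), h1, one_mul, el,
    D.form_mul_right hq (mul_mem (mul_mem (hmem _ _) (hmem _ _)) (hmem _ _)) (hmem _ _),
    D.form_mul_right hq (mul_mem (hmem _ _) (hmem _ _)) (hmem _ _), D.form_mul_right hq (hmem _ _) (hmem _ _),
    D.zlog_mul (mul_mem (mul_mem (hm _ _) (hm _ _)) (hm _ _)) (hm _ _),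
    D.zlog_mul (mul_mem (hm _ _) (hm _ _)) (hm _ _), D.zlog_mul (hm _ _) (hm _ _),
    D.zlog_form_elp hq, D.zlog_form_elp hq, D.zlog_form_elp hq, D.zlog_form_elp hq]
  simp only [ω, Fin.sum_univ_four]

theorem commute_iff {q r : G} (hq : q ∈ D.Q) (hr : r ∈ D.Q) : Commute q r ↔ ω (D.vec q) (D.vec r) = 0 := by
  rw [← commutatorElement_eq_one_iff_commute, D.form_eq hq hr]
  exact ⟨fun h => zp_eq_one D.hz h, fun h => by rw [h, zp_zero]⟩

end Frame

end Cfsg.Lib.Fi23Three
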