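import Cfsg.Agent.Lib.Fi23Three.Cover

/-!
# The centraliser of the swap in coordinates
-/

set_option autoImplicit false
set_option linter.unusedSectionVars false
set_option maxRecDepth 100000

namespace Cfsg.Lib.Fi23Three

/-- The images of the six generators under the third generator. -/
def gim : Fin 6 → W6 := ![![(1, 0), (0, 1), (1, 0)], ![(0, 1), (1, 1), (0, 1)], ![(0, 1), (1, 0), (1, 0)], ![(1, 1), (0, 1), (0, 1)], ![(1, 1), (1, 1), (1, 0)], ![(1, 0), (1, 0), (0, 1)]]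

theorem gim_cube : ∀ u, lin6 gim (lin6 gim (lin6 gim u)) = u := by decide +kernel

/-- The generators of the centraliser of the swap on the quotient. -/
def gp : Fin 3 → Equiv.Perm W6 :=
  ![sperm (Pi.single 2 1) 0, sperm (Pi.single 0 1 + Pi.single 1 1) 0,
    { toFun := lin6 gim, invFun := fun u => lin6 gim (lin6 gim u), left_inv := gim_cube, right_inv := gim_cube }]

/-- The maps inducing them. -/
def gw : Fin 3 → M8 :=
  ![gl 8,
    [[1, 0, 1, 0, 1, 0, 1, 0], [0, 1, 0, 1, 0, 1, 0, 1], [0, 0, 1, 0, 0, 0, 1, 0], [0, 0, 0, 1, 0, 0, 0, 1], [0, 0, 0, 0, 1, 0, 1, 0], [0, 0, 0, 0, 0, 1, 0, 1], [0, 0, 0, 0, 0, 0, 1, 0], [0, 0, 0, 0, 0, 0, 0, 1]],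
    [[0, 0, 2, 0, 2, 0, 0, 1], [2, 0, 0, 1, 0, 1, 0, 0], [2, 0, 1, 1, 0, 1, 1, 1], [2, 1, 1, 0, 1, 2, 0, 2], [2, 0, 0, 1, 1, 1, 1, 1], [2, 1, 1, 2, 1, 0, 0, 2], [1, 1, 0, 2, 0, 2, 2, 1], [2, 2, 2, 0, 2, 0, 2, 1]]]

theorem lin6_add : ∀ u w, lin6 gim (u + w) = lin6 gim u + lin6 gim w := by decide +kernel

theorem lin6_q6 : ∀ u, q6 (lin6 gim u) = q6 u := by decide +kernel

theorem lin6_zeta : ∀ u, zeta6 (lin6 gim u) = lin6 gim (zeta6 u) := by decide +kernel

theorem gp_mem (i : Fin 3) : gp i ∈ CZ := by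
  fin_cases i
  exacts [sperm_mem_CZ _ _, sperm_mem_CZ _ _, mem_CZ_of lin6_add lin6_q6 lin6_zeta]

theorem symp_gw : ∀ i, Symp (gw i) := by unfold Symp; decide +kernel

theorem tw_gw (i : Fin 3) : Tw (ev (gw i)) (gp i) := Tw.of_chk (gp_mem i).1.1 (by revert i; decide +kernel)

theorem gw_SW_bas : ∀ i q, ev SW (ev (gw i) (bas q)) = ev (gw i) (ev SW (bas q)) := by decide +kernel

theorem gw_SW (i : Fin 3) (v : V) : ev SW (ev (gw i) v) = ev (gw i) (ev SW v) :=
  ext_bas (f := fun v => ev SW (ev (gw i) v)) (g := fun v => ev (gw i) (ev SW v))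
    (fun a b => by simp [ev_add]) (fun a b => by simp [ev_add]) (gw_SW_bas i) v

theorem gw_cube_bas : ∀ i q, ev (gw i) (ev (gw i) (ev (gw i) (bas q))) = bas q := by decide +kernel

theorem gw_cube (i : Fin 3) (v : V) : ev (gw i) (ev (gw i) (ev (gw i) v)) = v :=
  ext_bas (f := fun v => ev (gw i) (ev (gw i) (ev (gw i) v))) (g := fun v => v)
    (fun a b => by simp [ev_add]) (fun _ _ => rfl) (gw_cube_bas i) v

/-- The map of a word on the quotient. -/
def gwFun : List (Fin 3) → W6 → W6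
  | [], u => u
  | i :: w, u => gp i (gwFun w u)

/-- The element of a word. -/
def gwPerm : List (Fin 3) → Equiv.Perm W6
  | [] => 1
  | i :: w => gp i * gwPerm w

/-- The map of a word on the coordinates. -/
def gwEv : List (Fin 3) → V → V
  | [], v => v
  | i :: w, v => ev (gw i) (gwEv w v)

theorem gwPerm_apply : ∀ (w : List (Fin 3)) (u : W6), gwPerm w u = gwFun w u
  | [], _ => rfl
  | i :: w, u => by show gp i (gwPerm w u) = gp i (gwFun w u); rw [gwPerm_apply w u]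

theorem gwPerm_mem : ∀ w, gwPerm w ∈ CZ
  | [] => one_mem _
  | i :: w => mul_mem (gp_mem i) (gwPerm_mem w)

theorem gwEv_add : ∀ w v v', gwEv w (v + v') = gwEv w v + gwEv w v'
  | [], _, _ => rfl
  | i :: w, v, v' => by show ev (gw i) _ = ev (gw i) _ + ev (gw i) _; rw [gwEv_add w, ev_add]

/-- The words for the centraliser of the swap. -/
def gwords : List (List (Fin 3)) :=
  [ [],
    [0],
    [1],
    [2],
    [0, 0],
    [1, 0],
    [2, 0],
    [1, 1],
    [2, 1],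
    [0, 2],
    [1, 2],
    [2, 2],
    [1, 0, 0],
    [2, 0, 0],
    [1, 1, 0],
    [2, 1, 0],
    [0, 2, 0],
    [1, 2, 0],
    [2, 2, 0],
    [2, 1, 1],
    [0, 2, 1],
    [1, 2, 1],
    [2, 2, 1],
    [0, 0, 2],
    [2, 0, 2],
    [1, 1, 2],
    [2, 1, 2],
    [0, 2, 2],
    [1, 2, 2],
    [1, 1, 0, 0],
    [2, 1, 0, 0],
    [0, 2, 0, 0],
    [1, 2, 0, 0],
    [2, 2, 0, 0],
    [2, 1, 1, 0],
    [0, 2, 1, 0],
    [1, 2, 1, 0],
    [2, 2, 1, 0],
    [0, 0, 2, 0],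
    [2, 0, 2, 0],
    [2, 1, 2, 0],
    [0, 2, 2, 0],
    [1, 2, 2, 0],
    [2, 2, 1, 1],
    [2, 1, 2, 1],
    [0, 2, 2, 1],
    [1, 2, 2, 1],
    [2, 0, 0, 2],
    [0, 2, 0, 2],
    [2, 1, 1, 2],
    [2, 2, 1, 2],
    [0, 0, 2, 2],
    [1, 1, 2, 2],
    [2, 1, 2, 2],
    [2, 1, 1, 0, 0],
    [2, 2, 1, 0, 0],
    [0, 0, 2, 0, 0],
    [2, 1, 2, 0, 0],
    [1, 2, 2, 0, 0],
    [2, 2, 1, 1, 0],
    [2, 1, 2, 1, 0],
    [0, 2, 2, 1, 0],
    [1, 2, 2, 1, 0],
    [2, 0, 0, 2, 0],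
    [1, 1, 2, 2, 0],
    [2, 1, 2, 2, 0],
    [2, 2, 1, 2, 1],
    [2, 2, 0, 0, 2],
    [2, 0, 2, 0, 2],
    [2, 0, 0, 2, 2],
    [2, 2, 1, 1, 0, 0],
    [2, 0, 0, 2, 0, 0] ]

/-- The words for the quaternion group. -/
def o8W : List (List (Fin 3)) :=
  [ [],
    [2, 1],
    [1, 2],
    [2, 2, 1, 1],
    [2, 1, 2, 1],
    [1, 2, 2, 1],
    [2, 1, 1, 2],
    [1, 1, 2, 2] ]

/-- The frame images of a word. -/
def key (f : W6 → W6) : W6 × W6 × W6 := (f (fr 0), f (fr 1), f (fr 2))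

theorem gwords_cover : ∀ t ∈ triples, t.2.1 = swp t.1 → swp t.2.2 = t.2.2 →
    t ∈ gwords.map fun w => key (gwFun w) := by decide +kernel

theorem mem_triples {h : Equiv.Perm W6} (hh : h ∈ CZ) : key h ∈ triples := by
  have hz : ∀ u, h (zeta6 u) = zeta6 (h u) := fun u => by
    simpa using Equiv.Perm.ext_iff.1 (Subgroup.mem_centralizer_singleton_iff.1 hh.2) u
  have hu : ∀ j, h (fr j) ∈ units := fun j => mem_units _ (by rw [hh.1.2]; revert j; decide)
  have ho : ∀ i j, i ≠ j → orth4 (h (fr i)) (h (fr j)) = true := by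
    intro i j hij
    simp only [orth4, ← hz, pol6_map hh.1]
    revert i j; decide +kernel
  simp only [key, triples, List.mem_flatMap, List.mem_map, List.mem_filter]
  exact ⟨_, hu 0, _, ⟨hu 1, ho 0 1 (by decide)⟩, _, ⟨⟨hu 2, ho 0 2 (by decide)⟩, ho 1 2 (by decide)⟩, rfl⟩

theorem swp_fr : swp (fr 0) = fr 1 ∧ swp (fr 2) = fr 2 := by decide +kernel

/-- Every element commuting with the swap is a word. -/
theorem exists_gword {h : Equiv.Perm W6} (hh : h ∈ CZ) (hc : ∀ u, h (swp u) = swp (h u)) :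
    ∃ w ∈ gwords, h = gwPerm w := by
  have h1 : h (fr 1) = swp (h (fr 0)) := by rw [← hc, swp_fr.1]
  have h2 : swp (h (fr 2)) = h (fr 2) := by rw [← hc, swp_fr.2]
  obtain ⟨w, hw, e⟩ := List.mem_map.1 (gwords_cover _ (mem_triples hh) h1 h2)
  simp only [key, Prod.mk.injEq] at e
  refine ⟨w, hw, CZ_ext hh (gwPerm_mem w) fun j => ?_⟩
  rw [gwPerm_apply]
  fin_cases j
  exacts [e.1.symm, e.2.1.symm, e.2.2.symm]

theorem o8_mul : ∀ a ∈ o8W, ∀ b ∈ o8W, ∃ c ∈ o8W, ∀ j, gwFun a (gwFun b (fr j)) = gwFun c (fr j) := by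
  decide +kernel

theorem o8_four : ∀ a ∈ o8W, ∀ j, gwFun a (gwFun a (gwFun a (gwFun a (fr j)))) = fr j := by decide +kernel

theorem o8_normal : ∀ w ∈ gwords, ∀ a ∈ o8W, ∃ b ∈ o8W, ∀ j, gwFun w (gwFun a (fr j)) = gwFun b (gwFun w (fr j)) := by
  decide +kernel

theorem o8_nine : ∀ w ∈ gwords, ∃ a ∈ o8W, ∀ j, (gwFun w)^[9] (fr j) = gwFun a (fr j) := by decide +kernel

theorem o8_two : ∀ w ∈ gwords, (∀ j, (gwFun w)^[8] (fr j) = fr j) → ∃ a ∈ o8W, ∀ j, gwFun w (fr j) = gwFun a (fr j) := by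
  decide +kernel

theorem o8_swp : ∃ a ∈ o8W, ∀ j, swp (fr j) = gwFun a (fr j) := by decide +kernel

theorem o8_nil : [] ∈ o8W := by decide +kernel

theorem o8_nodup : (o8W.map fun a => key (gwFun a)).Nodup := by decide +kernel

/-- The quaternion group on the quotient. -/
def O8 : Subgroup (Equiv.Perm W6) where
  carrier := {h | ∃ a ∈ o8W, h = gwPerm a}
  mul_mem' := by
    rintro _ _ ⟨a, ha, rfl⟩ ⟨b, hb, rfl⟩
    obtain ⟨c, hc, e⟩ := o8_mul a ha b hb
    refine ⟨c, hc, CZ_ext (mul_mem (gwPerm_mem a) (gwPerm_mem b)) (gwPerm_mem c) fun j => ?_⟩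
    simpa [gwPerm_apply] using e j
  one_mem' := ⟨[], o8_nil, rfl⟩
  inv_mem' := by
    rintro _ ⟨a, ha, rfl⟩
    obtain ⟨b, hb, e⟩ := o8_mul a ha a ha
    obtain ⟨c, hc, e'⟩ := o8_mul a ha b hb
    refine ⟨c, hc, inv_eq_of_mul_eq_one_right (CZ_ext (mul_mem (gwPerm_mem a) (gwPerm_mem c)) (one_mem _) fun j => ?_)⟩
    simp only [Equiv.Perm.coe_mul, Function.comp_apply, gwPerm_apply, Equiv.Perm.coe_one, id_eq]
    rw [← e' j, ← e j, o8_four a ha j]

/-- The sum on the plane swapped with it. -/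
def diag (p r : ZMod 2 × ZMod 2) : W6 := ![p, p, r]

theorem swp_eq_self : ∀ u, swp u = u → u = diag (u 0) (u 2) := by decide +kernel

theorem diag_SW_bas : ∀ p r q, ev SW (fac 0 p (fac 1 p (fac 2 r (bas q)))) = fac 0 p (fac 1 p (fac 2 r (ev SW (bas q)))) := by
  decide +kernel

theorem diag_SW (p r : ZMod 2 × ZMod 2) (v : V) : ev SW (rho (diag p r) v) = rho (diag p r) (ev SW v) :=
  ext_bas (f := fun v => ev SW (rho (diag p r) v)) (g := fun v => rho (diag p r) (ev SW v))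
    (fun a b => by simp [ev_add, rho_add]) (fun a b => by simp [ev_add, rho_add])
    (fun q => by simp only [rho_eq]; exact diag_SW_bas p r q) v

/-- The first vector of the pair in a plane. -/
def pa : Fin 3 → V :=
  ![ofc ![0, 1, 0, 2, 0, 2, 0, 2], ofc ![0, 1, 0, 1, 0, 1, 0, 2], ofc ![0, 1, 0, 0, 0, 0, 0, 1]]

/-- The second vector of the pair in a plane. -/
def pb : Fin 3 → V :=
  ![ofc ![1, 0, 2, 0, 2, 0, 2, 0], ofc ![1, 0, 1, 0, 1, 0, 2, 0], ofc ![1, 0, 0, 0, 0, 0, 1, 0]]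

theorem pab : ∀ i j, ω (pa i) (pb j) = (if i = j then 1 else 0) ∧ ω (pa i) (pa j) = 0 ∧ ω (pb i) (pb j) = 0 ∧
    ev SW (pa i) = pa i ∧ ev SW (pb i) = pb i := by decide +kernel

/-- The projection to a plane. -/
def prj (i : Fin 3) (v : V) : V := ω v (pb i) • pa i + ω (pa i) v • pb i

/-- The vectors of a plane. -/
def InPl (i : Fin 3) (v : V) : Prop := prj i v = v

instance (i : Fin 3) (v : V) : Decidable (InPl i v) := by unfold InPl; infer_instance

theorem prj_add (i : Fin 3) (v w : V) : prj i (v + w) = prj i v + prj i w := by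
  simp only [prj, ω_add_left, ω_add_right, add_smul]; abel

theorem prj_pair : ∀ i, InPl i (pa i) ∧ InPl i (pb i) := by decide +kernel

theorem InPl.map {i : Fin 3} {f : V → V} (hf : ∀ v w, f (v + w) = f v + f w) (ha : InPl i (f (pa i)))
    (hb : InPl i (f (pb i))) {v : V} (hv : InPl i v) : InPl i (f v) := by
  have e : f v = ω v (pb i) • f (pa i) + ω (pa i) v • f (pb i) := by
    conv_lhs => rw [← show prj i v = v from hv, prj, hf, smul_of_add hf, smul_of_add hf]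
  show prj i (f v) = f v
  rw [e, prj_add, smul_of_add (prj_add i), smul_of_add (prj_add i), show prj i (f (pa i)) = f (pa i) from ha,
    show prj i (f (pb i)) = f (pb i) from hb]

theorem o8_planes : ∀ a ∈ o8W, ∀ i, InPl i (gwEv a (pa i)) ∧ InPl i (gwEv a (pb i)) := by decide +kernel

theorem diag_planes : ∀ p r i, InPl i (fac 0 p (fac 1 p (fac 2 r (pa i)))) ∧
    InPl i (fac 0 p (fac 1 p (fac 2 r (pb i)))) := by decide +kernel

theorem diag_sgn : ∀ i : Fin 3, ∃ p : ZMod 2 × ZMod 2, ∃ c : ZMod 3, c ≠ 0 ∧ ∀ j,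
    c • fac 0 p (fac 1 p (fac 2 0 (pa j))) = (if j = i then -pa j else pa j) ∧
    c • fac 0 p (fac 1 p (fac 2 0 (pb j))) = (if j = i then -pb j else pb j) := by decide +kernel

theorem fix_bas : ∀ q, bas q + ev SW (bas q) =
    prj 0 (bas q + ev SW (bas q)) + prj 1 (bas q + ev SW (bas q)) + prj 2 (bas q + ev SW (bas q)) := by decide +kernel

/-- The planes make up the fixed space. -/
theorem fix_decomp {v : V} (hv : ev SW v = v) : v = prj 0 v + prj 1 v + prj 2 v := by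
  have h := ext_bas (f := fun v => v + ev SW v)
    (g := fun v => prj 0 (v + ev SW v) + prj 1 (v + ev SW v) + prj 2 (v + ev SW v))
    (fun a b => by simp only [ev_add]; abel)
    (fun a b => by simp only [ev_add, prj_add]; abel) fix_bas (-v)
  simp only [neg_of_add (ev_add SW), hv] at h
  have e : -v + -v = v := by
    funext i
    exact (show ∀ p : ZMod 3 × ZMod 3, -p + -p = p by decide) _
  rwa [e] at h

/-- The element whose square is minus the swap. -/
def xW : List (Fin 3) := [2, 1]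

theorem xW_mem : xW ∈ o8W := by decide +kernel

theorem xW_sq_bas : ∀ q, gwEv xW (gwEv xW (bas q)) = -ev SW (bas q) := by decide +kernel

theorem xW_sq (v : V) : gwEv xW (gwEv xW v) = -ev SW v :=
  ext_bas (f := fun v => gwEv xW (gwEv xW v)) (g := fun v => -ev SW v)
    (fun a b => by simp only [gwEv_add]) (fun a b => by simp only [ev_add]; abel) xW_sq_bas v

theorem fix_fr : ∀ t ∈ triples, t.2.1 = swp t.1 → swp t.2.2 = t.2.2 → t.1 + t.2.1 = fr 0 + fr 1 → t.2.2 = fr 2 →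
    t = key id ∨ t = key swp := by decide +kernel

theorem rho_fix_one : ∀ (p r : ZMod 2 × ZMod 2) (c : ZMod 3),
    (∀ i, c • fac 0 p (fac 1 p (fac 2 r (pa i))) = pa i ∧ c • fac 0 p (fac 1 p (fac 2 r (pb i))) = pb i) →
    p = 0 ∧ r = 0 ∧ c = 1 := by decide +kernel

end Cfsg.Lib.Fi23Three
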