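import Cfsg.Agent.Lib.Fi23Three.Pair
import Cfsg.Agent.Lib.Fi23Three.LocalData

/-!
# The centraliser of `z` and the involution
-/

set_option autoImplicit false
set_option linter.unusedSectionVars false
set_option linter.style.haveILetI false

namespace Cfsg.Lib.Fi23Three

open Subgroup
open scoped commutatorElement
open Cfsg.Lib.U6Three (zp zp_zero zp_one zp_mem zp_inv zp_add)

namespace Data

variable {G : Type*} [Group G] [Finite G] (D : Data G)

/-- Equal maps are congruent modulo `Q`. -/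
theorem mem_Q_of_act_eq {g h : G} (hg : Commute g D.z) (hh : Commute h D.z)
    (e : ∀ v, D.toFrame.act g v = D.toFrame.act h v) : h⁻¹ * g ∈ D.Q :=
  D.toFrame.mem_Q_of_act (hh.inv_left.mul_left hg) fun v => by
    rw [D.toFrame.act_mul hh.inv_left hg, e, D.toFrame.act_inv_cancel hh]

theorem lifted_pow1 (M : M8) (hM : D.Lifted M) (c : ZMod 2) : D.Lifted (pow1 M c) := by
  rw [pow1]; split_ifs
  · exact hM
  · exact D.lifted_one

theorem lifted_rho (u : W6) : D.Lifted (rhoM u) :=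
  ((D.lifted_pow1 _ (D.lifted_gl 0) _).mul (D.lifted_pow1 _ (D.lifted_gl 1) _)).mul
    (((D.lifted_pow1 _ (D.lifted_gl 2) _).mul (D.lifted_pow1 _ (D.lifted_gl 3) _)).mul
      ((D.lifted_pow1 _ (D.lifted_gl 4) _).mul (D.lifted_pow1 _ (D.lifted_gl 5) _)))

/-- A nonzero multiple of an operator is induced. -/
theorem exists_act_rho (u : W6) {c : ZMod 3} (hc : c ≠ 0) :
    ∃ g, Commute g D.z ∧ ∀ v, D.toFrame.act g v = c • rho u v := by
  rcases (show ∀ c : ZMod 3, c ≠ 0 → c = 1 ∨ c = -1 by decide) c hc with rfl | rfl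
  · obtain ⟨g, hg, e⟩ := D.lifted_rho u
    exact ⟨g, hg, fun v => by rw [e, one_smul]; rfl⟩
  · obtain ⟨g, hg, e⟩ := ((D.lifted_gl 0).mul (D.lifted_gl 0)).mul (D.lifted_rho u)
    have hn : ∀ q, ev (gl 0) (ev (gl 0) (bas q)) = -bas q := by decide +kernel
    exact ⟨g, hg, fun v => by
      rw [e, ev_mmul, ev_mmul, ext_bas (f := fun v => ev (gl 0) (ev (gl 0) v)) (g := fun v => -v)
        (fun a b => by simp [ev_add]) (fun a b => by abel) hn (ev (rhoM u) v), neg_one_smul]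
      rfl⟩

variable {D} (P : D.Piv)

/-- The centraliser of `z` and the involution. -/
def Piv.Ht : Subgroup G := centralizer ({D.z} : Set G) ⊓ centralizer ({P.τ} : Set G)

theorem Piv.mem_Ht {g : G} : g ∈ P.Ht ↔ Commute g D.z ∧ Commute g P.τ := by
  simp only [Piv.Ht, mem_inf, mem_centralizer_singleton_iff]
  exact Iff.rfl

theorem Piv.τ_mem : P.τ ∈ P.Ht := P.mem_Ht.2 ⟨P.comm_z, Commute.refl _⟩

theorem Piv.act_comm {g : G} (hg : g ∈ P.Ht) (v : V) :
    D.toFrame.act g (ev SW v) = ev SW (D.toFrame.act g v) := by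
  obtain ⟨hz, ht⟩ := P.mem_Ht.1 hg
  rw [← P.act_τ, ← P.act_τ, ← D.toFrame.act_mul hz P.comm_z, ← D.toFrame.act_mul P.comm_z hz, ht.eq]

/-- A map commuting with the swap is induced by an element centralising the involution. -/
theorem Piv.lift_t {g : G} (hg : Commute g D.z) (hc : ∀ v, D.toFrame.act g (ev SW v) = ev SW (D.toFrame.act g v)) :
    ∃ g' ∈ P.Ht, ∀ v, D.toFrame.act g' v = D.toFrame.act g v := by
  obtain ⟨r, hr⟩ : ∃ r, r = g * P.τ * g⁻¹ * P.τ := ⟨_, rfl⟩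
  have hgt : Commute (g * P.τ * g⁻¹) D.z := (hg.mul_left P.comm_z).mul_left hg.inv_left
  have hrQ : r ∈ D.Q := by
    refine hr ▸ D.toFrame.mem_Q_of_act (hgt.mul_left P.comm_z) fun v => ?_
    rw [D.toFrame.act_mul hgt P.comm_z, D.toFrame.act_mul (hg.mul_left P.comm_z) hg.inv_left,
      D.toFrame.act_mul hg P.comm_z, P.act_τ, P.act_τ]
    have h1 : D.toFrame.act g⁻¹ (ev SW v) = ev SW (D.toFrame.act g⁻¹ v) := by
      refine D.toFrame.act_injective hg ?_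
      rw [D.toFrame.act_cancel_inv hg, hc, D.toFrame.act_cancel_inv hg]
    rw [h1, SW_sq, D.toFrame.act_cancel_inv hg]
  have hi : P.τ⁻¹ = P.τ := inv_eq_of_mul_eq_one_right P.sq
  obtain ⟨s, hs⟩ : ∃ s, s = r⁻¹ := ⟨_, rfl⟩
  have hs2 : s * s = r := by
    rw [hs]
    calc r⁻¹ * r⁻¹ = (r ^ 3)⁻¹ * r := by simp only [pow_succ, pow_zero, one_mul, mul_inv_rev]; group
      _ = r := by rw [D.cube_Q r hrQ]; simp
  have hg1 : g * P.τ * g⁻¹ = r * P.τ := by rw [hr, mul_assoc _ P.τ P.τ, P.sq, mul_one]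
  have hsτ : P.τ * s * P.τ = s⁻¹ := by
    have h2 : r * P.τ * (r * P.τ) = 1 := by
      rw [← hg1]
      calc g * P.τ * g⁻¹ * (g * P.τ * g⁻¹) = g * (P.τ * P.τ) * g⁻¹ := by group
        _ = 1 := by rw [P.sq]; group
    rw [hs, inv_inv]
    calc P.τ * r⁻¹ * P.τ = P.τ⁻¹ * r⁻¹ * P.τ := by rw [hi]
      _ = (r * P.τ)⁻¹ * P.τ := by rw [mul_inv_rev]
      _ = r * P.τ * P.τ := by rw [inv_eq_of_mul_eq_one_right h2]
      _ = r := by rw [mul_assoc, P.sq, mul_one]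
  have hsQ : s ∈ D.Q := hs ▸ inv_mem hrQ
  refine ⟨s⁻¹ * g, P.mem_Ht.2 ⟨(D.comm_z s hsQ).inv_left.mul_left hg, ?_⟩, fun v => ?_⟩
  · have hts : s * P.τ = P.τ * s⁻¹ := by
      rw [← hsτ, ← mul_assoc, ← mul_assoc, P.sq, one_mul]
    show s⁻¹ * g * P.τ = P.τ * (s⁻¹ * g)
    calc s⁻¹ * g * P.τ = s⁻¹ * (g * P.τ * g⁻¹) * g := by group
      _ = s⁻¹ * (s * s * P.τ) * g := by rw [hg1, hs2]
      _ = s * P.τ * g := by group
      _ = _ := by rw [hts, mul_assoc]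
  · rw [D.toFrame.act_mul (D.comm_z s hsQ).inv_left hg, D.toFrame.act_Q (inv_mem hsQ)]

theorem Piv.exists_gw (i : Fin 3) : ∃ g ∈ P.Ht, ∀ v, D.toFrame.act g v = ev (gw i) v := by
  obtain ⟨g, hg, e⟩ := D.lift (gw i) (gp i) (gp_mem i) (symp_gw i) (tw_gw i)
  obtain ⟨g', hg', e'⟩ := P.lift_t hg fun v => by rw [e, e, gw_SW]
  exact ⟨g', hg', fun v => by rw [e', e]⟩

theorem Piv.exists_gwEv : ∀ w : List (Fin 3), ∃ g ∈ P.Ht, ∀ v, D.toFrame.act g v = gwEv w v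
  | [] => ⟨1, one_mem _, fun v => D.toFrame.act_one v⟩
  | i :: w => by
    obtain ⟨g, hg, e⟩ := P.exists_gw i
    obtain ⟨g', hg', e'⟩ := Piv.exists_gwEv w
    exact ⟨g * g', mul_mem hg hg', fun v => by
      rw [D.toFrame.act_mul (P.mem_Ht.1 hg).1 (P.mem_Ht.1 hg').1, e', e]; rfl⟩

theorem Piv.exists_diag (p r : ZMod 2 × ZMod 2) {c : ZMod 3} (hc : c ≠ 0) :
    ∃ g ∈ P.Ht, ∀ v, D.toFrame.act g v = c • rho (diag p r) v := by
  obtain ⟨g, hg, e⟩ := D.exists_act_rho (diag p r) hc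
  obtain ⟨g', hg', e'⟩ := P.lift_t hg fun v => by rw [e, e, ev_smul, diag_SW]
  exact ⟨g', hg', fun v => by rw [e', e]⟩

/-- The map induced on the quotient of `2^{1+6}`. -/
noncomputable def Piv.hh : P.Ht →* Equiv.Perm W6 :=
  MonoidHom.mk' (fun g => (D.top (g : G) (P.mem_Ht.1 g.2).1).choose) fun a b => by
    have ha := (P.mem_Ht.1 a.2).1
    have hb := (P.mem_Ht.1 b.2).1
    obtain ⟨-, ta⟩ := (D.top (a : G) ha).choose_spec
    obtain ⟨-, tb⟩ := (D.top (b : G) hb).choose_spec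
    obtain ⟨-, tab⟩ := (D.top ((a : G) * b) (ha.mul_left hb)).choose_spec
    refine Equiv.ext fun u => ?_
    refine Tw.unique tab ?_ (D.toFrame.act_surjective (ha.mul_left hb)) u
    exact (ta.comp tb (D.toFrame.act_add ha)).congr fun v => (D.toFrame.act_mul ha hb v).symm

theorem Piv.hh_spec (g : P.Ht) : P.hh g ∈ CZ ∧ Tw (D.toFrame.act (g : G)) (P.hh g) :=
  (D.top (g : G) (P.mem_Ht.1 g.2).1).choose_spec

theorem Piv.hh_eq {g : P.Ht} {h : W6 → W6} (ht : Tw (D.toFrame.act (g : G)) h) (u : W6) : P.hh g u = h u :=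
  Tw.unique (P.hh_spec g).2 ht (D.toFrame.act_surjective (P.mem_Ht.1 g.2).1) u

theorem Piv.hh_τ : P.hh ⟨P.τ, P.τ_mem⟩ = swp :=
  Equiv.ext fun u => P.hh_eq (tw_SW.congr fun v => (P.act_τ v).symm) u

theorem Piv.hh_comm (g : P.Ht) (u : W6) : P.hh g (swp u) = swp (P.hh g u) := by
  have h : g * (⟨P.τ, P.τ_mem⟩ : P.Ht) = ⟨P.τ, P.τ_mem⟩ * g := Subtype.ext (P.mem_Ht.1 g.2).2.eq
  have e := congrArg P.hh h
  rw [map_mul, map_mul, P.hh_τ] at e
  exact congrFun (congrArg DFunLike.coe e) u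

theorem tw_gwEv : ∀ w, Tw (gwEv w) (gwPerm w)
  | [] => Tw.id'
  | i :: w => (tw_gw i).comp (tw_gwEv w) (ev_add _)

theorem Piv.exists_word (g : P.Ht) : ∃ w ∈ gwords, P.hh g = gwPerm w :=
  exists_gword (P.hh_spec g).1 (P.hh_comm g)

theorem Piv.swp_of_comm {u : W6} {c : ZMod 3} (hc : c ≠ 0)
    (h : ∀ v, ev SW (c • rho u v) = c • rho u (ev SW v)) : u = diag (u 0) (u 2) := by
  refine swp_eq_self u (rho_inj ?_).symm
  obtain ⟨d, hd, e⟩ := tw_SW u
  refine ⟨d, hd, fun v => ?_⟩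
  have h1 := h (ev SW v)
  rw [ev_smul, e (ev SW v), SW_sq] at h1
  have h2 : d • rho (swp u) v = rho u v := by
    have := congrArg (fun x : V => c • x) h1
    simpa only [smul_smul, ← mul_assoc, (show ∀ c : ZMod 3, c ≠ 0 → c * c = 1 by decide) c hc, one_mul,
      one_smul] using this
  exact h2.symm

/-- The shape of the map of an element with a given word. -/
theorem Piv.decomp {g : P.Ht} {w : List (Fin 3)} (hw : P.hh g = gwPerm w) :
    ∃ p r, ∃ c : ZMod 3, c ≠ 0 ∧ ∀ v, D.toFrame.act (g : G) v = c • rho (diag p r) (gwEv w v) := by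
  obtain ⟨l, hl, el⟩ := P.exists_gwEv w
  set k : P.Ht := g * (⟨l, hl⟩ : P.Ht)⁻¹ with hk
  have hlh : P.hh ⟨l, hl⟩ = gwPerm w := Equiv.ext fun u => P.hh_eq ((tw_gwEv w).congr fun v => (el v).symm) u
  have hk1 : P.hh k = 1 := by rw [hk, map_mul, map_inv, hw, hlh, mul_inv_cancel]
  have hkz := (P.mem_Ht.1 k.2).1
  have htw : Tw (D.toFrame.act (k : G)) fun u => u := by
    have := (P.hh_spec k).2
    rwa [hk1] at this
  obtain ⟨u, c, hc, e⟩ := htw.eq_rho (D.toFrame.act_add hkz) (D.toFrame.act_injective hkz)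
  have hu := Piv.swp_of_comm hc fun v => by rw [← e, ← e, P.act_comm k.2]
  refine ⟨u 0, u 2, c, hc, fun v => ?_⟩
  rw [← hu, ← e, ← el, ← D.toFrame.act_mul hkz (P.mem_Ht.1 hl).1]
  congr 1
  simp [hk]

/-- The centraliser of the involution in `Q`. -/
def Piv.Qt : Subgroup G := D.Q ⊓ centralizer ({P.τ} : Set G)

theorem Piv.mem_Qt {q : G} : q ∈ P.Qt ↔ q ∈ D.Q ∧ ev SW (D.toFrame.vec q) = D.toFrame.vec q := by
  simp only [Piv.Qt, mem_inf, mem_centralizer_singleton_iff]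
  constructor
  · rintro ⟨hq, hc⟩
    refine ⟨hq, ?_⟩
    rw [← P.act_τ, ← D.toFrame.vec_conj P.comm_z hq, ← hc, mul_inv_cancel_right]
  · rintro ⟨hq, hf⟩
    exact ⟨hq, (D.commute_of_fix P.sq P.comm_z hq (by rw [P.act_τ, hf])).eq.symm⟩

theorem Piv.Qt_le : P.Qt ≤ P.Ht := fun _ hq =>
  P.mem_Ht.2 ⟨D.comm_z _ hq.1, mem_centralizer_singleton_iff.1 hq.2⟩

/-- An element centralising `Q` of the involution is congruent to a power of the involution. -/
theorem Piv.mem_of_fix {g : P.Ht} (h : ∀ v, ev SW v = v → D.toFrame.act (g : G) v = v) :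
    (g : G) ∈ D.Q ∨ (g : G) * P.τ ∈ D.Q := by
  have hgz := (P.mem_Ht.1 g.2).1
  obtain ⟨hcz, htw⟩ := P.hh_spec g
  have hdiag : ∀ p r, P.hh g (diag p r) = diag p r := by
    intro p r
    obtain ⟨c, hc, e⟩ := htw (diag p r)
    have hs : swp (diag p r) = diag p r := by funext i; fin_cases i <;> rfl
    have hu := swp_eq_self (P.hh g (diag p r)) (by rw [← P.hh_comm, hs])
    obtain ⟨d, hd, e'⟩ := rho_mul (diag p r) (P.hh g (diag p r))
    beta_reduce at e'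
    obtain ⟨b, hb, esq⟩ := rho_sq (diag p r)
    beta_reduce at esq
    obtain ⟨p', hp'⟩ : ∃ p', p' = P.hh g (diag p r) 0 := ⟨_, rfl⟩
    obtain ⟨r', hr'⟩ : ∃ r', r' = P.hh g (diag p r) 2 := ⟨_, rfl⟩
    rw [← hp', ← hr'] at hu
    have hsum : diag p r + diag p' r' = diag (p + p') (r + r') := by funext i; fin_cases i <;> rfl
    have key : ∀ v, ev SW v = v → (b * (c * d)) • rho (diag (p + p') (r + r')) v = v := by
      intro v hv
      have h1 := e v
      rw [h v hv, h (rho (diag p r) v) (by rw [diag_SW, hv])] at h1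
      have h2 := congrArg (rho (diag p r)) h1
      rw [rho_smul, e', smul_smul, esq, hu, hsum] at h2
      rw [mul_smul, ← h2, id_eq, smul_smul, (show ∀ b : ZMod 3, b ≠ 0 → b * b = 1 by decide) b hb, one_smul]
    obtain ⟨hp, hr, -⟩ := rho_fix_one (p + p') (r + r') (b * (c * d)) fun i => by
      have h1 := key (pa i) (pab i i).2.2.2.1
      have h2 := key (pb i) (pab i i).2.2.2.2
      rw [rho_eq] at h1 h2
      exact ⟨h1, h2⟩
    rw [hu]
    have hcan : ∀ a b : ZMod 2 × ZMod 2, a + b = 0 → b = a := by decide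
    rw [hcan _ _ hp, hcan _ _ hr]
  have h01 : fr 0 + fr 1 = diag (1, 0) 0 ∧ fr 2 = diag 0 (1, 0) := by decide +kernel
  have hk := fix_fr (key (P.hh g)) (mem_triples hcz)
    (by show P.hh g (fr 1) = swp (P.hh g (fr 0)); rw [← P.hh_comm, swp_fr.1])
    (by show swp (P.hh g (fr 2)) = P.hh g (fr 2); rw [← P.hh_comm, swp_fr.2])
    (by show P.hh g (fr 0) + P.hh g (fr 1) = _; rw [← hcz.1.1, h01.1, hdiag])
    (by show P.hh g (fr 2) = _; rw [h01.2, hdiag])
  have key1 : ∀ k : P.Ht, P.hh k = 1 → (∀ v, ev SW v = v → D.toFrame.act (k : G) v = v) → (k : G) ∈ D.Q := by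
    intro k hk1 hfix
    obtain ⟨p, r, c, hc, e⟩ := P.decomp (w := []) hk1
    obtain ⟨rfl, rfl, rfl⟩ := rho_fix_one p r c fun i => by
      have h1 := hfix (pa i) (pab i i).2.2.2.1
      have h2 := hfix (pb i) (pab i i).2.2.2.2
      rw [e, rho_eq] at h1 h2
      exact ⟨h1, h2⟩
    refine D.toFrame.mem_Q_of_act (P.mem_Ht.1 k.2).1 fun v => ?_
    rw [e, show diag 0 0 = 0 by funext i; fin_cases i <;> rfl, rho_zero, one_smul]
    rfl
  rcases hk with hk | hk <;> simp only [key, Prod.mk.injEq, id_eq] at hk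
  · refine Or.inl (key1 g (CZ_ext hcz (one_mem _) fun j => ?_) h)
    fin_cases j
    exacts [hk.1, hk.2.1, hk.2.2]
  · have hg : P.hh g = swp := CZ_ext hcz swp_mem fun j => by
      fin_cases j
      exacts [hk.1, hk.2.1, hk.2.2]
    refine Or.inr (key1 (g * ⟨P.τ, P.τ_mem⟩) ?_ fun v hv => ?_)
    · rw [map_mul, hg, P.hh_τ]
      exact Equiv.ext fun u => by funext i; fin_cases i <;> rfl
    · rw [Subgroup.coe_mul, D.toFrame.act_mul hgz P.comm_z, P.act_τ, hv, h v hv]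

/-- The preimage of the quaternion group. -/
noncomputable def Piv.Pre : Subgroup G := (O8.comap P.hh).map P.Ht.subtype

theorem Piv.mem_Pre {g : G} : g ∈ P.Pre ↔ ∃ h : g ∈ P.Ht, P.hh ⟨g, h⟩ ∈ O8 :=
  ⟨fun ⟨x, hx, e⟩ => e ▸ ⟨x.2, hx⟩, fun ⟨h, hx⟩ => ⟨⟨g, h⟩, hx, rfl⟩⟩

theorem Piv.Pre_le : P.Pre ≤ P.Ht := fun _ hg => (P.mem_Pre.1 hg).1

theorem Piv.τ_Pre : P.τ ∈ P.Pre := by
  obtain ⟨a, ha, e⟩ := o8_swp
  refine P.mem_Pre.2 ⟨P.τ_mem, a, ha, ?_⟩
  rw [P.hh_τ]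
  exact CZ_ext swp_mem (gwPerm_mem a) fun j => by rw [e, gwPerm_apply]

theorem Piv.Pre_planes {g : G} (hg : g ∈ P.Pre) {i : Fin 3} {v : V} (hv : InPl i v) :
    InPl i (D.toFrame.act g v) := by
  obtain ⟨hm, a, ha, e⟩ := P.mem_Pre.1 hg
  obtain ⟨p, r, c, -, hact⟩ := P.decomp e
  rw [show D.toFrame.act g v = _ from hact v]
  have h1 : InPl i (gwEv a v) := InPl.map (gwEv_add a) (o8_planes a ha i).1 (o8_planes a ha i).2 hv
  have h2 : InPl i (rho (diag p r) (gwEv a v)) :=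
    InPl.map (rho_add _) (by rw [rho_eq]; exact (diag_planes p r i).1) (by rw [rho_eq]; exact (diag_planes p r i).2) h1
  show prj i _ = _
  rw [smul_of_add (prj_add i), show prj i (rho (diag p r) (gwEv a v)) = _ from h2]

theorem Piv.Pre_normal {g p : G} (hg : g ∈ P.Ht) (hp : p ∈ P.Pre) : g * p * g⁻¹ ∈ P.Pre := by
  obtain ⟨hm, a, ha, e⟩ := P.mem_Pre.1 hp
  obtain ⟨w, hw, ew⟩ := P.exists_word ⟨g, hg⟩
  obtain ⟨b, hb, eb⟩ := o8_normal w hw a ha
  refine P.mem_Pre.2 ⟨mul_mem (mul_mem hg hm) (inv_mem hg), b, hb, ?_⟩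
  have h : gwPerm w * gwPerm a = gwPerm b * gwPerm w :=
    CZ_ext (mul_mem (gwPerm_mem w) (gwPerm_mem a)) (mul_mem (gwPerm_mem b) (gwPerm_mem w)) fun j => by
      simp [gwPerm_apply, eb j]
  rw [show (⟨g * p * g⁻¹, mul_mem (mul_mem hg hm) (inv_mem hg)⟩ : P.Ht) = ⟨g, hg⟩ * ⟨p, hm⟩ * ⟨g, hg⟩⁻¹ from rfl,
    map_mul, map_mul, map_inv, ew, e, h, mul_inv_cancel_right]

theorem Piv.Qt_le_Pre : P.Qt ≤ P.Pre := fun q hq => P.mem_Pre.2 ⟨P.Qt_le hq, by
  have h : P.hh ⟨q, P.Qt_le hq⟩ = 1 := Equiv.ext fun u =>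
    P.hh_eq (Tw.id'.congr fun v => (D.toFrame.act_Q hq.1 v).symm) u
  rw [h]; exact one_mem _⟩

theorem Piv.hh_diag {g : G} (hg : g ∈ P.Ht) {p r : ZMod 2 × ZMod 2} {c : ZMod 3}
    (e : ∀ v, D.toFrame.act g v = c • rho (diag p r) v) (_hc : c ≠ 0) : P.hh ⟨g, hg⟩ = 1 := Equiv.ext fun u => by
  refine P.hh_eq (g := ⟨g, hg⟩) (h := fun u => u) (fun w => ?_) u
  obtain ⟨a, ha, e1⟩ := rho_mul (diag p r) w
  obtain ⟨b, hb, e2⟩ := rho_mul w (diag p r)
  beta_reduce at e1 e2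
  refine ⟨a * b, mul_ne_zero ha hb, fun v => ?_⟩
  rw [e, e, rho_smul, e1, e2, add_comm w, smul_smul, smul_smul, smul_smul]
  congr 1
  have := (show ∀ b : ZMod 3, b ≠ 0 → b * b = 1 by decide) b hb
  linear_combination -(a * c) * this

theorem gwPerm_pow (w : List (Fin 3)) (n : ℕ) (u : W6) : (gwPerm w ^ n) u = (gwFun w)^[n] u := by
  induction n generalizing u with
  | zero => rfl
  | succ n ih => rw [pow_succ, Equiv.Perm.mul_apply, Function.iterate_succ_apply, ih, gwPerm_apply]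

/-- An element of two-power order modulo `Q` lies in the preimage. -/
theorem Piv.mem_Pre_of_pow {g : G} (hg : g ∈ P.Ht) {k : ℕ} (hk : g ^ 2 ^ k ∈ P.Qt) : g ∈ P.Pre := by
  obtain ⟨w, hw, ew⟩ := P.exists_word ⟨g, hg⟩
  obtain ⟨a, ha, ea⟩ := o8_nine w hw
  have h9 : P.hh ⟨g, hg⟩ ^ 9 = gwPerm a := by
    rw [ew]
    exact CZ_ext (pow_mem (gwPerm_mem w) 9) (gwPerm_mem a) fun j => by rw [gwPerm_pow, gwPerm_apply, ea j]
  have h36 : P.hh ⟨g, hg⟩ ^ 36 = 1 := by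
    rw [show 36 = 9 * 4 from rfl, pow_mul, h9]
    refine CZ_ext (pow_mem (gwPerm_mem a) 4) (one_mem _) fun j => ?_
    rw [gwPerm_pow]
    exact o8_four a ha j
  have h2 : P.hh ⟨g, hg⟩ ^ 2 ^ k = 1 := by
    rw [← map_pow]
    exact Equiv.ext fun u => P.hh_eq (Tw.id'.congr fun v => (D.toFrame.act_Q hk.1 v).symm) u
  have hd : orderOf (P.hh ⟨g, hg⟩) ∣ 8 := by
    have h1 : orderOf (P.hh ⟨g, hg⟩) ∣ Nat.gcd (2 ^ k) 36 :=
      Nat.dvd_gcd (orderOf_dvd_of_pow_eq_one h2) (orderOf_dvd_of_pow_eq_one h36)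
    obtain ⟨j, hj, e⟩ := (Nat.dvd_prime_pow Nat.prime_two).1 (h1.trans (Nat.gcd_dvd_left _ _))
    have h36' : 2 ^ j ∣ 36 := e ▸ h1.trans (Nat.gcd_dvd_right _ _)
    rw [e]
    refine pow_dvd_pow 2 (show j ≤ 3 from ?_)
    by_contra hlt
    have := Nat.le_of_dvd (by norm_num) ((pow_dvd_pow 2 (show 3 ≤ j by omega)).trans h36')
    exact absurd ((pow_dvd_pow 2 (show 3 ≤ j by omega)).trans h36') (by decide)
  have h8 : P.hh ⟨g, hg⟩ ^ 8 = 1 := orderOf_dvd_iff_pow_eq_one.1 hd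
  obtain ⟨b, hb, eb⟩ := o8_two w hw fun j => by
    rw [← gwPerm_pow, ← ew, h8]; rfl
  exact P.mem_Pre.2 ⟨hg, b, hb, ew.trans (CZ_ext (gwPerm_mem w) (gwPerm_mem b) fun j => by
    rw [gwPerm_apply, gwPerm_apply, eb j])⟩

/-- Fixed vectors by their coefficients. -/
noncomputable def fixEquiv : {v : V // ev SW v = v} ≃ (Fin 3 → ZMod 3 × ZMod 3) where
  toFun v i := (ω v.1 (pb i), ω (pa i) v.1)
  invFun c := ⟨((c 0).1 • pa 0 + (c 0).2 • pb 0) + ((c 1).1 • pa 1 + (c 1).2 • pb 1) + ((c 2).1 • pa 2 + (c 2).2 • pb 2),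
    by simp only [ev_add, ev_smul, (pab 0 0).2.2.2.1, (pab 0 0).2.2.2.2, (pab 1 1).2.2.2.1, (pab 1 1).2.2.2.2,
      (pab 2 2).2.2.2.1, (pab 2 2).2.2.2.2]⟩
  left_inv v := Subtype.ext (fix_decomp v.2).symm
  right_inv c := by
    funext i
    have hp : ∀ i j, ω (pb i) (pa j) = -(if j = i then 1 else 0) := fun i j => by rw [ω_swap, (pab j i).1]
    simp only [ω_add_left, ω_add_right, ω_smul_left, ω_smul_right, (pab _ i).1, (pab i _).1, 
      (pab i _).2.1, (pab _ i).2.2.1]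
    fin_cases i <;> simp

theorem Piv.card_Qt : Nat.card P.Qt = 2187 := by
  have hinj : Function.Bijective (fun p : D.toFrame.Zc × {v : V // ev SW v = v} =>
      (⟨(p.1 : G) * D.toFrame.el p.2.1, P.mem_Qt.2 ⟨mul_mem (D.toFrame.Zc_le p.1.2) (D.toFrame.el_mem _), by
        rw [D.toFrame.vec_mul (D.toFrame.Zc_le p.1.2) (D.toFrame.el_mem _), D.toFrame.vec_Zc p.1.2, zero_add,
          D.toFrame.vec_el, p.2.2]⟩⟩ : P.Qt)) := by
    constructor
    · intro p p' e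
      have e' : (p.1 : G) * D.toFrame.el p.2.1 = p'.1 * D.toFrame.el p'.2.1 := congrArg Subtype.val e
      have hv := congrArg D.toFrame.vec e'
      rw [D.toFrame.vec_mul (D.toFrame.Zc_le p.1.2) (D.toFrame.el_mem _),
        D.toFrame.vec_mul (D.toFrame.Zc_le p'.1.2) (D.toFrame.el_mem _),
        D.toFrame.vec_Zc p.1.2, D.toFrame.vec_Zc p'.1.2, zero_add, zero_add, D.toFrame.vec_el, D.toFrame.vec_el] at hv
      have h2 : p.2 = p'.2 := Subtype.ext hv
      rw [h2] at e'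
      exact Prod.ext (Subtype.ext (mul_right_cancel e')) h2
    · rintro ⟨q, hq⟩
      obtain ⟨w, hw, e⟩ := D.toFrame.exists_el (P.mem_Qt.1 hq).1
      exact ⟨(⟨w, hw⟩, ⟨D.toFrame.vec q, (P.mem_Qt.1 hq).2⟩), Subtype.ext e.symm⟩
  rw [← Nat.card_eq_of_bijective _ hinj, Nat.card_prod, D.toFrame.card_Zc, Nat.card_congr fixEquiv, Nat.card_fun,
    Nat.card_prod, Nat.card_zmod, Nat.card_fin]
  norm_num

theorem card_O8 : Nat.card O8 = 8 := by
  have hinj : Function.Injective (fun a : {a // a ∈ o8W} => (⟨gwPerm a.1, a.1, a.2, rfl⟩ : O8)) := by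
    intro a b e
    have e' : gwPerm a.1 = gwPerm b.1 := congrArg Subtype.val e
    refine Subtype.ext (List.inj_on_of_nodup_map o8_nodup a.2 b.2 ?_)
    simp only [key, ← gwPerm_apply, e']
  have hsurj : Function.Surjective (fun a : {a // a ∈ o8W} => (⟨gwPerm a.1, a.1, a.2, rfl⟩ : O8)) := by
    rintro ⟨_, a, ha, rfl⟩
    exact ⟨⟨a, ha⟩, rfl⟩
  rw [← Nat.card_eq_of_bijective _ ⟨hinj, hsurj⟩,
    Nat.card_congr (Equiv.subtypeEquivRight fun t => (List.mem_toFinset (l := o8W) (a := t)).symm),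
    Nat.card_eq_fintype_card, Fintype.card_coe]
  decide +kernel

theorem Piv.card_Pre : Nat.card P.Pre = 2187 * 256 := by
  classical
  rw [Piv.Pre, card_map_of_injective P.Ht.subtype_injective]
  let ψ : (O8.comap P.hh) →* O8 := (P.hh.comp (O8.comap P.hh).subtype).codRestrict O8 fun x => x.2
  have hψ : Function.Surjective ψ := by
    rintro ⟨_, a, ha, rfl⟩
    obtain ⟨g, hg, e⟩ := P.exists_gwEv a
    have h1 : P.hh ⟨g, hg⟩ = gwPerm a := Equiv.ext fun u => P.hh_eq ((tw_gwEv a).congr fun v => (e v).symm) u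
    exact ⟨⟨⟨g, hg⟩, a, ha, h1⟩, Subtype.ext h1⟩
  have h := ψ.ker.card_mul_index
  rw [index_ker, MonoidHom.range_eq_top.2 hψ, card_top, card_O8] at h
  rw [← h]
  have hmk : ∀ k : ψ.ker, P.hh (k : O8.comap P.hh).1 = 1 := fun k => congrArg Subtype.val (MonoidHom.mem_ker.1 k.2)
  let act' : ψ.ker →* Equiv.Perm V := MonoidHom.mk'
    (fun k => Equiv.ofBijective (D.toFrame.act ((k : O8.comap P.hh) : P.Ht).1)
      ⟨D.toFrame.act_injective (P.mem_Ht.1 ((k : O8.comap P.hh) : P.Ht).2).1,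
        D.toFrame.act_surjective (P.mem_Ht.1 ((k : O8.comap P.hh) : P.Ht).2).1⟩)
    fun a b => Equiv.ext fun v => D.toFrame.act_mul (P.mem_Ht.1 ((a : O8.comap P.hh) : P.Ht).2).1
      (P.mem_Ht.1 ((b : O8.comap P.hh) : P.Ht).2).1 v
  have h2 := act'.ker.card_mul_index
  rw [index_ker] at h2
  rw [← h2]
  have hker : Nat.card act'.ker = 2187 := by
    rw [← P.card_Qt]
    refine Nat.card_eq_of_bijective
      (fun k : act'.ker => (⟨(((k : ψ.ker) : O8.comap P.hh) : P.Ht).1, ?_⟩ : P.Qt)) ⟨?_, ?_⟩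
    · have hgz := (P.mem_Ht.1 (((k : ψ.ker) : O8.comap P.hh) : P.Ht).2)
      refine ⟨D.toFrame.mem_Q_of_act hgz.1 fun v => congrFun (congrArg DFunLike.coe (MonoidHom.mem_ker.1 k.2)) v,
        mem_centralizer_singleton_iff.2 hgz.2.eq⟩
    · intro a b e
      exact Subtype.ext (Subtype.ext (Subtype.ext (Subtype.ext (Subtype.ext_iff.1 e :))))
    · rintro ⟨q, hq⟩
      have h1 : P.hh ⟨q, P.Qt_le hq⟩ = 1 := Equiv.ext fun u =>
        P.hh_eq (Tw.id'.congr fun v => (D.toFrame.act_Q hq.1 v).symm) u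
      refine ⟨⟨⟨⟨⟨q, P.Qt_le hq⟩, by rw [mem_comap, h1]; exact one_mem _⟩, MonoidHom.mem_ker.2 (Subtype.ext h1)⟩,
        MonoidHom.mem_ker.2 (Equiv.ext fun v => D.toFrame.act_Q hq.1 v)⟩, rfl⟩
  have hr : Nat.card act'.range = 32 := by
    let f : {c : ZMod 3 // c ≠ 0} × (ZMod 2 × ZMod 2) × (ZMod 2 × ZMod 2) → V → V :=
      fun x v => x.1.1 • rho (diag x.2.1 x.2.2) v
    have hf : Function.Injective f := by
      rintro ⟨⟨c, hc⟩, p, r⟩ ⟨⟨c', hc'⟩, p', r'⟩ e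
      have e1 : ∀ v, c • rho (diag p r) v = c' • rho (diag p' r') v := fun v => congrFun e v
      have hu : diag p r = diag p' r' := rho_inj ⟨c * c', mul_ne_zero hc hc', fun v => by
        have := congrArg (fun x : V => c • x) (e1 v)
        simpa only [smul_smul, (show ∀ c : ZMod 3, c ≠ 0 → c * c = 1 by decide) c hc, one_smul] using this⟩
      have hp : p = p' := congrFun hu 0
      have hr : r = r' := congrFun hu 2
      subst hp hr
      have h := e1 (rho (diag p r) (bas 0))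
      obtain ⟨b, hb, esq⟩ := rho_sq (diag p r)
      beta_reduce at esq
      rw [esq, smul_smul, smul_smul, id_eq] at h
      have h0 := congrArg (fun x : V => co x 0) h
      simp only [co_smul, Pi.smul_apply, co_bas, Pi.single_eq_same, smul_eq_mul, mul_one] at h0
      have hcc : c = c' := mul_right_cancel₀ hb h0
      subst hcc; rfl
    have e : Set.range (fun k : ψ.ker => D.toFrame.act ((k : O8.comap P.hh) : P.Ht).1) = Set.range f := by
      ext φ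
      constructor
      · rintro ⟨k, rfl⟩
        obtain ⟨p, r, c, hc, e⟩ := P.decomp (w := []) (hmk k)
        exact ⟨(⟨c, hc⟩, p, r), funext fun v => (e v).symm⟩
      · rintro ⟨⟨⟨c, hc⟩, p, r⟩, rfl⟩
        obtain ⟨g, hg, e⟩ := P.exists_diag p r hc
        have h1 := P.hh_diag hg e hc
        exact ⟨⟨⟨⟨g, hg⟩, by rw [mem_comap, h1]; exact one_mem _⟩, MonoidHom.mem_ker.2 (Subtype.ext h1)⟩,
          funext fun v => e v⟩
    let j : act'.range → Set.range f := fun x => ⟨(x.1 : V → V), e ▸ (by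
      obtain ⟨k, hk⟩ := x.2
      exact ⟨k, by rw [← hk]; rfl⟩)⟩
    have hj : Function.Bijective j := by
      refine ⟨fun a b h => Subtype.ext (Equiv.ext fun v => congrFun (Subtype.ext_iff.1 h :) v), fun y => ?_⟩
      obtain ⟨k, hk⟩ : (y.1 : V → V) ∈ Set.range (fun k : ψ.ker => D.toFrame.act ((k : O8.comap P.hh) : P.Ht).1) :=
        by rw [e]; exact y.2
      exact ⟨⟨act' k, k, rfl⟩, Subtype.ext hk⟩
    rw [Nat.card_eq_of_bijective j hj, Nat.card_range_of_injective hf, Nat.card_eq_fintype_card]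
    rfl
  rw [hker, hr]

end Data

end Cfsg.Lib.Fi23Three
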