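import Cfsg.Agent.Lib.Fi23Three.Frame

/-!
# Tensor coordinates and matrices given by lists
-/

set_option autoImplicit false
set_option linter.unusedSectionVars false

namespace Cfsg.Lib.Fi23Three

/-- A matrix of degree eight over the field with three elements, by its rows. -/
abbrev M8 : Type := List (List ℕ)

/-- An entry. -/
def ent (M : M8) (q i : Fin 8) : ℕ := (M.getD q []).getD i 0

/-- The tensor coordinates. -/
def co (v : V) : Fin 8 → ZMod 3 :=
  ![(v 0).1, (v 1).1, (v 2).1, (v 3).1, (v 3).2, -(v 2).2, -(v 1).2, (v 0).2]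

/-- The vector with given tensor coordinates. -/
def ofc (f : Fin 8 → ZMod 3) : V := ![(f 0, f 7), (f 1, -f 6), (f 2, -f 5), (f 3, f 4)]

theorem co_ofc (f : Fin 8 → ZMod 3) : co (ofc f) = f := by
  funext i; fin_cases i <;> simp [co, ofc]

theorem ofc_co (v : V) : ofc (co v) = v := by
  funext i; fin_cases i <;> simp [co, ofc]

theorem co_inj {v w : V} (h : co v = co w) : v = w := by rw [← ofc_co v, h, ofc_co]

theorem co_add (v w : V) : co (v + w) = co v + co w := by
  funext i; fin_cases i <;> simp [co] <;> abel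

theorem co_smul (c : ZMod 3) (v : V) : co (c • v) = c • co v := by
  funext i; fin_cases i <;> simp [co]

theorem ofc_add (f g : Fin 8 → ZMod 3) : ofc (f + g) = ofc f + ofc g :=
  co_inj (by rw [co_add, co_ofc, co_ofc, co_ofc])

/-- The basis vectors of the tensor coordinates. -/
def bas (i : Fin 8) : V := ofc (Pi.single i 1)

/-- The map of a matrix. -/
def ev (M : M8) (v : V) : V := ofc fun q => ∑ i, (ent M q i : ZMod 3) * co v i

theorem co_ev (M : M8) (v : V) (q : Fin 8) : co (ev M v) q = ∑ i, (ent M q i : ZMod 3) * co v i := by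
  rw [ev, co_ofc]

theorem ev_add (M : M8) (v w : V) : ev M (v + w) = ev M v + ev M w := by
  refine co_inj (funext fun q => ?_)
  rw [co_add, Pi.add_apply, co_ev, co_ev, co_ev, co_add, ← Finset.sum_add_distrib]
  exact Finset.sum_congr rfl fun i _ => by rw [Pi.add_apply, mul_add]

theorem ev_smul (M : M8) (c : ZMod 3) (v : V) : ev M (c • v) = c • ev M v := by
  refine co_inj (funext fun q => ?_)
  rw [co_smul, Pi.smul_apply, co_ev, co_ev, co_smul, smul_eq_mul, Finset.mul_sum]
  exact Finset.sum_congr rfl fun i _ => by rw [Pi.smul_apply, smul_eq_mul]; ring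

theorem co_bas (i : Fin 8) : co (bas i) = Pi.single i 1 := co_ofc _

theorem eq_sum_bas (v : V) : v = ∑ i, co v i • bas i := by
  have h : ∀ s : Finset (Fin 8), co (∑ i ∈ s, co v i • bas i) = ∑ i ∈ s, co v i • (Pi.single i 1 : Fin 8 → ZMod 3) := by
    intro s
    induction s using Finset.induction with
    | empty => funext i; fin_cases i <;> simp [co]
    | insert a s ha ih => rw [Finset.sum_insert ha, Finset.sum_insert ha, co_add, ih, co_smul, co_bas]
  refine co_inj ?_
  rw [h]
  funext q
  simp [Finset.sum_apply, Pi.single_apply]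

/-- A product of matrices. -/
def mmul (A B : M8) : M8 := List.ofFn fun q : Fin 8 => List.ofFn fun i : Fin 8 => (∑ j, ent A q j * ent B j i) % 3

theorem ent_ofFn (f : Fin 8 → Fin 8 → ℕ) (q i : Fin 8) :
    ent (List.ofFn fun q => List.ofFn (f q)) q i = f q i := by
  have h : ∀ {α : Type} (g : Fin 8 → α) (d : α) (j : Fin 8), (List.ofFn g).getD j d = g j := fun g d j => by
    rw [List.getD_eq_getElem?_getD, List.getElem?_ofFn]
    simp
  rw [ent, h, h]

theorem ent_mmul (A B : M8) (q i : Fin 8) : ent (mmul A B) q i = (∑ j, ent A q j * ent B j i) % 3 := by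
  exact ent_ofFn _ q i

theorem ev_mmul (A B : M8) (v : V) : ev (mmul A B) v = ev A (ev B v) := by
  refine co_inj (funext fun q => ?_)
  simp only [co_ev, ent_mmul, ZMod.natCast_mod, Nat.cast_sum, Nat.cast_mul, Finset.sum_mul, Finset.mul_sum]
  rw [Finset.sum_comm]
  exact Finset.sum_congr rfl fun j _ => Finset.sum_congr rfl fun i _ => by ring

/-- The identity matrix. -/
def one8 : M8 := List.ofFn fun q : Fin 8 => List.ofFn fun i : Fin 8 => if q = i then 1 else 0

theorem ev_one8 (v : V) : ev one8 v = v := by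
  refine co_inj (funext fun q => ?_)
  rw [co_ev]
  simp only [one8, ent_ofFn]
  simp

/-- The negated identity. -/
def neg8 : M8 := List.ofFn fun q : Fin 8 => List.ofFn fun i : Fin 8 => if q = i then 2 else 0

theorem ev_neg8 (v : V) : ev neg8 v = -v := by
  refine co_inj (funext fun q => ?_)
  rw [co_ev, show -v = (-1 : ZMod 3) • v by simp, co_smul]
  simp only [neg8, ent_ofFn]
  simp
  exact (show ∀ x : ZMod 3, (2 : ZMod 3) * x = -x by decide) _

/-- Two maps agree when they agree on the basis. -/
theorem ext_bas {f g : V → V} (hf : ∀ v w, f (v + w) = f v + f w) (hg : ∀ v w, g (v + w) = g v + g w)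
    (h : ∀ i, f (bas i) = g (bas i)) (v : V) : f v = g v := by
  let F : V →+ V := AddMonoidHom.mk' f hf
  let Gh : V →+ V := AddMonoidHom.mk' g hg
  show F v = Gh v
  rw [eq_sum_bas v, map_sum, map_sum]
  refine Finset.sum_congr rfl fun i _ => ?_
  rw [ZMod.map_smul, ZMod.map_smul]
  exact congrArg _ (h i)

end Cfsg.Lib.Fi23Three
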