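import Cfsg.Agent.Lib.Fi23Three.Quad
import Cfsg.Agent.Lib.PGroup.ExtraspecialClassify
import Cfsg.Prelude.Def_Transfer

/-!
# The extraspecial group `2^{1+6}` of minus type as three commuting quaternion pairs
-/

set_option autoImplicit false
set_option linter.unusedSectionVars false
set_option maxRecDepth 20000

namespace Cfsg.Lib.Fi23Three

open scoped commutatorElement
open Cfsg.Lib.Extraspecial

theorem zmod2_cases : ∀ a : ZMod 2, a = 0 ∨ a = 1 := by decide

theorem zmod2_eq : ∀ p q : ZMod 2, p + q = 0 → p = q := by decide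

/-- Three commuting quaternion pairs with common centre `⟨z⟩`. -/
structure QF (R : Type*) [Group R] where
  z : R
  A : Fin 3 → R
  B : Fin 3 → R
  hz : z ≠ 1
  z_sq : z * z = 1
  zc : ∀ r, Commute r z
  comm : ∀ r s, r * s = s * r ∨ r * s = z * (s * r)
  sqz : ∀ r, r * r = 1 ∨ r * r = z
  A_sq : ∀ i, A i * A i = z
  B_sq : ∀ i, B i * B i = z
  AB : ∀ i, A i * B i = z * (B i * A i)
  cAA : ∀ i j, Commute (A i) (A j)
  cBB : ∀ i j, Commute (B i) (B j)
  cAB : ∀ i j, i ≠ j → Commute (A i) (B j)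
  ker : ∀ r, (∀ i, Commute r (A i) ∧ Commute r (B i)) → r = 1 ∨ r = z

/-- An extraspecial group of order `2^7` without elementary abelian subgroups of order 16 has such pairs. -/
theorem exists_qframe {R : Type*} [Group R] [Finite R] (hR : Cfsg.IsExtraspecial 2 R) (hc : Nat.card R = 2 ^ 7)
    (hE : ∀ A : Subgroup R, Cfsg.IsElementaryAbelian 2 A → Nat.card A ≤ 2 ^ 3) : Nonempty (QF R) := by
  classical
  haveI : Fact (Nat.Prime 2) := ⟨Nat.prime_two⟩
  obtain ⟨z, L, hz, hL, -, hcard, hkind⟩ := two_kinds hR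
  have hlen : L.length = 3 := by
    have := Nat.pow_right_injective le_rfl (hcard.symm.trans hc)
    omega
  match L, hlen, hL, hkind with
  | [(x1, y1), (x2, y2), (x3, y3)], _, hL, hkind =>
  obtain ⟨-, -, e1, h1⟩ := hL.inv_cons
  obtain ⟨a2, b2, e2, h2⟩ := h1.inv_cons
  obtain ⟨a3, b3, e3, h3⟩ := h2.inv_cons
  have hnil := h3.inv_nil
  obtain ⟨-, cx21, cx2y1⟩ := mem_perp.1 a2
  obtain ⟨-, cy2x1, cy21⟩ := mem_perp.1 b2
  obtain ⟨a3', cx32, cx3y2⟩ := mem_perp.1 a3
  obtain ⟨b3', cy3x2, cy32⟩ := mem_perp.1 b3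
  obtain ⟨-, cx31, cx3y1⟩ := mem_perp.1 a3'
  obtain ⟨-, cy3x1, cy31⟩ := mem_perp.1 b3'
  have hz1 : z ≠ 1 := hz.ne_one
  have hcz : ∀ r, Commute r z := fun r => hz.commute_z r (Subgroup.mem_zpowers z)
  have hor : ∀ w ∈ Subgroup.zpowers z, w = 1 ∨ w = z := fun w hw => by
    obtain ⟨k, hk, rfl⟩ := hz.exists_pow hw
    interval_cases k
    · exact Or.inl (pow_zero _)
    · exact Or.inr (pow_one _)
  have hco : ∀ {x y}, ⁅x, y⁆ = z → x * y = z * (y * x) := fun {x y} e => by
    rw [← e, commutatorElement_def]; group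
  rcases hkind with ⟨hD, -⟩ | ⟨⟨q, L', hq, hQ, hD⟩, -⟩
  · -- the plus type has a subgroup of order 16
    exfalso
    simp only [List.mem_cons, List.not_mem_nil, or_false, forall_eq_or_imp, forall_eq] at hD
    obtain ⟨⟨s1, -⟩, ⟨s2, -⟩, s3, -⟩ := hD
    simp only at s1 s2 s3
    have cz : ∀ r, r * z = z * r := hcz
    set E : Subgroup R := Subgroup.closure {z, x1, x2, x3} with hEdef
    have hgen : ∀ u ∈ ({z, x1, x2, x3} : Set R), ∀ v ∈ ({z, x1, x2, x3} : Set R), Commute u v := by
      rintro u (rfl | rfl | rfl | rfl) v (rfl | rfl | rfl | rfl) <;>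
        first
          | exact Commute.refl _
          | exact (hcz _)
          | exact (hcz _).symm
          | assumption
          | (apply Commute.symm; assumption)
    haveI hcomm : IsMulCommutative E := Subgroup.isMulCommutative_closure fun u hu v hv => (hgen u hu v hv).eq
    have h2 : ∀ u ∈ E, u ^ 2 = 1 := fun u hu => by
      induction hu using Subgroup.closure_induction with
      | mem u hu => rcases hu with rfl | rfl | rfl | rfl <;> first | exact hz.pow_z | assumption
      | one => simp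
      | mul u v hu' hv' iu iv =>
        rw [(show Commute u v from congrArg Subtype.val (mul_comm' (⟨u, hu'⟩ : E) ⟨v, hv'⟩)).mul_pow, iu, iv, one_mul]
      | inv u _ iu => rw [inv_pow, iu, inv_one]
    have hE16 := hE E ⟨hcomm, h2⟩
    let f : ZMod 2 × ZMod 2 × ZMod 2 × ZMod 2 → E := fun p =>
      ⟨z ^ p.1.val * x1 ^ p.2.1.val * x2 ^ p.2.2.1.val * x3 ^ p.2.2.2.val, by
        refine mul_mem (mul_mem (mul_mem ?_ ?_) ?_) ?_ <;> exact pow_mem (Subgroup.subset_closure (by simp)) _⟩
    have hpow : ∀ (u : R) (v : R) (c : ZMod 2), Commute u v → Commute (u ^ c.val) v := fun u v c h => h.pow_left _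
    have hsep : ∀ y x, ⁅x, y⁆ = z → ∀ c : ZMod 2, Commute (x ^ c.val) y → c = 0 := fun y x e c h => by
      rcases zmod2_cases c with rfl | rfl
      · rfl
      · rw [show ((1 : ZMod 2)).val = 1 from rfl, pow_one] at h
        exact absurd (e ▸ commutatorElement_eq_one_iff_commute.2 h) hz1
    have hinj : Function.Injective f := by
      rintro ⟨a, b, c, d⟩ ⟨a', b', c', d'⟩ h
      have h' : z ^ a.val * x1 ^ b.val * x2 ^ c.val * x3 ^ d.val =
          z ^ a'.val * x1 ^ b'.val * x2 ^ c'.val * x3 ^ d'.val := congrArg Subtype.val h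
      have key : ∀ p : ZMod 2 × ZMod 2 × ZMod 2 × ZMod 2, (f p : R) = 1 → p = 0 := by
        rintro ⟨a, b, c, d⟩ hp
        change z ^ a.val * x1 ^ b.val * x2 ^ c.val * x3 ^ d.val = 1 at hp
        have hb : b = 0 := hsep y1 x1 e1 b (by
          have : x1 ^ b.val = (z ^ a.val)⁻¹ * (x3 ^ d.val)⁻¹ * (x2 ^ c.val)⁻¹ := by
            refine mul_left_cancel (a := z ^ a.val) (mul_right_cancel (b := x2 ^ c.val * x3 ^ d.val) ?_)
            rw [← mul_assoc, hp]; group
          rw [this]
          exact (((hcz y1).symm.pow_left _).inv_left.mul_left (cx3y1.pow_left _).inv_left).mul_left (cx2y1.pow_left _).inv_left)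
        subst hb
        rw [show ((0 : ZMod 2)).val = 0 from rfl, pow_zero, mul_one] at hp
        have hc' : c = 0 := hsep y2 x2 e2 c (by
          have : x2 ^ c.val = (z ^ a.val)⁻¹ * (x3 ^ d.val)⁻¹ := by
            refine mul_left_cancel (a := z ^ a.val) (mul_right_cancel (b := x3 ^ d.val) ?_)
            rw [hp]; group
          rw [this]
          exact ((hcz y2).symm.pow_left _).inv_left.mul_left (cx3y2.pow_left _).inv_left)
        subst hc'
        rw [show ((0 : ZMod 2)).val = 0 from rfl, pow_zero, mul_one] at hp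
        have hd : d = 0 := hsep y3 x3 e3 d (by
          rw [eq_inv_of_mul_eq_one_right hp]
          exact ((hcz y3).symm.pow_left _).inv_left)
        subst hd
        rw [show ((0 : ZMod 2)).val = 0 from rfl, pow_zero, mul_one] at hp
        rcases zmod2_cases a with rfl | rfl
        · rfl
        · rw [show ((1 : ZMod 2)).val = 1 from rfl, pow_one] at hp; exact absurd hp hz1
      have hmul : ∀ p p', (f (p + p') : R) = f p * f p' := by
        intro p p'
        have hv : ∀ (u : R), u ∈ ({z, x1, x2, x3} : Set R) → ∀ a b : ZMod 2, u ^ (a + b).val = u ^ a.val * u ^ b.val := by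
          intro u hu a b
          rw [← pow_add, pow_eq_pow_mod (a.val + b.val) (h2 u (Subgroup.subset_closure hu)), ZMod.val_add]
        show _ = (f p : R) * _
        simp only [f, Prod.fst_add, Prod.snd_add]
        rw [hv z (by simp), hv x1 (by simp), hv x2 (by simp), hv x3 (by simp)]
        have m : ∀ u ∈ ({z, x1, x2, x3} : Set R), ∀ n, u ^ n ∈ E := fun u hu n => pow_mem (Subgroup.subset_closure hu) n
        exact congrArg Subtype.val (show (⟨_, m z (by simp) p.1.val⟩ * ⟨_, m z (by simp) p'.1.val⟩ *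
          (⟨_, m x1 (by simp) p.2.1.val⟩ * ⟨_, m x1 (by simp) p'.2.1.val⟩) *
          (⟨_, m x2 (by simp) p.2.2.1.val⟩ * ⟨_, m x2 (by simp) p'.2.2.1.val⟩) *
          (⟨_, m x3 (by simp) p.2.2.2.val⟩ * ⟨_, m x3 (by simp) p'.2.2.2.val⟩) : E) =
          ⟨_, m z (by simp) p.1.val⟩ * ⟨_, m x1 (by simp) p.2.1.val⟩ * ⟨_, m x2 (by simp) p.2.2.1.val⟩ *
            ⟨_, m x3 (by simp) p.2.2.2.val⟩ *
          (⟨_, m z (by simp) p'.1.val⟩ * ⟨_, m x1 (by simp) p'.2.1.val⟩ * ⟨_, m x2 (by simp) p'.2.2.1.val⟩ *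
            ⟨_, m x3 (by simp) p'.2.2.2.val⟩) by ac_rfl)
      have := key ((a, b, c, d) + (a', b', c', d')) (by
        rw [hmul]
        change z ^ a.val * x1 ^ b.val * x2 ^ c.val * x3 ^ d.val * _ = 1
        rw [h']
        rw [← sq]
        exact h2 _ (f (a', b', c', d')).2)
      simp only [Prod.mk_add_mk, Prod.mk_eq_zero] at this
      obtain ⟨ta, tb, tc, td⟩ := this
      have hh := zmod2_eq
      rw [hh _ _ ta, hh _ _ tb, hh _ _ tc, hh _ _ td]
    have := Nat.card_le_card_of_injective f hinj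
    simp only [Nat.card_prod, Nat.card_zmod] at this
    omega
  · obtain ⟨rfl, rfl⟩ := List.cons.inj hq
    simp only [List.mem_cons, List.not_mem_nil, or_false, forall_eq_or_imp, forall_eq] at hD
    obtain ⟨s1, t1⟩ := hQ
    obtain ⟨⟨s2, t2⟩, s3, t3⟩ := hD
    simp only at s1 t1 s2 t2 s3 t3
    have hsq : ∀ u v : R, Commute u v → u ^ 2 = z → v ^ 2 = 1 → (u * v) ^ 2 = z := fun u v h hu hv => by
      rw [h.mul_pow, hu, hv, mul_one]
    -- the dihedral pairs give two quaternion pairs
    set p := x2 * y2 with hp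
    set p' := x3 * y3 with hp'
    have hyx : y2 * x2 = z * (x2 * y2) := hco (hz.symm e2)
    have hyx' : y3 * x3 = z * (x3 * y3) := hco (hz.symm e3)
    have hpsq : p ^ 2 = z := by rw [hp, hz.mul_sq, s2, t2, hz.symm e2, one_mul, one_mul]
    have hp'sq : p' ^ 2 = z := by rw [hp', hz.mul_sq, s3, t3, hz.symm e3, one_mul, one_mul]
    -- commutation between the dihedral pairs
    have c23 : ∀ u ∈ ({x2, y2} : Set R), ∀ v ∈ ({x3, y3} : Set R), Commute u v := by
      rintro u (rfl | rfl) v (rfl | rfl) <;> first | assumption | (apply Commute.symm; assumption)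
    have cpu : ∀ u ∈ ({x3, y3} : Set R), Commute p u := fun u hu =>
      (c23 x2 (by simp) u hu).mul_left (c23 y2 (by simp) u hu)
    have cp'u : ∀ u ∈ ({x2, y2} : Set R), Commute u p' := fun u hu =>
      (c23 u hu x3 (by simp)).mul_right (c23 u hu y3 (by simp))
    have cpp : Commute p p' := (cp'u x2 (by simp)).mul_left (cp'u y2 (by simp))
    have hpx : p * x2 = z * (x2 * p) := by rw [hp, mul_assoc, hyx, ← mul_assoc x2, (hcz x2).eq]; simp only [mul_assoc]
    have hpy : y2 * p = z * (p * y2) := by rw [hp, ← mul_assoc, hyx]; simp [mul_assoc]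
    have hp'x : p' * x3 = z * (x3 * p') := by
      rw [hp', mul_assoc, hyx', ← mul_assoc x3, (hcz x3).eq]; simp only [mul_assoc]
    have hp'y : y3 * p' = z * (p' * y3) := by rw [hp', ← mul_assoc, hyx']; simp [mul_assoc]
    set Q1 : R := x2 * p' with hQ1
    set P2 : R := x3 * p with hP2
    set Q2 : R := y3 * p with hQ2
    have z2 : ∀ a b : R, z * (a * (z * b)) = a * b := fun a b => by
      rw [← mul_assoc a, (hcz a).eq, mul_assoc z a b, ← mul_assoc z z, hz.sq_z, one_mul]
    have hAB1 : p * Q1 = z * (Q1 * p) := by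
      show p * (x2 * p') = z * (x2 * p' * p)
      rw [← mul_assoc, hpx]; simp only [mul_assoc]; rw [cpp.eq]
    have hAB2 : P2 * Q2 = z * (Q2 * P2) := by
      have e : x3 * y3 = z * (y3 * x3) := hco e3
      calc P2 * Q2 = x3 * (p * y3) * p := by rw [hP2, hQ2]; group
        _ = x3 * y3 * (p * p) := by rw [(cpu y3 (by simp)).eq]; group
        _ = z * (y3 * x3) * (p * p) := by rw [e]
        _ = z * (y3 * (x3 * p) * p) := by group
        _ = z * (y3 * (p * x3) * p) := by rw [(cpu x3 (by simp)).eq]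
        _ = z * (Q2 * P2) := by rw [hP2, hQ2]; group
    have c12 : Commute p P2 ∧ Commute p Q2 ∧ Commute Q1 P2 ∧ Commute Q1 Q2 := by
      refine ⟨(cpu x3 (by simp)).mul_right (Commute.refl p), (cpu y3 (by simp)).mul_right (Commute.refl p), ?_, ?_⟩
      · show x2 * p' * (x3 * p) = x3 * p * (x2 * p')
        calc x2 * p' * (x3 * p) = x2 * (p' * x3) * p := by group
          _ = x2 * (z * (x3 * p')) * p := by rw [hp'x]
          _ = z * (x2 * x3 * (p' * p)) := by rw [← mul_assoc x2 z, (hcz x2).eq]; group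
          _ = z * (x3 * x2 * (p * p')) := by rw [(c23 x2 (by simp) x3 (by simp)).eq, cpp.symm.eq]
          _ = x3 * (z * (x2 * p)) * p' := by rw [← mul_assoc x3 z, (hcz x3).eq]; group
          _ = _ := by rw [← hpx]; group
      · show x2 * p' * (y3 * p) = y3 * p * (x2 * p')
        have e : p' * y3 = z * (y3 * p') := by rw [hp'y, ← mul_assoc, hz.sq_z, one_mul]
        calc x2 * p' * (y3 * p) = x2 * (p' * y3) * p := by group
          _ = x2 * (z * (y3 * p')) * p := by rw [e]
          _ = z * (x2 * y3 * (p' * p)) := by rw [← mul_assoc x2 z, (hcz x2).eq]; group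
          _ = z * (y3 * x2 * (p * p')) := by rw [(c23 x2 (by simp) y3 (by simp)).eq, cpp.symm.eq]
          _ = y3 * (z * (x2 * p)) * p' := by rw [← mul_assoc y3 z, (hcz y3).eq]; group
          _ = _ := by rw [← hpx]; group
    have c0 : ∀ u ∈ ({x2, y2, x3, y3} : Set R), Commute x1 u ∧ Commute y1 u := by
      rintro u (rfl | rfl | rfl | rfl) <;> exact ⟨Commute.symm (by assumption), Commute.symm (by assumption)⟩
    have c0p : Commute x1 p ∧ Commute y1 p ∧ Commute x1 p' ∧ Commute y1 p' :=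
      ⟨(c0 x2 (by simp)).1.mul_right (c0 y2 (by simp)).1, (c0 x2 (by simp)).2.mul_right (c0 y2 (by simp)).2,
        (c0 x3 (by simp)).1.mul_right (c0 y3 (by simp)).1, (c0 x3 (by simp)).2.mul_right (c0 y3 (by simp)).2⟩
    obtain ⟨cxp, cyp, cxp', cyp'⟩ := c0p
    have A1 : ∀ x ∈ ({x1, y1} : Set R), Commute x p ∧ Commute x Q1 ∧ Commute x P2 ∧ Commute x Q2 := by
      rintro x (rfl | rfl)
      · exact ⟨cxp, (c0 x2 (by simp)).1.mul_right cxp', (c0 x3 (by simp)).1.mul_right cxp,
          (c0 y3 (by simp)).1.mul_right cxp⟩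
      · exact ⟨cyp, (c0 x2 (by simp)).2.mul_right cyp', (c0 x3 (by simp)).2.mul_right cyp,
          (c0 y3 (by simp)).2.mul_right cyp⟩
    obtain ⟨a1, a2', a3'', a4⟩ := A1 x1 (by simp)
    obtain ⟨b1, b2'', b3'', b4⟩ := A1 y1 (by simp)
    obtain ⟨c1, c2, c3, c4⟩ := c12
    refine ⟨{ z := z, A := ![x1, p, P2], B := ![y1, Q1, Q2], hz := hz1, z_sq := hz.sq_z, zc := hcz,
              comm := fun r s => ?_, sqz := fun r => by rw [← sq]; exact hz.pow_two_cases r,
              A_sq := ?_, B_sq := ?_, AB := ?_, cAA := ?_, cBB := ?_, cAB := ?_, ker := ?_ }⟩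
    · rcases hor _ (hz.comm r s) with e | e
      · exact Or.inl (commutatorElement_eq_one_iff_commute.1 e).eq
      · exact Or.inr (hco e)
    · intro i; fin_cases i <;> simp only [Fin.zero_eta, Fin.mk_one, Fin.reduceFinMk, Matrix.cons_val] <;> rw [← sq]
      exacts [s1, hpsq, by rw [hP2, (cpu x3 (by simp)).symm.mul_pow, s3, hpsq, one_mul]]
    · intro i; fin_cases i <;> simp only [Fin.zero_eta, Fin.mk_one, Fin.reduceFinMk, Matrix.cons_val] <;> rw [← sq]
      exacts [t1, by rw [hQ1, (cp'u x2 (by simp)).mul_pow, s2, hp'sq, one_mul],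
        by rw [hQ2, (cpu y3 (by simp)).symm.mul_pow, t3, hpsq, one_mul]]
    · intro i; fin_cases i <;> simp only [Fin.zero_eta, Fin.mk_one, Fin.reduceFinMk, Matrix.cons_val]
      exacts [hco e1, hAB1, hAB2]
    · intro i j; fin_cases i <;> fin_cases j <;> simp only [Fin.zero_eta, Fin.mk_one, Fin.reduceFinMk, Matrix.cons_val] <;>
        first | exact Commute.refl _ | assumption | (apply Commute.symm; assumption)
    · intro i j; fin_cases i <;> fin_cases j <;> simp only [Fin.zero_eta, Fin.mk_one, Fin.reduceFinMk, Matrix.cons_val] <;>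
        first | exact Commute.refl _ | assumption | (apply Commute.symm; assumption)
    · intro i j h; fin_cases i <;> fin_cases j <;> simp only [Fin.zero_eta, Fin.mk_one, Fin.reduceFinMk, Matrix.cons_val] <;>
        first | exact absurd rfl h | assumption | (apply Commute.symm; assumption)
    · intro r hr
      have h0 := hr 0
      have h1' := hr 1
      have h2' := hr 2
      simp only [Fin.isValue, Matrix.cons_val] at h0 h1' h2'
      -- recover the original generators
      have rp : Commute r p := h1'.1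
      have rx3 : Commute r x3 := by
        have := h2'.1.mul_right rp.inv_right
        rwa [hP2, mul_inv_cancel_right] at this
      have ry3 : Commute r y3 := by
        have := h2'.2.mul_right rp.inv_right
        rwa [hQ2, mul_inv_cancel_right] at this
      have rx2 : Commute r x2 := by
        have := h1'.2.mul_right (rx3.mul_right ry3).inv_right
        rwa [hQ1, hp', mul_inv_cancel_right] at this
      have ry2 : Commute r y2 := by
        have := rx2.inv_right.mul_right rp
        rwa [hp, inv_mul_cancel_left] at this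
      refine hor r ?_
      rw [← hnil]
      exact mem_perp.2 ⟨mem_perp.2 ⟨mem_perp.2 ⟨Subgroup.mem_top r, h0.1, h0.2⟩, rx2, ry2⟩, rx3, ry3⟩

namespace QF

variable {R : Type*} [Group R] (F : QF R)

/-- The sign of a commutation. -/
noncomputable def σ (_F : QF R) (r s : R) : ZMod 2 := by classical exact if Commute r s then 0 else 1

theorem σ_spec (r s : R) : (F.σ r s = 0 ∧ r * s = s * r) ∨ (F.σ r s = 1 ∧ r * s = z F * (s * r)) := by
  unfold σ
  split_ifs with h
  · exact Or.inl ⟨rfl, h⟩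
  · exact Or.inr ⟨rfl, (F.comm r s).resolve_left h⟩

theorem σ_eq {r s : R} {c : ZMod 2} (h : r * s = F.z ^ c.val * (s * r)) : F.σ r s = c := by
  rcases zmod2_cases c with rfl | rfl
  · rw [show ((0 : ZMod 2)).val = 0 from rfl, pow_zero, one_mul] at h
    simp [σ, show Commute r s from h]
  · rw [show ((1 : ZMod 2)).val = 1 from rfl, pow_one] at h
    have : ¬ Commute r s := fun e => F.hz (mul_eq_right.1 (h.symm.trans e.eq))
    simp [σ, this]

theorem zpow_add (a b : ZMod 2) : F.z ^ (a + b).val = F.z ^ a.val * F.z ^ b.val := by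
  rcases zmod2_cases a with rfl | rfl <;>
    rcases zmod2_cases b with rfl | rfl <;>
    simp [ZMod.val_one, F.z_sq, show (1 : ZMod 2) + 1 = 0 from rfl]

theorem comm_eq (r s : R) : r * s = F.z ^ (F.σ r s).val * (s * r) := by
  rcases F.σ_spec r s with ⟨e, h⟩ | ⟨e, h⟩ <;> rw [e] <;> simp [ZMod.val_one, h]

theorem σ_mul_left (r r' s : R) : F.σ (r * r') s = F.σ r s + F.σ r' s := by
  refine F.σ_eq ?_
  rw [mul_assoc, F.comm_eq r' s, ← mul_assoc, ((F.zc r).pow_right _).eq, mul_assoc, ← mul_assoc r s, F.comm_eq r s,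
    F.zpow_add, mul_assoc, ← mul_assoc (F.z ^ (F.σ r' s).val), ← pow_add, ← mul_assoc, ← pow_add, add_comm]
  group

theorem σ_symm (r s : R) : F.σ r s = F.σ s r := by
  classical
  unfold σ; exact if_congr ⟨Commute.symm, Commute.symm⟩ rfl rfl

theorem σ_z (s : R) : F.σ F.z s = 0 := F.σ_eq (by simpa using (F.zc s).eq.symm)

/-- The class of an element modulo the centre. -/
noncomputable def cls (r : R) : W6 := fun i => (F.σ r (F.B i), F.σ r (F.A i))

theorem cls_mul (r s : R) : F.cls (r * s) = F.cls r + F.cls s :=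
  funext fun _ => Prod.ext (F.σ_mul_left _ _ _) (F.σ_mul_left _ _ _)

theorem cls_one : F.cls 1 = 0 := by simpa using F.cls_mul 1 1

theorem cls_z : F.cls F.z = 0 := funext fun _ => Prod.ext (F.σ_z _) (F.σ_z _)

theorem cls_A (i : Fin 3) : F.cls (F.A i) = Pi.single i (1, 0) := by
  funext j
  by_cases h : j = i
  · subst h
    rw [Pi.single_eq_same]
    exact Prod.ext (F.σ_eq (by simpa [ZMod.val_one] using F.AB j)) (F.σ_eq (by simpa using (F.cAA j j).eq))
  · rw [Pi.single_eq_of_ne h]
    exact Prod.ext (F.σ_eq (by simpa using (F.cAB i j (Ne.symm h)).eq)) (F.σ_eq (by simpa using (F.cAA i j).eq))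

theorem cls_B (i : Fin 3) : F.cls (F.B i) = Pi.single i (0, 1) := by
  funext j
  by_cases h : j = i
  · subst h
    rw [Pi.single_eq_same]
    refine Prod.ext (F.σ_eq (by simpa using (F.cBB j j).eq)) ?_
    show F.σ (F.B j) (F.A j) = 1
    rw [F.σ_symm]; exact F.σ_eq (by simpa [ZMod.val_one] using F.AB j)
  · rw [Pi.single_eq_of_ne h]
    exact Prod.ext (F.σ_eq (by simpa using (F.cBB i j).eq)) (F.σ_eq (by simpa using (F.cAB j i h).symm.eq))

/-- A section of the class map. -/
def el (u : W6) : R :=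
  (F.A 0 ^ (u 0).1.val * F.B 0 ^ (u 0).2.val) * (F.A 1 ^ (u 1).1.val * F.B 1 ^ (u 1).2.val) *
    (F.A 2 ^ (u 2).1.val * F.B 2 ^ (u 2).2.val)

theorem cls_pow (r : R) (c : ZMod 2) : F.cls (r ^ c.val) = c • F.cls r := by
  rcases zmod2_cases c with rfl | rfl <;> simp [ZMod.val_one, F.cls_one]

theorem cls_el : ∀ u, F.cls (F.el u) = u := fun u => by
  simp only [el, cls_mul, cls_pow, cls_A, cls_B]
  revert u
  decide +kernel

theorem eq_of_cls {r s : R} (h : F.cls r = F.cls s) : r = s ∨ r = F.z * s := by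
  have hk : F.cls (r * s⁻¹) = 0 := by
    have h1 := F.cls_mul (r * s⁻¹) s
    rw [inv_mul_cancel_right, h] at h1
    exact add_eq_right.1 h1.symm
  have hcom : ∀ r t, F.σ r t = 0 → Commute r t := fun r t e => by
    rcases F.σ_spec r t with ⟨-, h⟩ | ⟨e', -⟩
    · exact h
    · rw [e] at e'; exact absurd e' (by decide)
  rcases F.ker (r * s⁻¹) fun i => ⟨hcom _ _ (congrArg Prod.snd (congrFun hk i)),
      hcom _ _ (congrArg Prod.fst (congrFun hk i))⟩ with e | e
  · exact Or.inl (mul_inv_eq_one.1 e)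
  · exact Or.inr (mul_inv_eq_iff_eq_mul.1 e)

theorem exists_el (r : R) : ∃ c : ZMod 2, r = F.z ^ c.val * F.el (F.cls r) := by
  rcases F.eq_of_cls (r := r) (s := F.el (F.cls r)) (F.cls_el _).symm with e | e
  · exact ⟨0, by simpa using e⟩
  · exact ⟨1, by simpa [ZMod.val_one] using e⟩

theorem σ_eq_pol (r s : R) : F.σ r s = pol6 (F.cls r) (F.cls s) := by
  classical
  have hz' : ∀ (t : R) (c : ZMod 2), F.σ (F.z ^ c.val) t = 0 := fun t c => by
    rcases zmod2_cases c with rfl | rfl
    · exact F.σ_eq (by simp)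
    · simpa [ZMod.val_one] using F.σ_z t
  have hp : ∀ (u t : R) (c : ZMod 2), F.σ (u ^ c.val) t = c * F.σ u t := fun u t c => by
    rcases zmod2_cases c with rfl | rfl
    · rw [zero_mul]; exact F.σ_eq (by simp)
    · simp [ZMod.val_one]
  have hgen : ∀ i t, F.σ (F.A i) t = (F.cls t i).2 ∧ F.σ (F.B i) t = (F.cls t i).1 := fun i t =>
    ⟨(F.σ_symm _ _), (F.σ_symm _ _)⟩
  obtain ⟨c, hc⟩ := F.exists_el r
  conv_lhs => rw [hc]
  simp only [el, σ_mul_left, hz']
  simp only [hp, (hgen _ _).1, (hgen _ _).2, zero_add]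
  simp [pol6, Fin.sum_univ_three]

/-- The square class. -/
noncomputable def sqc (_F : QF R) (r : R) : ZMod 2 := by classical exact if r * r = 1 then 0 else 1

theorem sq_eq (r : R) : r * r = F.z ^ (F.sqc r).val := by
  unfold sqc
  split_ifs with h
  · simp [h]
  · simp [ZMod.val_one, (F.sqz r).resolve_left h]

theorem sqc_eq {r : R} {c : ZMod 2} (h : r * r = F.z ^ c.val) : F.sqc r = c := by
  rcases zmod2_cases c with rfl | rfl
  · simp [sqc, show r * r = 1 by simpa using h]
  · have : r * r ≠ 1 := by rw [h]; simpa [ZMod.val_one] using F.hz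
    simp [sqc, this]

theorem sqc_mul (r s : R) : F.sqc (r * s) = F.sqc r + F.sqc s + F.σ s r := by
  refine F.sqc_eq ?_
  rw [show r * s * (r * s) = r * (s * r) * s by group, F.comm_eq s r, F.zpow_add, F.zpow_add, ← F.sq_eq, ← F.sq_eq]
  have h := (F.zc (r * r * (s * s))).pow_right (F.σ s r).val
  rw [h.eq, ← mul_assoc r, ((F.zc r).pow_right _).eq]
  group

theorem sqc_q6 (r : R) : F.sqc r = q6 (F.cls r) := by
  have h0 : ∀ u, F.sqc u = q6 (F.cls u) → ∀ v, F.sqc v = q6 (F.cls v) → F.sqc (u * v) = q6 (F.cls (u * v)) := by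
    intro u hu v hv
    rw [F.sqc_mul, F.cls_mul, q6_add, hu, hv, F.σ_eq_pol, show pol6 (F.cls v) (F.cls u) = pol6 (F.cls u) (F.cls v) by
      simp only [pol6]; exact Finset.sum_congr rfl fun i _ => by ring]
  have h1 : F.sqc 1 = q6 (F.cls 1) := by rw [F.cls_one, F.sqc_eq (c := 0) (by simp)]; decide
  have hp : ∀ u, F.sqc u = q6 (F.cls u) → ∀ c : ZMod 2, F.sqc (u ^ c.val) = q6 (F.cls (u ^ c.val)) := fun u hu c => by
    rcases zmod2_cases c with rfl | rfl
    · simpa using h1
    · simpa [ZMod.val_one] using hu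
  have hA : ∀ i, F.sqc (F.A i) = q6 (F.cls (F.A i)) := fun i => by
    rw [F.cls_A, F.sqc_eq (c := 1) (by simpa [ZMod.val_one] using F.A_sq i)]; revert i; decide
  have hB : ∀ i, F.sqc (F.B i) = q6 (F.cls (F.B i)) := fun i => by
    rw [F.cls_B, F.sqc_eq (c := 1) (by simpa [ZMod.val_one] using F.B_sq i)]; revert i; decide
  have hzz : F.sqc F.z = q6 (F.cls F.z) := by rw [F.cls_z, F.sqc_eq (c := 0) (by simp [F.z_sq])]; decide
  obtain ⟨c, hc⟩ := F.exists_el r
  rw [hc]
  exact h0 _ (hp _ hzz c) _ (h0 _ (h0 _ (h0 _ (hp _ (hA 0) _) _ (hp _ (hB 0) _)) _ (h0 _ (hp _ (hA 1) _) _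
    (hp _ (hB 1) _))) _ (h0 _ (hp _ (hA 2) _) _ (hp _ (hB 2) _)))

end QF

end Cfsg.Lib.Fi23Three
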