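import Cfsg.Agent.Lib.Fi23Three.Data
import Cfsg.Agent.Lib.Fi23Three.Quat
import Cfsg.Agent.S2912

/-!
# The standard frame for a quaternion decomposition
-/

set_option autoImplicit false
set_option linter.unusedSectionVars false
set_option linter.style.haveILetI false
set_option maxRecDepth 4000

namespace Cfsg.Lib.Fi23Three

open Subgroup
open scoped commutatorElement
open Cfsg.Lib.U6Three (zp zp_add zp_zero zp_one zp_inv zp_mem zp_comm zp_eq_one)

variable {G : Type*} [Group G] [Finite G]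

theorem ω_add_right' (u v w : V) : ω u (v + w) = ω u v + ω u w := ω_add_right u v w

theorem ω_smul_left (c : ZMod 3) (u v : V) : ω (c • u) v = c * ω u v := by
  simp only [ω, pl, Pi.smul_apply, Prod.smul_fst, Prod.smul_snd, smul_eq_mul, Finset.mul_sum]
  exact Finset.sum_congr rfl fun i _ => by ring

theorem ω_smul_right (c : ZMod 3) (u v : V) : ω u (c • v) = c * ω u v := by
  rw [ω_swap, ω_smul_left, ω_swap v u]; ring

theorem zmod3_nz : ∀ c : ZMod 3, c ≠ 0 → c = 1 ∨ c = 2 := by decide

theorem zmod3_two : (2 : ZMod 3) + 2 = 1 := by decide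

theorem pair_neg : ∀ p : ZMod 3 × ZMod 3, p = -p → p = 0 := by decide

theorem zp_zp {x : G} (hx : x ^ 3 = 1) (c a : ZMod 3) : zp (zp x c) a = zp x (c * a) := by
  rw [zp, zp, zp, ← pow_mul, pow_eq_pow_mod (c.val * a.val) hx, ← ZMod.val_mul]

/-- A frame with a complement on the quotient of `O₂`, and its quaternion pairs. -/
structure Quot (F : Frame G) where
  R2 : Subgroup G
  qf : QF R2
  card : Nat.card R2 = 128
  comm_z : ∀ r ∈ R2, Commute r F.z
  normal : ∀ g, Commute g F.z → ∀ r ∈ R2, ∃ r' ∈ R2, r'⁻¹ * (g * r * g⁻¹) ∈ F.Q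

namespace Quot

variable {F : Frame G} (S : Quot F)

theorem cz (r : S.R2) : Commute (r : G) F.z := S.comm_z r r.2

/-- The action of an element of the complement. -/
noncomputable def op (r : S.R2) : V →+ V := F.actHom (S.cz r)

theorem op_mul (r s : S.R2) (v : V) : S.op (r * s) v = S.op r (S.op s v) := F.act_mul (S.cz r) (S.cz s) v

theorem op_one (v : V) : S.op 1 v = v := F.act_one v

theorem inf_Q {r : G} (h1 : r ∈ S.R2) (h2 : r ∈ F.Q) : r = 1 :=
  Cfsg.Lib.U6Three.eq_one_of_coprime (by norm_num : Nat.Coprime 128 19683)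
    (by rw [← S.card]; exact congrArg Subtype.val (pow_card_eq_one' (x := (⟨r, h1⟩ : S.R2))))
    (by rw [← F.card_Q]; exact congrArg Subtype.val (pow_card_eq_one' (x := (⟨r, h2⟩ : F.Q))))

theorem op_inj {r s : S.R2} (h : ∀ v, S.op r v = S.op s v) : r = s := by
  refine Subtype.ext (eq_of_inv_mul_eq_one (S.inf_Q (mul_mem (inv_mem r.2) s.2) (F.mem_Q_of_act
    ((S.cz r).inv_left.mul_left (S.cz s)) fun v => ?_)))
  rw [F.act_mul (S.cz r).inv_left (S.cz s)]
  exact (congrArg _ (h v).symm).trans (F.act_inv_cancel (S.cz r) v)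

/-- The central involution negates. -/
theorem op_z (v : V) : S.op S.qf.z v = -v := by
  classical
  haveI : Fact (Nat.Prime 2) := ⟨Nat.prime_two⟩
  haveI : Fact (Nat.Prime 3) := ⟨Nat.prime_three⟩
  let W : Submodule (ZMod 3) V :=
    { carrier := {v | S.op S.qf.z v = -v}
      add_mem' := fun {a b} ha hb => by
        show S.op S.qf.z (a + b) = -(a + b)
        rw [map_add, ha, hb, neg_add]
      zero_mem' := by show S.op S.qf.z 0 = -0; rw [map_zero, neg_zero]
      smul_mem' := fun c a ha => by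
        show S.op S.qf.z (c • a) = -(c • a)
        rw [ZMod.map_smul, ha, smul_neg] }
  have hst : ∀ (r : S.R2) v, v ∈ W → S.op r v ∈ W := fun r v hv => by
    show S.op S.qf.z (S.op r v) = -S.op r v
    rw [← op_mul, ← (S.qf.zc r).eq, op_mul, show S.op S.qf.z v = -v from hv, map_neg]
  let ρ : S.R2 →* Module.End (ZMod 3) W :=
    { toFun := fun r =>
        { toFun := fun w => ⟨S.op r (w : V), hst r (w : V) w.2⟩
          map_add' := fun a b => Subtype.ext (map_add (S.op r) (a : V) (b : V))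
          map_smul' := fun c a => Subtype.ext (ZMod.map_smul (S.op r) c (a : V)) }
      map_one' := LinearMap.ext fun w => Subtype.ext (S.op_one w)
      map_mul' := fun r s => LinearMap.ext fun w => Subtype.ext (S.op_mul r s w) }
  obtain ⟨v0, hv0⟩ : ∃ v, v ∈ W ∧ v ≠ 0 := by
    obtain ⟨v, hv⟩ : ∃ v, S.op S.qf.z v ≠ v := by
      by_contra hcon
      push Not at hcon
      exact S.qf.hz (S.op_inj fun v => by rw [hcon, op_one])
    refine ⟨S.op S.qf.z v - v, ?_, sub_ne_zero.2 hv⟩
    show S.op S.qf.z (_ - _) = _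
    rw [map_sub, ← op_mul, S.qf.z_sq, op_one, neg_sub]
  have hinj : Function.Injective ρ := by
    refine (injective_iff_map_eq_one ρ).2 fun r hr => ?_
    have hfix : ∀ v ∈ W, S.op r v = v := fun v hv => congrArg (fun f : Module.End (ZMod 3) W => ((f ⟨v, hv⟩ : W) : V)) hr
    by_contra hne
    -- the kernel meets the centre
    have hzfix : ∀ v ∈ W, S.op S.qf.z v = v := by
      by_cases hc : ∀ i, Commute r (S.qf.A i) ∧ Commute r (S.qf.B i)
      · intro v hv
        rw [← (S.qf.ker r hc).resolve_left hne]; exact hfix v hv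
      · push Not at hc
        obtain ⟨i, hi⟩ := hc
        obtain ⟨s, hs⟩ : ∃ s, ¬ Commute r s := by
          by_cases h1 : Commute r (S.qf.A i)
          · exact ⟨_, hi h1⟩
          · exact ⟨_, h1⟩
        intro v hv
        have e : r * s = S.qf.z * (s * r) := (S.qf.comm r s).resolve_left hs
        have h := congrArg (fun x => S.op x v) e
        simp only [op_mul] at h
        rw [hfix _ (hst s v hv), hfix v hv] at h
        obtain ⟨u, hu⟩ : ∃ u, u ∈ W ∧ S.op s u = v := ⟨S.op s⁻¹ v, hst _ v hv, by rw [← op_mul, mul_inv_cancel, op_one]⟩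
        have h' := congrArg (fun x => S.op x u) e
        simp only [op_mul] at h'
        rw [hfix _ (hst s u hu.1), hfix u hu.1, hu.2] at h'
        exact h'.symm
    have h2 : v0 = -v0 := (hzfix v0 hv0.1).symm.trans hv0.1
    exact hv0.2 (funext fun j => pair_neg _ (congrFun h2 j))
  have hzc : (center S.R2 : Subgroup S.R2) = zpowers S.qf.z := by
    refine le_antisymm (fun x hx => ?_) (zpowers_le.2 (mem_center_iff.2 fun y => (S.qf.zc y).eq))
    rcases S.qf.ker x fun i => ⟨(mem_center_iff.1 hx _).symm, (mem_center_iff.1 hx _).symm⟩ with e | e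
    · exact e ▸ one_mem _
    · exact e ▸ mem_zpowers _
  have hcard := Cfsg.Agent.S2912.core (p := 2) (r := 3) (n := 1) (by norm_num) (E := S.R2) (w := 3)
    (by rw [hzc, Nat.card_zpowers, orderOf_eq_prime (by rw [pow_two]; exact S.qf.z_sq) S.qf.hz])
    (fun a b => by
      rw [hzc]
      rcases S.qf.comm a b with e | e <;> rw [e]
      · simp
      · simp [mul_assoc])
    (by rw [S.card]; norm_num) ρ hinj (fun k hk _ => hk)
  have hall : W = ⊤ := by
    refine Submodule.eq_top_of_finrank_eq (le_antisymm (Submodule.finrank_le _) ?_)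
    have h1 : Module.finrank (ZMod 3) V = 8 := by simp [Module.finrank_pi_fintype, Module.finrank_prod]
    rw [Module.natCard_eq_pow_finrank (K := ZMod 3), Nat.card_zmod] at hcard
    rw [h1]
    exact (Nat.pow_le_pow_iff_right (by norm_num : 1 < 3)).1 (by simpa using hcard)
  exact (show v ∈ W from hall ▸ Submodule.mem_top)

theorem op_mem_zero {r : S.R2} (v : V) (c : ZMod 2) : S.op (r ^ c.val) v = if c = 1 then S.op r v else v := by
  rcases zmod2_cases c with rfl | rfl
  · simp [S.op_one]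
  · simp [ZMod.val_one]

/-- The quaternion operators. -/
noncomputable def ops : Ops where
  A i := S.op (S.qf.A i)
  B i := S.op (S.qf.B i)
  A_sq i v := by rw [← op_mul, S.qf.A_sq, op_z]
  B_sq i v := by rw [← op_mul, S.qf.B_sq, op_z]
  anti i v := by rw [← op_mul, S.qf.AB, op_mul, op_z, op_mul]
  cAA i j v := by rw [← op_mul, (S.qf.cAA i j).eq, op_mul]
  cBB i j v := by rw [← op_mul, (S.qf.cBB i j).eq, op_mul]
  cAB i j h v := by rw [← op_mul, (S.qf.cAB i j h).eq, op_mul]

/-- The pairs act as the standard matrices. -/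
def IsStd : Prop := ∀ i v, S.op (S.qf.A i) v = ev (RA i) v ∧ S.op (S.qf.B i) v = ev (RB i) v

/-- A frame in which the pairs are standard. -/
theorem exists_std : ∃ (F' : Frame G) (S' : Quot F') (e : S'.R2 ≃* S.R2), S'.IsStd ∧ F'.Q = F.Q ∧
    zpowers F'.z = zpowers F.z ∧ S'.R2 = S.R2 ∧ e S'.qf.z = S.qf.z ∧
      (∀ i, e (S'.qf.A i) = S.qf.A i ∧ e (S'.qf.B i) = S.qf.B i) ∧ ∀ r : S'.R2, ((e r : S.R2) : G) = r := by
  classical
  haveI : Fact (Nat.Prime 3) := ⟨Nat.prime_three⟩
  obtain ⟨φ, hφ, hint⟩ := S.ops.exists_equiv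
  have hinv : ∀ r : S.R2, ∀ u v, ω (S.op r u) (S.op r v) = ω u v := fun r u v => F.act_form (S.cz r) u v
  obtain ⟨c, hc⟩ := form_scalar φ (fun i u v => by rw [(hint i u).1, (hint i v).1]; exact hinv _ _ _)
    (fun i u v => by rw [(hint i u).2, (hint i v).2]; exact hinv _ _ _)
  have hc0 : c ≠ 0 := by
    rintro rfl
    obtain ⟨u, hu⟩ := hφ.2 (Pi.single 0 (1, 0))
    obtain ⟨v, hv⟩ := hφ.2 (Pi.single 0 (0, 1))
    have := hc u v
    rw [hu, hv, zero_mul, ω_single_left, Pi.single_eq_same] at this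
    simp [pl] at this
  set z' := zp F.z c with hz'
  have hz'c : z' ∈ F.Zc := zp_mem (mem_zpowers _) c
  have hzz : zpowers z' = zpowers F.z := by
    refine le_antisymm (zpowers_le.2 hz'c) (zpowers_le.2 ?_)
    rcases zmod3_nz c hc0 with rfl | rfl
    · rw [hz', zp_one]; exact mem_zpowers _
    · have : F.z = z' * z' := by
        rw [hz', ← zp_add F.z_cube, zmod3_two, zp_one]
      rw [this]
      exact mul_mem (mem_zpowers _) (mem_zpowers _)
  have hcz : ∀ g, Commute g z' ↔ Commute g F.z := fun g => by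
    constructor <;> intro h
    · obtain ⟨n, hn⟩ := mem_zpowers_iff.1 (hzz ▸ mem_zpowers F.z : F.z ∈ zpowers z')
      exact hn ▸ h.zpow_right n
    · exact F.comm_Zc h hz'c
  have hel : ∀ u v, ⁅F.el (φ u), F.el (φ v)⁆ = zp F.z (c * ω u v) := fun u v => by
    rw [F.form_eq (F.el_mem _) (F.el_mem _), F.vec_el, F.vec_el, hc]
  have hcom : ∀ u v, ω u v = 0 → Commute (F.el (φ u)) (F.el (φ v)) := fun u v h => by
    rw [← commutatorElement_eq_one_iff_commute, hel, h, mul_zero, zp_zero]
  let F' : Frame G :=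
    { z := z'
      hz := by rw [← Nat.card_zpowers, hzz, F.card_Zc]
      Q := F.Q
      card_Q := F.card_Q
      z_mem := F.Zc_le hz'c
      comm_z := fun q hq => F.comm_Q_Zc hq hz'c
      norm_Q := fun g hg => F.norm_Q g ((hcz g).1 hg)
      comm_Q := fun x hx y hy => hzz ▸ F.comm_Q x hx y hy
      cube_Q := F.cube_Q
      cent_Q := fun g hg h => hzz ▸ F.cent_Q g ((hcz g).1 hg) h
      a := fun i => F.el (φ (Pi.single i (1, 0)))
      b := fun i => F.el (φ (Pi.single i (0, 1)))
      ha' := fun i => F.el_mem _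
      hb' := fun i => F.el_mem _
      hab := fun i => by rw [hel, ω_single_left, Pi.single_eq_same]; simp [pl, hz']
      haa := fun i j => hcom _ _ (by
        rw [ω_single_left]; by_cases h : i = j
        · subst h; simp [pl]
        · simp [Pi.single_eq_of_ne h, pl])
      hbb := fun i j => hcom _ _ (by
        rw [ω_single_left]; by_cases h : i = j
        · subst h; simp [pl]
        · simp [Pi.single_eq_of_ne h, pl])
      hne := fun i j h => hcom _ _ (by rw [ω_single_left, Pi.single_eq_of_ne h]; simp [pl]) }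
  have hvec : ∀ q ∈ F.Q, φ (F'.vec q) = F.vec q := by
    intro q hq
    obtain ⟨w, hw⟩ := hφ.2 (F.vec q)
    suffices F'.vec q = w by rw [this, hw]
    funext i
    have h1 : ⁅q, F'.b i⁆ = zp z' (w i).1 := by
      rw [show F'.b i = F.el (φ (Pi.single i (0, 1))) from rfl, F.form_eq hq (F.el_mem _), F.vec_el, ← hw, hc,
        ω_single_right, hz', zp_zp F.z_cube]
      simp [pl]
    have h2 : ⁅F'.a i, q⁆ = zp z' (w i).2 := by
      rw [show F'.a i = F.el (φ (Pi.single i (1, 0))) from rfl, F.form_eq (F.el_mem _) hq, F.vec_el, ← hw, hc,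
        ω_single_left, hz', zp_zp F.z_cube]
      simp [pl]
    show (F'.zlog ⁅q, F'.b i⁆, F'.zlog ⁅F'.a i, q⁆) = _
    rw [h1, h2, show zp z' (w i).1 = zp F'.z (w i).1 from rfl, show zp z' (w i).2 = zp F'.z (w i).2 from rfl,
      F'.zlog_zp, F'.zlog_zp]
  have hact : ∀ g, Commute g F.z → ∀ v, φ (F'.act g v) = F.act g (φ v) := by
    intro g hg v
    show φ (F'.vec (g * F'.el v * g⁻¹)) = _
    rw [hvec _ (F.norm_Q g hg _ (F'.el_mem v)), F.vec_conj hg (F'.el_mem v)]
    have := hvec _ (F'.el_mem v)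
    rw [F'.vec_el] at this
    rw [← this]
  let S' : Quot F' :=
    { R2 := S.R2, qf := S.qf, card := S.card, comm_z := fun r hr => (hcz r).2 (S.comm_z r hr),
      normal := fun g hg => S.normal g ((hcz g).1 hg) }
  refine ⟨F', S', MulEquiv.refl _, fun i v => ⟨hφ.1 ?_, hφ.1 ?_⟩, rfl, hzz, rfl, rfl, fun i => ⟨rfl, rfl⟩, fun _ => rfl⟩
  · exact (hact _ (S.cz _) v).trans ((hint i v).1).symm
  · exact (hact _ (S.cz _) v).trans ((hint i v).2).symm

end Quot

end Cfsg.Lib.Fi23Three
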