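import Cfsg.Agent.Lib.Fi23Three.Tau
import Cfsg.Agent.Lib.Fi23Three.Std

/-!
# The point is symmetric, and the centraliser of the involution moves `z` to it
-/

set_option autoImplicit false
set_option linter.unusedSectionVars false
set_option linter.style.haveILetI false

namespace Cfsg.Lib.Fi23Three

open Subgroup
open scoped commutatorElement
open Cfsg.Lib.U6Three (zp zp_zero zp_one zp_mem zp_inv zp_add)

theorem ω_sub_right (u v w : V) : ω u (v - w) = ω u v - ω u w := by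
  rw [sub_eq_add_neg, ω_add_right, ← neg_one_smul (ZMod 3) w, ω_smul_right]; ring

theorem ω_sub_left (u v w : V) : ω (u - v) w = ω u w - ω v w := by
  rw [sub_eq_add_neg, ω_add_left, ← neg_one_smul (ZMod 3) v, ω_smul_left]; ring

theorem exists_ω_one {v : V} (hv : v ≠ 0) : ∃ f, ω v f = 1 := by
  obtain ⟨f, hf⟩ : ∃ f, ω v f ≠ 0 := by
    by_contra h
    push Not at h
    exact hv (ω_eq_zero h)
  refine ⟨ω v f • f, ?_⟩
  rw [ω_smul_right]
  exact (show ∀ a : ZMod 3, a ≠ 0 → a * a = 1 by decide) _ hf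

theorem eq_smul_of_perp {v x : V} (hv : v ≠ 0) (h : ∀ w, ω v w = 0 → ω x w = 0) : ∃ c : ZMod 3, x = c • v := by
  obtain ⟨f, hf⟩ := exists_ω_one hv
  refine ⟨ω x f, sub_eq_zero.1 (ω_eq_zero fun w => ?_)⟩
  have e := h (w - ω v w • f) (by rw [ω_sub_right, ω_smul_right, hf, mul_one, sub_self])
  rw [ω_sub_right, ω_smul_right] at e
  rw [ω_sub_left, ω_smul_left]
  linear_combination e

namespace Data

variable {G : Type*} [Group G] [Finite G] (D : Data G)

/-- An involution fixing an element of `Q` outside the centre fixes one with a given commutator. -/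
theorem exists_noncomm {τ q : G} (hτ : τ * τ = 1) (hz : Commute τ D.z) (hq : q ∈ D.Q)
    (hqz : q ∉ D.toFrame.Zc) (hc : Commute τ q) (c : ZMod 3) :
    ∃ r ∈ D.Q, Commute τ r ∧ r * q * r⁻¹ = zp D.z c * q := by
  have hv : D.toFrame.vec q ≠ 0 := fun e => hqz ((D.toFrame.mem_Zc_iff hq).2 e)
  have hfix : D.toFrame.act τ (D.toFrame.vec q) = D.toFrame.vec q := by
    rw [← D.toFrame.vec_conj hz hq, hc.eq, mul_inv_cancel_right]
  obtain ⟨f, hf⟩ := exists_ω_one hv
  set F := (c : ZMod 3) • (f + D.toFrame.act τ f)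
  have hF : D.toFrame.act τ F = F := by
    rw [D.toFrame.act_smul hz, D.toFrame.act_add hz, ← D.toFrame.act_mul hz hz, hτ, D.toFrame.act_one, add_comm]
  have hω : ω F (D.toFrame.vec q) = c := by
    have e : ω (D.toFrame.vec q) (D.toFrame.act τ f) = 1 := by
      rw [← hfix, D.toFrame.act_form hz, hf]
    rw [ω_smul_left, ω_add_left, ω_swap (D.toFrame.vec q) f, ω_swap (D.toFrame.vec q) (D.toFrame.act τ f), e, hf]
    exact (show ∀ c : ZMod 3, c * (-1 + -1) = c by decide) c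
  refine ⟨D.toFrame.el F, D.toFrame.el_mem F, D.commute_of_fix hτ hz (D.toFrame.el_mem F) ?_, ?_⟩
  · rw [D.toFrame.vec_el, hF]
  · rw [Frame.conj_eq, D.toFrame.form_eq (D.toFrame.el_mem F) hq, D.toFrame.vec_el, hω]

/-- The centraliser of `z` in the group has the order of the conjugate one. -/
theorem card_cent_conj (g : G) :
    Nat.card (centralizer ({g * D.z * g⁻¹} : Set G)) = 3 ^ 9 * 128 * 648 := by
  rw [← D.card_H, ← card_map_of_injective (K := centralizer ({D.z} : Set G)) (f := (MulAut.conj g).toMonoidHom)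
    (MulAut.conj g).injective]
  refine congrArg (fun S : Subgroup G => Nat.card S) (SetLike.coe_injective ?_)
  ext x
  simp only [coe_map, MulEquiv.coe_toMonoidHom, Set.mem_image, SetLike.mem_coe, MulAut.conj_apply,
    mem_centralizer_singleton_iff]
  constructor
  · intro h
    refine ⟨g⁻¹ * x * g, ?_, by group⟩
    calc g⁻¹ * x * g * D.z = g⁻¹ * (x * (g * D.z * g⁻¹)) * g := by group
      _ = D.z * (g⁻¹ * x * g) := by rw [h]; group
  · rintro ⟨y, hy, rfl⟩
    calc g * y * g⁻¹ * (g * D.z * g⁻¹) = g * (y * D.z) * g⁻¹ := by group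
      _ = g * D.z * g⁻¹ * (g * y * g⁻¹) := by rw [hy]; group

/-- The conjugating element may be inverted. -/
theorem mem_symm {g : G} (hg : D.IsPt g) : g⁻¹ * D.z * g ∈ D.Q ∧ g⁻¹ * D.z * g ∉ D.toFrame.Zc := by
  obtain ⟨hyQ, hyZ⟩ := hg
  obtain ⟨y, hy⟩ : ∃ y, y = g * D.z * g⁻¹ := ⟨_, rfl⟩
  rw [← hy] at hyQ hyZ
  refine ⟨?_, fun h => hyZ ?_⟩
  swap
  · obtain ⟨k, hk⟩ := D.toFrame.exists_zp h
    rcases (show ∀ k : ZMod 3, k = 0 ∨ k = 1 ∨ k = 2 by decide) k with rfl | rfl | rfl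
    · rw [zp_zero, mul_assoc, inv_mul_eq_one, eq_comm, mul_eq_right] at hk
      exact absurd hk D.toFrame.z_ne
    · rw [zp_one] at hk
      have : y = D.z := by
        conv_rhs => rw [show D.z = g * (g⁻¹ * D.z * g) * g⁻¹ by group, hk]
        exact hy
      exact this ▸ mem_zpowers _
    · have e : D.z = g * (D.z * D.z) * g⁻¹ := by
        rw [show zp D.z (2 : ZMod 3) = D.z ^ 2 from rfl, pow_two] at hk
        rw [← hk]; group
      have e2 : D.z = y * y := by rw [hy]; conv_lhs => rw [e]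
                                  group
      have : y = D.z * D.z := by
        rw [e2, show y * y * (y * y) = y * y ^ 3 by simp only [pow_succ, pow_zero, one_mul, mul_assoc], D.cube_Q y hyQ, mul_one]
      exact this ▸ mul_mem (mem_zpowers _) (mem_zpowers _)
  by_contra hn
  classical
  let C : Subgroup G := D.Q ⊓ centralizer ({y} : Set G)
  have hmC : ∀ {x}, x ∈ C ↔ x ∈ D.Q ∧ ω (D.toFrame.vec x) (D.toFrame.vec y) = 0 := fun {x} =>
    ⟨fun h => ⟨h.1, (D.toFrame.commute_iff h.1 hyQ).1 (mem_centralizer_singleton_iff.1 h.2)⟩,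
      fun h => ⟨h.1, mem_centralizer_singleton_iff.2 ((D.toFrame.commute_iff h.1 hyQ).2 h.2).eq⟩⟩
  have hC : 6561 ≤ Nat.card C := by
    let φ : D.Q →* Multiplicative (ZMod 3) := MonoidHom.mk'
      (fun n => Multiplicative.ofAdd (ω (D.toFrame.vec n) (D.toFrame.vec y))) fun a b => by
      rw [← ofAdd_add, Subgroup.coe_mul, D.toFrame.vec_mul a.2 b.2, ω_add_left]
    have h := φ.ker.card_mul_index
    rw [D.card_Q, index_ker] at h
    have h3 : Nat.card φ.range ≤ 3 := (Nat.card_le_card_of_injective _ Subtype.val_injective).trans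
      (by rw [Nat.card_congr Multiplicative.toAdd, Nat.card_zmod])
    have h4 : Nat.card φ.ker ≤ Nat.card C := Nat.card_le_card_of_injective
      (fun n => (⟨((n : D.Q) : G), hmC.2 ⟨(n : D.Q).2, congrArg Multiplicative.toAdd (MonoidHom.mem_ker.1 n.2)⟩⟩ : C))
      fun n n' e => Subtype.ext (Subtype.ext (Subtype.ext_iff.1 e :))
    nlinarith
  obtain ⟨X, hX⟩ : ∃ X, X = centralizer ({y} : Set G) := ⟨_, rfl⟩
  let Qg : Subgroup G := D.Q.map (MulAut.conj g).toMonoidHom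
  have hmg : ∀ {x}, x ∈ Qg ↔ g⁻¹ * x * g ∈ D.Q := fun {x} => by
    refine ⟨?_, fun h => ⟨_, h, by simp [mul_assoc]⟩⟩
    rintro ⟨q, hq, rfl⟩
    simpa [mul_assoc] using hq
  have hzg : D.z ∉ Qg := fun h => hn (hmg.1 h)
  have hZg : ∀ {x}, x ∈ D.toFrame.Zc → x ∈ Qg → x = 1 := fun {x} hx hxg => by
    obtain ⟨k, rfl⟩ := D.toFrame.exists_zp hx
    by_contra hne
    refine hzg ?_
    rcases (show ∀ k : ZMod 3, k = 0 ∨ k = 1 ∨ k = 2 by decide) k with rfl | rfl | rfl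
    · exact absurd (zp_zero _) hne
    · rwa [zp_one] at hxg
    · have := mul_mem hxg hxg
      rwa [show zp D.z (2 : ZMod 3) = D.z ^ 2 from rfl, ← pow_add, pow_succ, D.toFrame.z_cube, one_mul] at this
  have hnorm : ∀ x ∈ X, ∀ k ∈ Qg, x * k * x⁻¹ ∈ Qg := fun x hx k hk => hmg.2 (by
    have hc : Commute (g⁻¹ * x * g) D.z := by
      have h := mem_centralizer_singleton_iff.1 (hX ▸ hx)
      rw [hy] at h
      show g⁻¹ * x * g * D.z = D.z * (g⁻¹ * x * g)
      calc g⁻¹ * x * g * D.z = g⁻¹ * (x * (g * D.z * g⁻¹)) * g := by group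
        _ = D.z * (g⁻¹ * x * g) := by rw [h]; group
    have := D.norm_Q _ hc _ (hmg.1 hk)
    rwa [show g⁻¹ * x * g * (g⁻¹ * k * g) * (g⁻¹ * x * g)⁻¹ = g⁻¹ * (x * k * x⁻¹) * g by group] at this)
  have hK : ∀ k, k ∈ C → k ∈ Qg → ∀ x ∈ C, Commute x k := fun k hk hkg x hx =>
    commutatorElement_eq_one_iff_commute.1 (hZg (D.comm_Q x hx.1 k hk.1) (by
      rw [commutatorElement_def]; exact mul_mem (hnorm x (hX ▸ hx.2) k hkg) (inv_mem hkg)))
  let Qx : Subgroup X := Qg.subgroupOf X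
  haveI : Qx.Normal := ⟨fun k hk x => mem_subgroupOf.2 (hnorm x x.2 _ (mem_subgroupOf.1 hk))⟩
  let φ : C →* X ⧸ Qx := (QuotientGroup.mk' Qx).comp (Subgroup.inclusion (hX ▸ inf_le_right))
  have hker : Nat.card φ.ker ≤ 3 := by
    have hv : D.toFrame.vec y ≠ 0 := fun e => hyZ ((D.toFrame.mem_Zc_iff hyQ).2 e)
    have hmem : ∀ n : φ.ker, ((n : C) : G) ∈ Qg := fun n =>
      mem_subgroupOf.1 ((QuotientGroup.eq_one_iff (N := Qx) _).1 (MonoidHom.mem_ker.1 n.2))
    have hsm : ∀ n : φ.ker, ∃ c : ZMod 3, D.toFrame.vec ((n : C) : G) = c • D.toFrame.vec y := fun n =>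
      eq_smul_of_perp hv fun w hw => by
        have hwC : D.toFrame.el w ∈ C := hmC.2 ⟨D.toFrame.el_mem w, by rw [D.toFrame.vec_el, ω_swap, hw, neg_zero]⟩
        have := (D.toFrame.commute_iff (n : C).2.1 (D.toFrame.el_mem w)).1 (hK _ (n : C).2 (hmem n) _ hwC).symm
        rwa [D.toFrame.vec_el] at this
    choose f hf using hsm
    calc Nat.card φ.ker ≤ Nat.card (ZMod 3) := Nat.card_le_card_of_injective f fun n n' e => by
          have h1 := hf n
          rw [e, ← hf n'] at h1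
          refine Subtype.ext (Subtype.ext (mul_inv_eq_one.1 ?_))
          exact hZg (D.toFrame.div_mem_Zc (n : C).2.1 (n' : C).2.1 h1) (mul_mem (hmem n) (inv_mem (hmem n')))
      _ = 3 := Nat.card_zmod 3
  have h := φ.ker.card_mul_index
  rw [index_ker] at h
  have hXc : Nat.card X = 3 ^ 9 * 128 * 648 := by rw [hX, hy]; exact D.card_cent_conj g
  have hq : Nat.card (X ⧸ Qx) * 19683 = 3 ^ 9 * 128 * 648 := by
    have hle : Qg ≤ X := fun k hk => by
      rw [hX]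
      refine mem_centralizer_singleton_iff.2 ?_
      have h' := (D.comm_z _ (hmg.1 hk)).eq
      calc k * y = g * (g⁻¹ * k * g * D.z) * g⁻¹ := by rw [hy]; group
        _ = y * k := by rw [h', hy]; group
    have h1 := Qx.card_mul_index
    rw [index_eq_card, Nat.card_congr (subgroupOfEquivOfLe hle).toEquiv,
      card_map_of_injective (MulAut.conj g).injective, D.card_Q, hXc] at h1
    rw [← h1]; ring
  have h5 : Nat.card φ.range ∣ Nat.gcd (19683 * 19683) 82944 := Nat.dvd_gcd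
    ((card_range_dvd φ).trans ((Subgroup.card_dvd_of_le (inf_le_left : C ≤ D.Q)).trans
      (by rw [D.card_Q]; exact dvd_mul_right _ _)))
    ((card_subgroup_dvd_card φ.range).trans (dvd_of_eq (by omega)))
  have h6 : Nat.card φ.range ≤ 81 := Nat.le_of_dvd (by norm_num) (h5.trans (dvd_of_eq (by decide +kernel)))
  nlinarith

/-- A point with an involution inducing the swap. -/
structure Piv where
  g : G
  τ : G
  pt : D.IsPt g
  sq : τ * τ = 1
  ne : τ ≠ 1
  comm_z : Commute τ D.z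
  comm_y : Commute τ (g * D.z * g⁻¹)
  act_τ : ∀ v, D.toFrame.act τ v = ev SW v

theorem exists_piv {g : G} (hg : D.IsPt g) : Nonempty D.Piv := by
  obtain ⟨g', τ, h1, h2, h3, h4, h5, h6⟩ := D.exists_tau hg
  exact ⟨⟨g', τ, h1, h2, h3, h4, h5, h6⟩⟩

variable {D}

/-- Two elements of order three centralising the involution give one moving `z` to the point. -/
theorem Piv.exists_mover (P : D.Piv) : ∃ q u : G, q ∈ D.Q ∧ Commute q P.τ ∧ u ^ 3 = 1 ∧ Commute u P.τ ∧
    (q * u) * D.z * (q * u)⁻¹ = P.g * D.z * P.g⁻¹ ∧ (q * u) ^ 3 * D.z * ((q * u) ^ 3)⁻¹ = D.z⁻¹ := by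
  obtain ⟨y, hy⟩ : ∃ y, y = P.g * D.z * P.g⁻¹ := ⟨_, rfl⟩
  obtain ⟨hyQ, hyZ⟩ : y ∈ D.Q ∧ y ∉ D.toFrame.Zc := hy ▸ P.pt
  obtain ⟨hpQ, hpZ⟩ := D.mem_symm P.pt
  obtain ⟨q, hq, hqτ, hqy⟩ := D.exists_noncomm P.sq P.comm_z hyQ hyZ (hy ▸ P.comm_y) (-1)
  have hτ' : P.g⁻¹ * P.τ * P.g * (P.g⁻¹ * P.τ * P.g) = 1 := by
    rw [show P.g⁻¹ * P.τ * P.g * (P.g⁻¹ * P.τ * P.g) = P.g⁻¹ * (P.τ * P.τ) * P.g by group, P.sq]; group
  have hc1 : Commute (P.g⁻¹ * P.τ * P.g) D.z := by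
    have := (Commute.conj_iff P.g⁻¹).2 P.comm_y
    simpa [mul_assoc] using this
  have hc2 : Commute (P.g⁻¹ * P.τ * P.g) (P.g⁻¹ * D.z * P.g) := by
    have := (Commute.conj_iff P.g⁻¹).2 P.comm_z
    simpa [mul_assoc] using this
  obtain ⟨r, hr, hrτ, hrz⟩ := D.exists_noncomm hτ' hc1 hpQ hpZ hc2 1
  rw [zp_one] at hrz
  rw [← zp_inv D.toFrame.z_cube, zp_one] at hqy
  obtain ⟨u, hu⟩ : ∃ u, u = P.g * r * P.g⁻¹ := ⟨_, rfl⟩
  have huz : u * D.z * u⁻¹ = y * D.z := by
    rw [hu, hy]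
    calc P.g * r * P.g⁻¹ * D.z * (P.g * r * P.g⁻¹)⁻¹ = P.g * (r * (P.g⁻¹ * D.z * P.g) * r⁻¹) * P.g⁻¹ := by group
      _ = _ := by rw [hrz]; group
  have huy : u * y * u⁻¹ = y := by
    rw [hu, hy]
    calc P.g * r * P.g⁻¹ * (P.g * D.z * P.g⁻¹) * (P.g * r * P.g⁻¹)⁻¹ = P.g * (r * D.z * r⁻¹) * P.g⁻¹ := by group
      _ = _ := by rw [(D.comm_z r hr).eq, mul_inv_cancel_right]
  have hqz : q * D.z * q⁻¹ = D.z := by rw [(D.comm_z q hq).eq, mul_inv_cancel_right]
  have hyz : y * D.z = D.z * y := (D.comm_z y hyQ).eq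
  have h1 : (q * u) * D.z * (q * u)⁻¹ = y := by
    calc (q * u) * D.z * (q * u)⁻¹ = q * (u * D.z * u⁻¹) * q⁻¹ := by group
      _ = q * y * q⁻¹ * (q * D.z * q⁻¹) := by rw [huz]; group
      _ = y := by rw [hqy, hqz, mul_assoc, hyz, inv_mul_cancel_left]
  have h2 : (q * u) * y * (q * u)⁻¹ = D.z⁻¹ * y := by
    calc (q * u) * y * (q * u)⁻¹ = q * (u * y * u⁻¹) * q⁻¹ := by group
      _ = _ := by rw [huy, hqy]
  refine ⟨q, u, hq, hqτ.symm, ?_, ?_, hy ▸ h1, ?_⟩
  · rw [hu, conj_pow, D.cube_Q r hr]; group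
  · have := (Commute.conj_iff P.g).2 hrτ.symm
    rw [hu]
    simpa [mul_assoc] using this
  · calc (q * u) ^ 3 * D.z * ((q * u) ^ 3)⁻¹
        = (q * u) * ((q * u) * ((q * u) * D.z * (q * u)⁻¹) * (q * u)⁻¹) * (q * u)⁻¹ := by
          simp only [pow_succ, pow_zero, one_mul, mul_inv_rev, mul_assoc]
      _ = ((q * u) * D.z * (q * u)⁻¹)⁻¹ * ((q * u) * y * (q * u)⁻¹) := by
          conv_lhs => rw [h1, h2]
          group
      _ = D.z⁻¹ := by
          rw [h1, h2, ← mul_assoc]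
          calc y⁻¹ * D.z⁻¹ * y = (D.z * y)⁻¹ * y := by rw [mul_inv_rev]
            _ = D.z⁻¹ := by rw [← hyz, mul_inv_rev]; group

end Data

end Cfsg.Lib.Fi23Three
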