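import Cfsg.Agent.Lib.Fi23Three.Pt.Cases
import Cfsg.Agent.Lib.Fi23Three.Pt.Pair

/-!
# A 3-centraliser of type Fi₂₃: a conjugate of the central element inside `Q`
-/

set_option autoImplicit false
set_option linter.unusedSectionVars false

namespace Cfsg.Lib.Fi23Three

open Subgroup

variable {G : Type*} [Group G] [Finite G]

/-- A conjugate outside the centre commuting with `z` gives a point. -/
theorem Data.exists_pt (D : Data G) {g : G} (hc : Commute (g * D.z * g⁻¹) D.z)
    (hne : g * D.z * g⁻¹ ∉ zpowers D.z) : ∃ k, D.IsPt k := by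
  by_contra hcon
  push Not at hcon
  have hn : D.NoPt := fun k hk => by
    by_contra h
    exact hcon k ⟨hk, h⟩
  have hout : D.Out (g * D.z * g⁻¹) := ⟨hc, fun h => hne (hn g h), g, Or.inl rfl⟩
  obtain ⟨j, hj⟩ := D.exists_type hout
  refine D.not_type_zero hn ?_
  rcases (show ∀ j : Fin 6, j = 0 ∨ j = 1 ∨ j = 2 ∨ j = 3 ∨ j = 4 ∨ j = 5 by decide) j with
    rfl | rfl | rfl | rfl | rfl | rfl
  · exact hj
  · exact (D.type_pair hn (Or.inl rfl) hj).elim id (D.type_three hn)
  · exact (D.type_pair hn (Or.inr (Or.inl rfl)) hj).elim id (D.type_three hn)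
  · exact D.type_three hn hj
  · exact D.type_four hn hj
  · exact (D.type_pair hn (Or.inr (Or.inr rfl)) hj).elim id (D.type_three hn)

end Cfsg.Lib.Fi23Three
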