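import Cfsg.Agent.Lib.Recog.PSpFourThree

/-!
# The centraliser of a 3-central element of `PSp(4,3)` has order divisible by 648
-/

set_option autoImplicit false
set_option linter.unusedSectionVars false
set_option linter.style.haveILetI false

namespace Cfsg.Lib.Fi23Three

open Cfsg.Lib.Recog Cfsg.Lib.Recog.HeisThree

theorem zmod3_facts : (3 : ZMod 3) = 0 ∧ (∀ a : ZMod 3, a = -a → a = 0) ∧ ∀ a : ZMod 3, -a = a → a = 0 := by decide

theorem top_cent_dvd {F : Type*} [Field F] [Fintype F] (hF : Fintype.card F = 3) {x : Cfsg.PSp 2 F}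
    (hx : orderOf x = 3)
    (hP : ∃ P : Sylow 3 (Cfsg.PSp 2 F), (P : Subgroup (Cfsg.PSp 2 F)) ≤ Subgroup.centralizer ({x} : Set (Cfsg.PSp 2 F))) :
    648 ∣ Nat.card (Subgroup.centralizer ({x} : Set (Cfsg.PSp 2 F))) := by
  classical
  haveI : Fact (Nat.Prime 3) := ⟨Nat.prime_three⟩
  obtain ⟨P, hP⟩ := hP
  obtain ⟨Φ, hΦ, hmul, hcen⟩ := PSpFourThree.exists_model hF
  let C : Subgroup (Cfsg.PSp 2 F) :=
    { carrier := Set.range Φ
      mul_mem' := by rintro _ _ ⟨a, rfl⟩ ⟨b, rfl⟩; exact ⟨_, (hmul _ _ _ _ _ _).symm⟩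
      one_mem' := by
        have h := hmul 0 0 1 0 0 1
        simp [dt] at h
        exact ⟨_, h⟩
      inv_mem' := by
        rintro g ⟨a, rfl⟩
        have hpow : ∀ n : ℕ, Φ a ^ (n + 1) ∈ Set.range Φ := fun n => by
          induction n with
          | zero => exact ⟨a, by simp⟩
          | succ n ih => obtain ⟨b, hb⟩ := ih; exact ⟨_, by rw [pow_succ, ← hb]; exact (hmul _ _ _ _ _ _).symm⟩
        have h1 : (Φ a)⁻¹ = Φ a ^ (2 * orderOf (Φ a) - 2 + 1) := by
          refine inv_eq_of_mul_eq_one_right ?_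
          have hpos := orderOf_pos (Φ a)
          rw [← pow_succ', show 2 * orderOf (Φ a) - 2 + 1 + 1 = orderOf (Φ a) * 2 by omega, pow_mul, pow_orderOf_eq_one,
            one_pow]
        rw [h1]; exact hpow _ }
  have hcC : Nat.card C = 648 := by
    show Nat.card (Set.range Φ) = 648
    rw [Nat.card_range_of_injective hΦ, Nat.card_eq_fintype_card]
    decide +kernel
  obtain ⟨T⟩ := (inferInstance : Nonempty (Sylow 3 C))
  have hTp : IsPGroup 3 ((T : Subgroup C).map C.subtype) := T.isPGroup'.map _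
  obtain ⟨S, hS⟩ := hTp.exists_le_sylow
  have hT81 : Nat.card ((T : Subgroup C).map C.subtype) = 81 := by
    rw [Subgroup.card_map_of_injective C.subtype_injective, T.card_eq_multiplicity, hcC,
      show (648 : ℕ) = 3 ^ 4 * 8 by norm_num, Nat.factorization_mul (by norm_num) (by norm_num),
      Nat.Prime.factorization_pow Nat.prime_three, Finsupp.add_apply, Finsupp.single_eq_same,
      Nat.factorization_eq_zero_of_not_dvd (by norm_num : ¬ 3 ∣ 8)]
    norm_num
  have hST : (T : Subgroup C).map C.subtype = S := by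
    refine Subgroup.eq_of_le_of_card_ge hS ?_
    rw [hT81]
    obtain ⟨n, hn⟩ := IsPGroup.iff_card.1 S.isPGroup'
    rw [hn]
    by_contra hgt
    have h5 : 5 ≤ n := by
      by_contra hlt
      have := Nat.pow_le_pow_right (show 1 ≤ 3 by norm_num) (show n ≤ 4 by omega)
      omega
    exact PSpFourThree.not_dvd_card hF
      ((pow_dvd_pow 3 h5).trans (hn ▸ Subgroup.card_subgroup_dvd_card (S : Subgroup (Cfsg.PSp 2 F))))
  obtain ⟨g, hg⟩ := MulAction.exists_smul_eq (Cfsg.PSp 2 F) P S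
  set y := g * x * g⁻¹ with hy
  have hyc : ∀ s ∈ (S : Subgroup (Cfsg.PSp 2 F)), Commute y s := by
    rw [← hg]
    rintro _ ⟨p, hp, rfl⟩
    exact (show Commute x p from (Subgroup.mem_centralizer_singleton_iff.1 (hP hp)).symm).map (MulAut.conj g).toMonoidHom
  -- the special element of the Sylow subgroup
  obtain ⟨t, ht⟩ : ∃ t : C, (t : Cfsg.PSp 2 F) = Φ (0, 1, 1) := ⟨⟨_, (0, 1, 1), rfl⟩, rfl⟩
  have htc : ∀ c : C, Commute t c := by
    rintro ⟨_, ⟨⟨w, d, N⟩, rfl⟩⟩
    refine Subtype.ext ?_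
    show (t : Cfsg.PSp 2 F) * Φ (w, d, N) = Φ (w, d, N) * t
    rw [ht, hmul, hmul]
    simp [dt, add_comm]
  have mem3 : ∀ w d, ∀ c : C, (c : Cfsg.PSp 2 F) = Φ (w, d, 1) → (∀ c' : C, Commute c c') → c ∈ (T : Subgroup C) := by
    intro w d c hc hcc
    have h3 : ∀ n : ℕ, (c : Cfsg.PSp 2 F) ^ (n + 1) = Φ ((n + 1) • w, (n + 1) • d, 1) := by
      intro n
      induction n with
      | zero => simp [hc]
      | succ n ih =>
        rw [pow_succ, ih, hc, hmul]
        simp [dt, succ_nsmul]; ring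
    have hone : Φ (0, 0, 1) = 1 := by
      have h := hmul 0 0 1 0 0 1
      simp [dt] at h
      exact h
    have hcube : c ^ 3 = 1 := Subtype.ext (by
      rw [SubmonoidClass.coe_pow, h3 2, OneMemClass.coe_one, ← hone]
      congr 2
      · funext i; simp [zmod3_facts.1]
      · simp [zmod3_facts.1])
    have hzp : IsPGroup 3 (Subgroup.zpowers c) := fun u => ⟨1, by
      obtain ⟨k, hk⟩ := Subgroup.mem_zpowers_iff.1 u.2
      refine Subtype.ext ?_
      simp only [SubmonoidClass.coe_pow, ← hk, OneMemClass.coe_one, pow_one]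
      rw [← zpow_natCast, ← zpow_mul, mul_comm, zpow_mul, zpow_natCast, hcube, one_zpow]⟩
    haveI : (Subgroup.zpowers c).Normal := ⟨fun n hn g => by
      obtain ⟨k, rfl⟩ := Subgroup.mem_zpowers_iff.1 hn
      rw [((hcc g).symm.zpow_right k).eq, mul_inv_cancel_right]; exact hn⟩
    exact (hzp.le_sylow_of_normal T) (Subgroup.mem_zpowers c)
  have hts : Φ (0, 1, 1) ∈ (S : Subgroup (Cfsg.PSp 2 F)) :=
    hST ▸ ⟨t, mem3 0 1 t ht htc, ht⟩
  obtain ⟨⟨v, c, M⟩, hyv⟩ := hcen y (hyc _ hts).eq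
  -- translations of the Heisenberg part
  have hN : ∀ w : V2, Φ (w, 0, 1) ∈ (S : Subgroup (Cfsg.PSp 2 F)) := by
    intro w
    let N3 : Subgroup C :=
      { carrier := {c : C | ∃ w d, (c : Cfsg.PSp 2 F) = Φ (w, d, 1)}
        mul_mem' := by
          rintro a b ⟨w, d, ha⟩ ⟨w', d', hb⟩
          exact ⟨w + w', d + d' - dt w w', by rw [Subgroup.coe_mul, ha, hb, hmul]; simp⟩
        one_mem' := ⟨0, 0, by have h := hmul 0 0 1 0 0 1; simp [dt] at h; exact h.symm⟩
        inv_mem' := by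
          rintro a ⟨w, d, ha⟩
          refine ⟨-w, -d, ?_⟩
          rw [Subgroup.coe_inv]
          refine inv_eq_of_mul_eq_one_right ?_
          rw [ha, hmul]
          have h := hmul 0 0 1 0 0 1
          simp [dt] at h
          convert h using 2
          simp [dt]; ring }
    have hN3 : N3.Normal := ⟨by
      rintro n ⟨w, d, hn⟩ g
      obtain ⟨⟨w', d', N⟩, hg'⟩ := g.2
      obtain ⟨⟨w'', d'', N'⟩, hgi⟩ := (g⁻¹).2
      have h1 : Φ (w', d', N) * Φ (w'', d'', N') = 1 := by rw [hg', hgi, ← Subgroup.coe_mul, mul_inv_cancel, OneMemClass.coe_one]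
      have hNN : N * N' = 1 := by
        rw [hmul] at h1
        have h := hmul 0 0 1 0 0 1
        simp [dt] at h
        exact (congrArg (fun p : V2 × ZMod 3 × S23 => p.2.2) (hΦ (h1.trans h.symm)) :)
      refine ⟨?_, ?_, ?_⟩
      rotate_left 2
      · show ((g * n * g⁻¹ : C) : Cfsg.PSp 2 F) = _
        rw [Subgroup.coe_mul, Subgroup.coe_mul, hn, ← hg', ← hgi, hmul, hmul, mul_one, hNN]⟩
    have hp : IsPGroup 3 N3 := IsPGroup.of_card (n := 3) (by
      rw [Nat.card_congr (Equiv.ofBijective (fun p : V2 × ZMod 3 => (⟨⟨Φ (p.1, p.2, 1), _, rfl⟩, p.1, p.2, rfl⟩ : N3))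
        ⟨fun p p' e => by
          have := hΦ (congrArg (fun u : N3 => ((u : C) : Cfsg.PSp 2 F)) e)
          simp only [Prod.mk.injEq, and_true] at this
          exact Prod.ext this.1 this.2, fun ⟨u, w, d, h⟩ => ⟨(w, d), Subtype.ext (Subtype.ext h.symm)⟩⟩).symm]
      simp)
    exact hST ▸ ⟨⟨_, (w, 0, 1), rfl⟩, (hp.le_sylow_of_normal T) ⟨w, 0, rfl⟩, rfl⟩
  have hfix : ∀ w : V2, M.1.mulVec w = w ∧ dt v (M.1.mulVec w) = dt w v := by
    intro w
    have h := (hyc _ (hN w)).eq
    rw [← hyv, hmul, hmul] at h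
    have h' := hΦ h
    simp only [Prod.mk.injEq, add_zero, zero_add, Matrix.SpecialLinearGroup.coe_one, Matrix.one_mulVec] at h'
    obtain ⟨h1, h2, -⟩ := h'
    exact ⟨by rw [add_comm w] at h1; exact add_left_cancel h1, sub_right_injective h2⟩
  obtain rfl : M = 1 := by
    refine Subtype.ext (Matrix.ext_of_mulVec_single fun i => ?_)
    rw [(hfix (Pi.single i 1)).1, Matrix.SpecialLinearGroup.coe_one, Matrix.one_mulVec]
  obtain rfl : v = 0 := by
    have h0 := (hfix ![1, 0]).2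
    have h1 := (hfix ![0, 1]).2
    simp [dt] at h0 h1
    funext i
    fin_cases i
    · exact zmod3_facts.2.1 _ h1
    · exact zmod3_facts.2.2 _ h0
  have hle : C ≤ Subgroup.centralizer ({y} : Set (Cfsg.PSp 2 F)) := by
    rintro _ ⟨⟨w, d, N⟩, rfl⟩
    refine Subgroup.mem_centralizer_singleton_iff.2 ?_
    rw [← hyv, hmul, hmul]
    simp [dt, add_comm]
  have hcard : Nat.card (Subgroup.centralizer ({y} : Set (Cfsg.PSp 2 F))) =
      Nat.card (Subgroup.centralizer ({x} : Set (Cfsg.PSp 2 F))) := by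
    rw [← Subgroup.card_map_of_injective (K := Subgroup.centralizer ({x} : Set (Cfsg.PSp 2 F))) (f := (MulAut.conj g).toMonoidHom) (MulAut.conj g).injective]
    congr 2
    ext u
    rw [Subgroup.mem_centralizer_singleton_iff]
    constructor
    · intro hu
      exact ⟨g⁻¹ * u * g, Subgroup.mem_centralizer_singleton_iff.2 (show g⁻¹ * u * g * x = x * (g⁻¹ * u * g) by
        have := congrArg (fun w => g⁻¹ * w * g) hu
        simpa [hy, mul_assoc] using this), by simp [mul_assoc]⟩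
    · rintro ⟨w, hw, rfl⟩
      exact ((show Commute w x from Subgroup.mem_centralizer_singleton_iff.1 hw).map (MulAut.conj g).toMonoidHom).eq
  exact hcard ▸ hcC ▸ Subgroup.card_dvd_of_le hle

end Cfsg.Lib.Fi23Three
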