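import Cfsg.Agent.Lib.Fi23Three.Twist
import Cfsg.Agent.Lib.Fi23Three.TopCent
import Cfsg.Agent.Lib.Core.Layer
import Cfsg.Prelude.Def_Transfer

/-!
# The data from the hypotheses on the centraliser
-/

set_option autoImplicit false
set_option linter.unusedSectionVars false
set_option linter.style.haveILetI false
set_option maxRecDepth 4000

namespace Cfsg.Lib.Fi23Three

open Subgroup
open scoped commutatorElement
open Cfsg.Lib.Extraspecial (Setting SympList mem_perp)

/-- The pairs carried along an isomorphism. -/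
noncomputable def QF.transport {R R' : Type*} [Group R] [Group R'] (F : QF R) (e : R ≃* R') : QF R' where
  z := e F.z
  A i := e (F.A i)
  B i := e (F.B i)
  hz := (map_ne_one_iff e e.injective).2 F.hz
  z_sq := by rw [← map_mul, F.z_sq, map_one]
  zc r := by simpa using (F.zc (e.symm r)).map e
  comm r s := by
    rcases F.comm (e.symm r) (e.symm s) with h | h
    · exact Or.inl (by simpa using congrArg e h)
    · exact Or.inr (by simpa using congrArg e h)
  sqz r := by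
    rcases F.sqz (e.symm r) with h | h
    · exact Or.inl (by simpa using congrArg e h)
    · exact Or.inr (by simpa using congrArg e h)
  A_sq i := by rw [← map_mul, F.A_sq]
  B_sq i := by rw [← map_mul, F.B_sq]
  AB i := by simp only [← map_mul, F.AB]
  cAA i j := (F.cAA i j).map e
  cBB i j := (F.cBB i j).map e
  cAB i j h := (F.cAB i j h).map e
  ker r hr := by
    rcases F.ker (e.symm r) (fun i => ⟨by simpa using (hr i).1.map e.symm, by simpa using (hr i).2.map e.symm⟩) with h | h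
    · exact Or.inl (by simpa using congrArg e h)
    · exact Or.inr (by simpa using congrArg e h)

theorem pol6_single : ∀ (w : W6) (i : Fin 3),
    pol6 w (Pi.single i (1, 0)) = (w i).2 ∧ pol6 w (Pi.single i (0, 1)) = (w i).1 := by decide +kernel

theorem single_facts : (∀ i : Fin 3, q6 (Pi.single i (1, 0)) = 1 ∧ q6 (Pi.single i (0, 1)) = 1) ∧
    (∀ i : Fin 3, pol6 (Pi.single i (1, 0)) (Pi.single i (0, 1)) = 1) ∧
    ∀ i j : Fin 3, pol6 (Pi.single i (1, 0)) (Pi.single j (1, 0)) = 0 ∧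
      pol6 (Pi.single i (0, 1)) (Pi.single j (0, 1)) = 0 ∧
      (i ≠ j → pol6 (Pi.single i (1, 0)) (Pi.single j (0, 1)) = 0) := by decide +kernel

/-- The pairs moved by an isometry of the classes. -/
theorem QF.exists_twist {R : Type*} [Group R] (F : QF R) (h : Equiv.Perm W6) (hh : h ∈ Iso6) :
    ∃ F' : QF R, F'.z = F.z ∧ ∀ r, F'.cls r = h (F.cls r) := by
  have hi : (h⁻¹ : Equiv.Perm W6) ∈ Iso6 := inv_mem hh
  set a : Fin 3 → W6 := fun i => (h⁻¹ : Equiv.Perm W6) (Pi.single i (1, 0))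
  set b : Fin 3 → W6 := fun i => (h⁻¹ : Equiv.Perm W6) (Pi.single i (0, 1))
  have hσ : ∀ u v, F.σ (F.el u) (F.el v) = pol6 u v := fun u v => by rw [F.σ_eq_pol, F.cls_el, F.cls_el]
  have hsq : ∀ u, q6 u = 1 → F.el u * F.el u = F.z := fun u hu => by
    rw [F.sq_eq, F.sqc_q6, F.cls_el, hu, ZMod.val_one, pow_one]
  have hcm : ∀ u v, pol6 u v = 0 → Commute (F.el u) (F.el v) := fun u v e => by
    have h1 := F.comm_eq (F.el u) (F.el v)
    rw [hσ, e, show ((0 : ZMod 2)).val = 0 from rfl, pow_zero, one_mul] at h1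
    exact h1
  have hadj : ∀ (r : R) (w : W6), pol6 (F.cls r) ((h⁻¹ : Equiv.Perm W6) w) = pol6 (h (F.cls r)) w := fun r w => by
    rw [← pol6_map hh (F.cls r), Equiv.Perm.coe_inv, Equiv.apply_symm_apply]
  have hker : ∀ r, (∀ i, Commute r (F.el (a i)) ∧ Commute r (F.el (b i))) → r = 1 ∨ r = F.z := fun r hr => by
    have h0 : ∀ w, Commute r (F.el ((h⁻¹ : Equiv.Perm W6) w)) → pol6 (h (F.cls r)) w = 0 := fun w e => by
      rw [← hadj, ← F.cls_el ((h⁻¹ : Equiv.Perm W6) w), ← F.σ_eq_pol]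
      exact F.σ_eq (by simpa using e.eq)
    have hz0 : h (F.cls r) = 0 := funext fun i =>
      Prod.ext ((pol6_single _ i).2.symm.trans (h0 _ (hr i).2)) ((pol6_single _ i).1.symm.trans (h0 _ (hr i).1))
    have h00 : h 0 = 0 := by simpa using hh.1 0 0
    have hc : F.cls r = F.cls 1 := by rw [F.cls_one]; exact h.injective (hz0.trans h00.symm)
    rcases F.eq_of_cls hc with e | e
    · exact Or.inl e
    · exact Or.inr (by simpa using e)
  refine ⟨{ F with
    A := fun i => F.el (a i)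
    B := fun i => F.el (b i)
    A_sq := fun i => hsq _ (by rw [hi.2]; exact (single_facts.1 i).1)
    B_sq := fun i => hsq _ (by rw [hi.2]; exact (single_facts.1 i).2)
    AB := fun i => by rw [F.comm_eq, hσ, pol6_map hi, single_facts.2.1, ZMod.val_one, pow_one]
    cAA := fun i j => hcm _ _ (by rw [pol6_map hi]; exact (single_facts.2.2 i j).1)
    cBB := fun i j => hcm _ _ (by rw [pol6_map hi]; exact (single_facts.2.2 i j).2.1)
    cAB := fun i j hij => hcm _ _ (by rw [pol6_map hi]; exact (single_facts.2.2 i j).2.2 hij)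
    ker := hker }, rfl, fun r => funext fun i => Prod.ext ?_ ?_⟩
  · show F.σ r (F.el (b i)) = _
    rw [F.σ_eq_pol, F.cls_el, hadj, (pol6_single _ i).2]
  · show F.σ r (F.el (a i)) = _
    rw [F.σ_eq_pol, F.cls_el, hadj, (pol6_single _ i).1]

variable {G : Type*} [Group G] [Finite G]

theorem mem_cent_iff {Z : Subgroup G} {z : G} (hz : zpowers z = Z) (g : G) :
    g ∈ centralizer (Z : Set G) ↔ Commute g z := by
  subst hz
  rw [zpowers_eq_closure, centralizer_closure, mem_centralizer_singleton_iff]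
  rfl

/-- The frame from the extraspecial generalised Fitting subgroup. -/
theorem exists_frame (Z : Subgroup G) (hZ : Nat.card Z = 3)
    (hQ : Cfsg.IsExtraspecial 3 ↥(Cfsg.generalizedFittingSubgroup ↥(centralizer (Z : Set G))))
    (hQcard : Nat.card ↥(Cfsg.generalizedFittingSubgroup ↥(centralizer (Z : Set G))) = 3 ^ 9)
    [hQn : (Cfsg.generalizedFittingSubgroup ↥(centralizer (Z : Set G))).Normal]
    (hexp : ∀ x ∈ Cfsg.generalizedFittingSubgroup ↥(centralizer (Z : Set G)), x ^ 3 = 1) :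
    ∃ F : Frame G, zpowers F.z = Z ∧
      F.Q = (Cfsg.generalizedFittingSubgroup ↥(centralizer (Z : Set G))).map (centralizer (Z : Set G)).subtype := by
  classical
  haveI : Fact (Nat.Prime 3) := ⟨Nat.prime_three⟩
  set H := centralizer (Z : Set G) with hH
  set Q := Cfsg.generalizedFittingSubgroup ↥H with hQdef
  obtain ⟨z, hs, hnd⟩ := Cfsg.Lib.Extraspecial.exists_setting hQ
  obtain ⟨L, hL⟩ := Cfsg.Lib.Extraspecial.exists_list hs ⊤ hnd
  have hlen : L.length = 4 := by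
    have hc := Cfsg.Lib.Extraspecial.card_eq hs hL
    rw [Subgroup.card_top, hQcard] at hc
    have := Nat.pow_right_injective (show 2 ≤ 3 by norm_num) hc
    omega
  -- the central element generates `Z`
  haveI : IsCyclic Z := isCyclic_of_prime_card hZ
  have hzQ : zpowers ((z : H) : G) = Z := by
    refine (eq_of_le_of_card_ge ?_ ?_).symm
    · intro w hw
      have hwH : w ∈ H := mem_centralizer_iff.2 fun v hv => by
        simpa using congrArg Subtype.val ((IsCyclic.commutative (α := Z)).is_comm.comm (⟨v, hv⟩ : Z) ⟨w, hw⟩)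
      have hcw : ∀ y : H, y * ⟨w, hwH⟩ = ⟨w, hwH⟩ * y := fun y =>
        Subtype.ext (mem_centralizer_iff.1 y.2 w hw).symm
      have hwQ : (⟨w, hwH⟩ : H) ∈ Q :=
        Cfsg.Lib.Core.centralizer_generalizedFitting_le (mem_centralizer_iff.2 fun y _ => hcw y)
      have hm := hnd.2 ⟨⟨w, hwH⟩, hwQ⟩ (mem_top _) fun q _ => Subtype.ext (hcw q).symm
      obtain ⟨k, hk⟩ := mem_zpowers_iff.1 hm
      exact mem_zpowers_iff.2 ⟨k, by simpa using congrArg (fun u : Q => ((u : H) : G)) hk⟩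
    · rw [Nat.card_zpowers, Subgroup.orderOf_coe, Subgroup.orderOf_coe, hs.ord, hZ]
  have hmem : ∀ g : G, g ∈ H ↔ Commute g ((z : H) : G) := mem_cent_iff hzQ
  match L, hlen, hL with
  | [(x1, y1), (x2, y2), (x3, y3), (x4, y4)], _, hL =>
  obtain ⟨-, -, e1, h1⟩ := hL.inv_cons
  obtain ⟨a2, b2, e2, h2⟩ := h1.inv_cons
  obtain ⟨a3, b3, e3, h3⟩ := h2.inv_cons
  obtain ⟨a4, b4, e4, -⟩ := h3.inv_cons
  obtain ⟨-, c21, d21⟩ := mem_perp.1 a2
  obtain ⟨-, f21, g21⟩ := mem_perp.1 b2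
  obtain ⟨a3', c32, d32⟩ := mem_perp.1 a3
  obtain ⟨b3', f32, g32⟩ := mem_perp.1 b3
  obtain ⟨-, c31, d31⟩ := mem_perp.1 a3'
  obtain ⟨-, f31, g31⟩ := mem_perp.1 b3'
  obtain ⟨a4', c43, d43⟩ := mem_perp.1 a4
  obtain ⟨b4', f43, g43⟩ := mem_perp.1 b4
  obtain ⟨a4'', c42, d42⟩ := mem_perp.1 a4'
  obtain ⟨b4'', f42, g42⟩ := mem_perp.1 b4'
  obtain ⟨-, c41, d41⟩ := mem_perp.1 a4''
  obtain ⟨-, f41, g41⟩ := mem_perp.1 b4''
  let ι : Q →* G := H.subtype.comp Q.subtype
  set a : Fin 4 → Q := ![x1, x2, x3, x4]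
  set b : Fin 4 → Q := ![y1, y2, y3, y4]
  have hab : ∀ i, ⁅a i, b i⁆ = z := by intro i; fin_cases i <;> assumption
  have haa : ∀ i j, Commute (a i) (a j) := by
    intro i j; fin_cases i <;> fin_cases j <;>
      first | exact Commute.refl _ | assumption | (apply Commute.symm; assumption)
  have hbb : ∀ i j, Commute (b i) (b j) := by
    intro i j; fin_cases i <;> fin_cases j <;>
      first | exact Commute.refl _ | assumption | (apply Commute.symm; assumption)
  have hne : ∀ i j, i ≠ j → Commute (a i) (b j) := by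
    intro i j hij; fin_cases i <;> fin_cases j <;>
      first | exact absurd rfl hij | assumption | (apply Commute.symm; assumption)
  refine ⟨{
    z := ι z
    hz := by rw [orderOf_injective ι (H.subtype_injective.comp Q.subtype_injective), hs.ord]
    Q := Q.map H.subtype
    card_Q := by rw [card_map_of_injective H.subtype_injective, hQcard]; norm_num
    z_mem := ⟨z, z.2, rfl⟩
    comm_z := by rintro _ ⟨u, -, rfl⟩; exact (hmem u).1 u.2
    norm_Q := by
      rintro g hg _ ⟨u, hu, rfl⟩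
      exact ⟨⟨g, (hmem g).2 hg⟩ * u * ⟨g, (hmem g).2 hg⟩⁻¹, hQn.conj_mem u hu _, rfl⟩
    comm_Q := by
      rintro _ ⟨u, hu, rfl⟩ _ ⟨v, hv, rfl⟩
      obtain ⟨k, hk⟩ := mem_zpowers_iff.1 (hs.comm (⟨u, hu⟩ : Q) ⟨v, hv⟩)
      exact mem_zpowers_iff.2 ⟨k, by
        simpa [ι, commutatorElement_def] using congrArg ι hk⟩
    cube_Q := by
      rintro _ ⟨u, hu, rfl⟩
      simpa using congrArg H.subtype (hexp u hu)
    cent_Q := by
      intro g hg h
      have hgQ : (⟨g, (hmem g).2 hg⟩ : H) ∈ Q := Cfsg.Lib.Core.centralizer_generalizedFitting_le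
        (mem_centralizer_iff.2 fun w hw => Subtype.ext (h _ ⟨w, hw, rfl⟩).eq.symm)
      obtain ⟨k, hk⟩ := mem_zpowers_iff.1 (hnd.2 ⟨_, hgQ⟩ (mem_top _) fun q _ =>
        Subtype.ext (Subtype.ext (h _ ⟨q, q.2, rfl⟩).eq))
      exact mem_zpowers_iff.2 ⟨k, by simpa [ι] using congrArg ι hk⟩
    a := fun i => ι (a i)
    b := fun i => ι (b i)
    ha' := fun i => ⟨a i, (a i).2, rfl⟩
    hb' := fun i => ⟨b i, (b i).2, rfl⟩
    hab := fun i => by rw [← map_commutatorElement, hab]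
    haa := fun i j => (haa i j).map ι
    hbb := fun i j => (hbb i j).map ι
    hne := fun i j h => (hne i j h).map ι }, hzQ, rfl⟩

/-- The data from the hypotheses. -/
theorem exists_data_of_hyp (Z : Subgroup G) (hZ : Nat.card Z = 3)
    (hQ : Cfsg.IsExtraspecial 3 ↥(Cfsg.generalizedFittingSubgroup ↥(centralizer (Z : Set G))))
    (hQcard : Nat.card ↥(Cfsg.generalizedFittingSubgroup ↥(centralizer (Z : Set G))) = 3 ^ 9)
    [hQn : (Cfsg.generalizedFittingSubgroup ↥(centralizer (Z : Set G))).Normal]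
    (hexp : ∀ x ∈ Cfsg.generalizedFittingSubgroup ↥(centralizer (Z : Set G)), x ^ 3 = 1)
    {P₂ : Subgroup (↥(centralizer (Z : Set G)) ⧸ Cfsg.generalizedFittingSubgroup ↥(centralizer (Z : Set G)))}
    [hP₂n : P₂.Normal] (hR : Cfsg.IsExtraspecial 2 ↥P₂) (hRcard : Nat.card ↥P₂ = 2 ^ 7)
    (hRminus : ∀ A : Subgroup ↥P₂, Cfsg.IsElementaryAbelian 2 A → Nat.card ↥A ≤ 2 ^ 3)
    (hTop : ∃ (K : Type) (_ : Field K) (_ : Fintype K) (x : Cfsg.PSp 2 K), Fintype.card K = 3 ∧ orderOf x = 3 ∧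
      (∃ P : Sylow 3 (Cfsg.PSp 2 K), (P : Subgroup (Cfsg.PSp 2 K)) ≤ centralizer ({x} : Set (Cfsg.PSp 2 K))) ∧
      Nonempty (((↥(centralizer (Z : Set G)) ⧸ Cfsg.generalizedFittingSubgroup ↥(centralizer (Z : Set G))) ⧸ P₂) ≃*
        ↥(centralizer ({x} : Set (Cfsg.PSp 2 K))))) :
    ∃ D : Data G, zpowers D.z = Z := by
  classical
  haveI : Fact (Nat.Prime 3) := ⟨Nat.prime_three⟩
  obtain ⟨K, iK, iK', x, hK, hx, hP, ⟨eT⟩⟩ := hTop
  have h648 := top_cent_dvd hK hx hP
  obtain ⟨F, hFz, hFQ⟩ := exists_frame Z hZ hQ hQcard hexp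
  set H := centralizer (Z : Set G) with hH
  set Q := Cfsg.generalizedFittingSubgroup ↥H
  have hmem : ∀ g : G, g ∈ H ↔ Commute g F.z := mem_cent_iff hFz
  have hQmem : ∀ u : H, (u : G) ∈ F.Q ↔ u ∈ Q := fun u => by
    rw [hFQ]; exact mem_map_iff_mem H.subtype_injective
  -- the complement
  set P := P₂.comap (QuotientGroup.mk' Q) with hPdef
  have hQP : Q ≤ P := fun u hu => mem_comap.2 (by
    rw [QuotientGroup.mk'_apply, (QuotientGroup.eq_one_iff u).2 hu]; exact one_mem _)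
  let φ : P →* P₂ := ((QuotientGroup.mk' Q).comp P.subtype).codRestrict P₂ fun u => u.2
  have hφ : Function.Surjective φ := fun v => by
    obtain ⟨u, hu⟩ := QuotientGroup.mk'_surjective Q (v : H ⧸ Q)
    exact ⟨⟨u, mem_comap.2 (hu ▸ v.2)⟩, Subtype.ext hu⟩
  have hkφ : φ.ker = Q.subgroupOf P := by
    ext u
    rw [MonoidHom.mem_ker, mem_subgroupOf, Subtype.ext_iff]
    exact QuotientGroup.eq_one_iff (u : H)
  set QP := Q.subgroupOf P
  haveI : QP.Normal := normal_subgroupOf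
  have hQPc : Nat.card QP = 3 ^ 9 := by rw [Nat.card_congr (subgroupOfEquivOfLe hQP).toEquiv, hQcard]
  have hidx : QP.index = 2 ^ 7 := by
    rw [← hkφ, index_ker, MonoidHom.range_eq_top.2 hφ, card_top, hRcard]
  obtain ⟨C, hC⟩ := exists_right_complement'_of_coprime (N := QP) (by rw [hidx, hQPc]; norm_num)
  let ψ : C →* P₂ := φ.comp C.subtype
  have hψ : Function.Bijective ψ := by
    constructor
    · refine (injective_iff_map_eq_one ψ).2 fun c hc => Subtype.ext ?_
      exact hC.disjoint.le_bot ⟨hkφ.le hc, c.2⟩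
    · intro v
      obtain ⟨u, rfl⟩ := hφ v
      obtain ⟨⟨⟨a, ha⟩, c⟩, e⟩ := hC.2 u
      refine ⟨c, ?_⟩
      show φ (c : P) = φ u
      rw [← e, map_mul, show φ a = 1 from MonoidHom.mem_ker.1 (hkφ.ge ha), one_mul]
  set R2 := (C.map P.subtype).map H.subtype with hR2
  let eR : C ≃* R2 := (C.equivMapOfInjective P.subtype P.subtype_injective).trans
    ((C.map P.subtype).equivMapOfInjective H.subtype H.subtype_injective)
  obtain ⟨qf0⟩ := exists_qframe hR hRcard hRminus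
  have hR2H : ∀ r ∈ R2, ∃ u ∈ P, (u : G) = r := by
    rintro _ ⟨u, ⟨c, -, rfl⟩, rfl⟩; exact ⟨c, c.2, rfl⟩
  have hdec : ∀ u ∈ P, ∃ r ∈ R2, r⁻¹ * (u : G) ∈ F.Q := by
    intro u hu
    obtain ⟨⟨⟨a, ha⟩, ⟨c, hc⟩⟩, e⟩ := hC.2 ⟨u, hu⟩
    refine ⟨((c : H) : G), ⟨c, ⟨c, hc, rfl⟩, rfl⟩, ?_⟩
    have hu' : u = (a : H) * c := (congrArg Subtype.val e).symm
    rw [hu', ← Subgroup.coe_inv, ← Subgroup.coe_mul, hQmem]
    simpa [mul_assoc] using hQn.conj_mem _ (mem_subgroupOf.1 ha) (c : H)⁻¹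
  let S : Quot F :=
    { R2 := R2
      qf := qf0.transport ((MulEquiv.ofBijective ψ hψ).symm.trans eR)
      card := by rw [← Nat.card_congr eR.toEquiv, Nat.card_congr (Equiv.ofBijective ψ hψ), hRcard]; norm_num
      comm_z := fun r hr => by obtain ⟨u, -, rfl⟩ := hR2H r hr; exact (hmem u).1 u.2
      normal := fun g hg r hr => by
        obtain ⟨u, hu, rfl⟩ := hR2H r hr
        exact hdec _ ((inferInstance : P.Normal).conj_mem u hu ⟨g, (hmem g).2 hg⟩) }
  obtain ⟨F1, S1, e1, hS1, hQ1, hz1, hR1, -, -, -⟩ := S.exists_std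
  have hmem1 : ∀ g : G, g ∈ H ↔ Commute g F1.z := mem_cent_iff (hz1.trans hFz)
  -- the action on the classes and the top group
  let π : centralizer ({F1.z} : Set G) →* (H ⧸ Q) ⧸ P₂ := ((QuotientGroup.mk' P₂).comp (QuotientGroup.mk' Q)).comp
    (Subgroup.inclusion (fun g hg => (hmem1 g).2 (mem_centralizer_singleton_iff.1 hg)))
  have hπs : Function.Surjective π := fun v => by
    obtain ⟨w, rfl⟩ := QuotientGroup.mk'_surjective P₂ v
    obtain ⟨u, rfl⟩ := QuotientGroup.mk'_surjective Q w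
    exact ⟨⟨u, mem_centralizer_singleton_iff.2 ((hmem1 u).1 u.2).eq⟩, rfl⟩
  have hker : (S1.mu hS1).ker = π.ker := by
    ext g
    have hgH : (g : G) ∈ H := (hmem1 _).2 (mem_centralizer_singleton_iff.1 g.2)
    rw [MonoidHom.mem_ker, MonoidHom.mem_ker, S1.mu_eq_one hS1]
    have hπ : π g = 1 ↔ (⟨(g : G), hgH⟩ : H) ∈ P := by
      rw [hPdef, mem_comap]; exact QuotientGroup.eq_one_iff _
    rw [hπ]
    constructor
    · rintro ⟨⟨r, hr⟩, hq⟩
      obtain ⟨u, hu, rfl⟩ := hR2H r (hR1.le hr)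
      have hm : u⁻¹ * ⟨(g : G), hgH⟩ ∈ Q := (hQmem _).1 (hQ1 ▸ hq)
      simpa using P.mul_mem hu (hQP hm)
    · intro hg
      obtain ⟨r, hr, hq⟩ := hdec _ hg
      exact ⟨⟨r, hR1.ge hr⟩, hQ1.ge hq⟩
  set T := (S1.mu hS1).range with hT
  have hTc : Nat.card T = Nat.card (centralizer ({x} : Set (Cfsg.PSp 2 K))) := by
    rw [hT, ← index_ker, hker, index_ker, MonoidHom.range_eq_top.2 hπs, card_top, Nat.card_congr eT.toEquiv]
  have hTle : T ≤ Iso6 := by rintro _ ⟨g, rfl⟩; exact S1.mu_mem hS1 g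
  have hcen : ∃ c ∈ T, orderOf c = 3 ∧ ∀ y ∈ T, Commute c y := by
    set t := eT.symm ⟨x, mem_centralizer_singleton_iff.2 rfl⟩ with ht
    obtain ⟨u, hu⟩ := hπs t
    have hone : ∀ w, S1.mu hS1 w = 1 ↔ π w = 1 := fun w => by
      rw [← MonoidHom.mem_ker, hker, MonoidHom.mem_ker]
    have ht3 : orderOf t = 3 := by rw [ht, MulEquiv.orderOf_eq, Subgroup.orderOf_mk, hx]
    have htc : ∀ v, Commute t v := fun v => by
      refine eT.injective ?_
      rw [map_mul, map_mul, ht, eT.apply_symm_apply]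
      exact Subtype.ext (mem_centralizer_singleton_iff.1 (eT v).2).symm
    refine ⟨_, ⟨u, rfl⟩, ?_, ?_⟩
    · refine orderOf_eq_prime ?_ ?_
      · rw [← map_pow, hone, map_pow, hu, ← ht3, pow_orderOf_eq_one]
      · rw [Ne, hone, hu, ← orderOf_eq_one_iff, ht3]; norm_num
    · rintro _ ⟨v, rfl⟩
      rw [← commutatorElement_eq_one_iff_commute, ← map_commutatorElement, hone, map_commutatorElement, hu,
        commutatorElement_eq_one_iff_commute]
      exact htc _
  obtain ⟨h, hh, hconj⟩ := exists_conj_CZ hTle (hTc ▸ h648) hcen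
  have hcard : Nat.card CZ = 648 := le_antisymm card_CZ (by
    rw [← hconj, card_map_of_injective (MulAut.conj h).injective]
    exact Nat.le_of_dvd Nat.card_pos (hTc ▸ h648))
  -- the pairs moved by the conjugating isometry
  obtain ⟨qf', -, hcls⟩ := S1.qf.exists_twist h hh
  let S1' : Quot F1 := { S1 with qf := qf' }
  obtain ⟨F2, S2, e, hS2, hQ2, hz2, hR2', hez, heAB, he⟩ := S1'.exists_std
  have hcz : ∀ g, Commute g F2.z ↔ Commute g F1.z := fun g =>
    (mem_cent_iff hz2 g).symm.trans (mem_cent_iff rfl g)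
  have hcls2 : ∀ r, S2.qf.cls r = h (S1.qf.cls (e r)) := fun r => by
    rw [← hcls]
    have hσ : ∀ a b, S2.qf.σ a b = qf'.σ (e a) (e b) := fun a b => by
      unfold QF.σ
      exact if_congr ⟨fun c => c.map e, fun c => by simpa using c.map e.symm⟩ rfl rfl
    funext i
    show (S2.qf.σ r (S2.qf.B i), S2.qf.σ r (S2.qf.A i)) = (qf'.σ (e r) (qf'.B i), qf'.σ (e r) (qf'.A i))
    rw [hσ, hσ, (heAB i).1, (heAB i).2]
  have key : ∀ (g : G) (h1 : Commute g F1.z) (h2 : Commute g F2.z) (u : W6),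
      S2.muFun g h2 u = h (S1.muFun g h1 ((h⁻¹ : Equiv.Perm W6) u)) := fun g h1 h2 u => by
    set r := S2.qf.el u with hr
    have hu : S1.qf.cls (e r) = (h⁻¹ : Equiv.Perm W6) u := by
      refine h.injective ?_
      rw [← hcls2, hr, S2.qf.cls_el, Equiv.Perm.coe_inv, Equiv.apply_symm_apply]
    have hee : e (S2.conjR g h2 r) = S1.conjR g h1 (e r) := by
      refine Subtype.ext ?_
      rw [he]
      have q1 : ((S2.conjR g h2 r : G))⁻¹ * (g * r * g⁻¹) ∈ F1.Q := hQ2 ▸ S2.conjR_spec g h2 r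
      have q2 := S1.conjR_spec g h1 (e r)
      rw [he] at q2
      refine eq_of_inv_mul_eq_one (S1.inf_Q (mul_mem (inv_mem (hR2' ▸ (S2.conjR g h2 r).2 : _ ∈ S1.R2)) (S1.conjR g h1 (e r)).2) ?_)
      have := F1.Q.mul_mem q1 (F1.Q.inv_mem q2)
      simpa [mul_assoc] using this
    show S2.qf.cls (S2.conjR g h2 r) = _
    rw [hcls2, hee, S1.cls_conjR hS1 g h1, hu]
  have hrange : (S2.mu hS2).range = CZ := by
    rw [← hconj]
    ext y
    constructor
    · rintro ⟨g, rfl⟩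
      have g2 : Commute (g : G) F2.z := mem_centralizer_singleton_iff.1 g.2
      refine ⟨_, ⟨⟨g, mem_centralizer_singleton_iff.2 ((hcz _).1 g2).eq⟩, rfl⟩, Equiv.ext fun u => ?_⟩
      exact (key g ((hcz _).1 g2) g2 u).symm
    · rintro ⟨_, ⟨g, rfl⟩, rfl⟩
      have g1 : Commute (g : G) F1.z := mem_centralizer_singleton_iff.1 g.2
      refine ⟨⟨g, mem_centralizer_singleton_iff.2 ((hcz _).2 g1).eq⟩, Equiv.ext fun u => ?_⟩
      exact key g g1 ((hcz _).2 g1) u
  obtain ⟨D, -, hDz⟩ := S2.exists_data hS2 hrange hcard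
  exact ⟨D, by rw [hDz, hz2, hz1, hFz]⟩

end Cfsg.Lib.Fi23Three
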