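import Cfsg.Agent.Lib.Fi23Three.Cover

/-!
# A point centralised by an involution inducing the swap
-/

set_option autoImplicit false
set_option linter.unusedSectionVars false

namespace Cfsg.Lib.Fi23Three

open scoped commutatorElement

namespace Data

variable {G : Type*} [Group G] [Finite G] (D : Data G)

/-- The matrix is induced by an element of the centraliser. -/
def Lifted (M : M8) : Prop := ∃ g, Commute g D.z ∧ ∀ v, D.toFrame.act g v = ev M v

theorem lifted_one : D.Lifted one8 :=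
  ⟨1, Commute.one_left _, fun v => by rw [D.toFrame.act_one, ev_one8]⟩

variable {D} in
theorem Lifted.mul {M N : M8} (hM : D.Lifted M) (hN : D.Lifted N) : D.Lifted (mmul M N) := by
  obtain ⟨g, hg, eg⟩ := hM
  obtain ⟨h, hh, eh⟩ := hN
  exact ⟨g * h, hg.mul_left hh, fun v => by rw [D.toFrame.act_mul hg hh, eh, eg, ev_mmul]⟩

theorem lifted_gl (i : Fin 10) : D.Lifted (gl i) := D.lift _ _ (glp_mem i) (symp_gl i) (tw_gl i)

theorem lifted_wmat : ∀ w : List (Fin 10), D.Lifted (wmat w)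
  | [] => D.lifted_one
  | i :: w => (D.lifted_gl i).mul (lifted_wmat w)

theorem lifted_SW : D.Lifted SW := D.lift _ _ swp_mem symp_SW tw_SW

/-- An involution centralising `z` centralises what it fixes modulo the centre. -/
theorem commute_of_fix {τ q : G} (hτ : τ * τ = 1) (hz : Commute τ D.z) (hq : q ∈ D.Q)
    (h : D.toFrame.act τ (D.toFrame.vec q) = D.toFrame.vec q) : Commute τ q := by
  have hm : ⁅τ, q⁆ ∈ D.toFrame.Zc := by
    rw [D.toFrame.mem_Zc_iff (D.toFrame.vec_comm hz hq).1, (D.toFrame.vec_comm hz hq).2, h, sub_self]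
  have h1 : τ * ⁅τ, q⁆ * τ⁻¹ = ⁅τ, q⁆ := D.toFrame.conj_Zc hz hm
  have h2 : τ * ⁅τ, q⁆ * τ⁻¹ = ⁅τ, q⁆⁻¹ := by
    rw [commutatorElement_def, inv_eq_of_mul_eq_one_right hτ]
    calc τ * (τ * q * τ * q⁻¹) * τ = (τ * τ) * q * τ * q⁻¹ * τ := by group
      _ = q * τ * q⁻¹ * τ := by rw [hτ, one_mul]
      _ = (τ * q * τ * q⁻¹)⁻¹ := by rw [mul_inv_rev, mul_inv_rev, mul_inv_rev, inv_inv, inv_eq_of_mul_eq_one_right hτ]; group
  have h3 : ⁅τ, q⁆ ^ 2 = 1 := by
    rw [pow_two]; nth_rewrite 1 [← h1, h2]; exact inv_mul_cancel _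
  refine commutatorElement_eq_one_iff_commute.1 ?_
  calc ⁅τ, q⁆ = ⁅τ, q⁆ ^ 3 * (⁅τ, q⁆ ^ 2)⁻¹ := by group
    _ = 1 := by rw [D.toFrame.cube_Zc hm, h3]; simp

/-- A point may be chosen centralised by an involution inducing the swap. -/
theorem exists_tau {g : G} (hg : D.IsPt g) : ∃ g' τ : G, D.IsPt g' ∧ τ * τ = 1 ∧ τ ≠ 1 ∧ Commute τ D.z ∧
    Commute τ (g' * D.z * g'⁻¹) ∧ ∀ v, D.toFrame.act τ v = ev SW v := by
  obtain ⟨hgQ, hgZ⟩ := hg
  obtain ⟨w, -, hw⟩ := exists_word (D.toFrame.vec (g * D.z * g⁻¹))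
  obtain ⟨c, hc, ec⟩ := D.lifted_wmat w
  obtain ⟨s, hs, es⟩ := D.lifted_SW
  have hy : (c * g) * D.z * (c * g)⁻¹ = c * (g * D.z * g⁻¹) * c⁻¹ := by group
  have hyQ : (c * g) * D.z * (c * g)⁻¹ ∈ D.Q := hy ▸ D.norm_Q c hc _ hgQ
  have hyZ : (c * g) * D.z * (c * g)⁻¹ ∉ D.toFrame.Zc := fun h => hgZ (by
    have h' := D.toFrame.conj_Zc hc.inv_left h
    rw [hy, inv_inv, show c⁻¹ * (c * (g * D.z * g⁻¹) * c⁻¹) * c = g * D.z * g⁻¹ by group] at h'
    exact h' ▸ hy ▸ h)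
  have hss : s * s ∈ D.Q := D.toFrame.mem_Q_of_act (hs.mul_left hs) fun v => by
    rw [D.toFrame.act_mul hs hs, es, es, SW_sq]
  have h6 : s ^ 3 * s ^ 3 = 1 := by
    rw [← D.cube_Q _ hss]
    simp only [← pow_two, ← pow_mul]
  have eτ : ∀ v, D.toFrame.act (s ^ 3) v = ev SW v := fun v => by
    rw [show s ^ 3 = s * (s * s) by simp only [pow_succ, pow_zero, one_mul, mul_assoc], D.toFrame.act_mul hs (hs.mul_left hs), D.toFrame.act_Q hss, es]
  refine ⟨c * g, s ^ 3, ⟨hyQ, hyZ⟩, h6, fun e => ?_, hs.pow_left 3, ?_, eτ⟩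
  · have := eτ (bas 2)
    rw [e, D.toFrame.act_one] at this
    exact SW_ne this.symm
  · refine D.commute_of_fix h6 (hs.pow_left 3) hyQ ?_
    rw [eτ, hy, D.toFrame.vec_conj hc hgQ, ec]
    exact hw

end Data

end Cfsg.Lib.Fi23Three
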