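import Cfsg.Agent.Lib.Fi23Three.Std

/-!
# The action of `C(z)` on the quotient of `O₂`, and the data
-/

set_option autoImplicit false
set_option linter.unusedSectionVars false
set_option linter.style.haveILetI false
set_option maxRecDepth 4000

namespace Cfsg.Lib.Fi23Three

open Subgroup
open scoped commutatorElement

variable {G : Type*} [Group G] [Finite G]

theorem ev_pow1 (M : M8) (c : ZMod 2) (v : V) : ev (pow1 M c) v = if c = 1 then ev M v else v := by
  unfold pow1; split_ifs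
  · rfl
  · exact ev_one8 v

theorem sgn_cases : ∀ d : ZMod 2, ((-1 : ZMod 3) ^ d.val) * ((-1 : ZMod 3) ^ d.val) = 1 := by decide

theorem sgn_facts : ((-1 : ZMod 3) ^ (0 : ZMod 2).val = 1) ∧ ((-1 : ZMod 3) ^ (1 : ZMod 2).val = -1) ∧
    ∀ a b : ZMod 2, (-1 : ZMod 3) ^ a.val * (-1) ^ b.val = (-1) ^ (a + b).val := by decide

theorem zmod3_sign : ∀ c : ZMod 3, c ≠ 0 → ∃ d : ZMod 2, c = (-1) ^ d.val := by decide

namespace Quot

variable {F : Frame G} (S : Quot F) (hS : S.IsStd)

include hS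

/-- The section acts by the matrices. -/
theorem op_el (u : W6) (v : V) : S.op (S.qf.el u) v = rho u v := by
  have hA : ∀ i (c : ZMod 2) w, S.op (S.qf.A i ^ c.val) w = ev (pow1 (RA i) c) w := fun i c w => by
    rw [op_mem_zero, ev_pow1, (hS i w).1]
  have hB : ∀ i (c : ZMod 2) w, S.op (S.qf.B i ^ c.val) w = ev (pow1 (RB i) c) w := fun i c w => by
    rw [op_mem_zero, ev_pow1, (hS i w).2]
  rw [rho, rhoM, QF.el]
  simp only [op_mul, ev_mmul, hA, hB]

theorem op_zpow (c : ZMod 2) (v : V) : S.op (S.qf.z ^ c.val) v = ((-1 : ZMod 3) ^ c.val) • v := by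
  rcases zmod2_cases c with rfl | rfl
  · rw [sgn_facts.1, one_smul, show ((0 : ZMod 2)).val = 0 from rfl, pow_zero, op_one]
  · rw [sgn_facts.2.1, neg_one_smul, ZMod.val_one, pow_one, op_z]

/-- An element acts as a signed matrix of its class. -/
theorem op_eq (r : S.R2) : ∃ c : ZMod 3, c ≠ 0 ∧ ∀ v, S.op r v = c • rho (S.qf.cls r) v := by
  obtain ⟨d, hd⟩ := S.qf.exists_el r
  refine ⟨(-1) ^ d.val, pow_ne_zero _ (by decide), fun v => ?_⟩
  conv_lhs => rw [hd]
  rw [op_mul, S.op_el hS, S.op_zpow hS]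

theorem rho_unique {u w : W6} {c : ZMod 3} (hc : c ≠ 0) (h : ∀ v, rho u v = c • rho w v) : u = w := by
  obtain ⟨d, rfl⟩ := zmod3_sign c hc
  have he : S.qf.el u = S.qf.z ^ d.val * S.qf.el w := S.op_inj fun v => by
    rw [op_mul, S.op_el hS, S.op_zpow hS, S.op_el hS, h]
  have h2 := congrArg S.qf.cls he
  rwa [S.qf.cls_mul, S.qf.cls_el, S.qf.cls_el, S.qf.cls_pow, S.qf.cls_z, smul_zero, zero_add] at h2

/-- The signs of the commutations. -/
theorem rho_comm (u w : W6) (v : V) : rho u (rho w v) = ((-1 : ZMod 3) ^ (pol6 u w).val) • rho w (rho u v) := by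
  have h := congrArg (fun x => S.op x v) (S.qf.comm_eq (S.qf.el u) (S.qf.el w))
  rw [S.qf.σ_eq_pol, S.qf.cls_el, S.qf.cls_el] at h
  simpa only [op_mul, S.op_el hS, S.op_zpow hS] using h

omit hS in
/-- The element of the complement below a conjugate. -/
noncomputable def conjR (g : G) (hg : Commute g F.z) (r : S.R2) : S.R2 :=
  ⟨(S.normal g hg r r.2).choose, (S.normal g hg r r.2).choose_spec.1⟩

omit hS in
theorem conjR_spec (g : G) (hg : Commute g F.z) (r : S.R2) :
    ((S.conjR g hg r : G))⁻¹ * (g * r * g⁻¹) ∈ F.Q := (S.normal g hg r r.2).choose_spec.2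

omit hS in
theorem act_conjR (g : G) (hg : Commute g F.z) (r : S.R2) (v : V) :
    F.act g (S.op r v) = S.op (S.conjR g hg r) (F.act g v) := by
  have hq := S.conjR_spec g hg r
  set r' := S.conjR g hg r
  have e : g * (r : G) = (r' : G) * (((r' : G))⁻¹ * (g * r * g⁻¹)) * g := by group
  show F.act g (F.act r v) = F.act r' (F.act g v)
  rw [← F.act_mul hg (S.cz r), e, F.act_mul ((S.cz r').mul_left (F.comm_z _ hq)) hg,
    F.act_mul (S.cz r') (F.comm_z _ hq), F.act_Q hq]

/-- The induced map on the classes. -/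
noncomputable def muFun (g : G) (hg : Commute g F.z) (u : W6) : W6 := S.qf.cls (S.conjR g hg (S.qf.el u))

theorem tw_muFun (g : G) (hg : Commute g F.z) : Tw (F.act g) (S.muFun g hg) := fun u => by
  obtain ⟨c, hc, h⟩ := S.op_eq hS (S.conjR g hg (S.qf.el u))
  exact ⟨c, hc, fun v => by rw [← S.op_el hS, S.act_conjR g hg, h]; rfl⟩

theorem tw_unique {f : V → V} (hf : Function.Surjective f) {h h' : W6 → W6} (h1 : Tw f h) (h2 : Tw f h') : h = h' := by
  funext u
  obtain ⟨c, hc, e1⟩ := h1 u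
  obtain ⟨d, hd, e2⟩ := h2 u
  refine S.rho_unique hS (c := c⁻¹ * d) (by simp [hc, hd]) fun w => ?_
  obtain ⟨v, rfl⟩ := hf w
  rw [mul_smul, ← e2, e1, inv_smul_smul₀ hc]

theorem conjR_mul (g : G) (hg : Commute g F.z) (r s : S.R2) : S.conjR g hg (r * s) = S.conjR g hg r * S.conjR g hg s :=
  S.op_inj fun v => by
    obtain ⟨w, rfl⟩ := F.act_surjective hg v
    rw [← S.act_conjR g hg, op_mul, S.act_conjR g hg, S.act_conjR g hg, op_mul]

theorem conjR_z (g : G) (hg : Commute g F.z) : S.conjR g hg S.qf.z = S.qf.z :=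
  S.op_inj fun v => by
    obtain ⟨w, rfl⟩ := F.act_surjective hg v
    rw [← S.act_conjR g hg, op_z, op_z, F.act_neg hg]

omit hS in
theorem tw_comp {f k : V → V} {h j : W6 → W6} (hk : ∀ (c : ZMod 3) v, f (c • v) = c • f v) (h1 : Tw f h) (h2 : Tw k j) :
    Tw (fun v => f (k v)) (fun u => h (j u)) := fun u => by
  obtain ⟨d, hd, e2⟩ := h2 u
  obtain ⟨c, hc, e1⟩ := h1 (j u)
  exact ⟨d * c, mul_ne_zero hd hc, fun v => by show f (k _) = _; rw [e2, hk, e1, mul_smul]⟩

theorem muFun_mul (g k : G) (hg : Commute g F.z) (hk : Commute k F.z) :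
    S.muFun (g * k) (hg.mul_left hk) = fun u => S.muFun g hg (S.muFun k hk u) := by
  refine S.tw_unique hS (F.act_surjective (hg.mul_left hk)) (S.tw_muFun hS _ _) ?_
  have h := tw_comp (fun c v => F.act_smul hg c v) (S.tw_muFun hS g hg) (S.tw_muFun hS k hk)
  exact (funext fun v => F.act_mul hg hk v : F.act (g * k) = fun v => F.act g (F.act k v)) ▸ h

theorem muFun_one : S.muFun 1 (Commute.one_left _) = id :=
  S.tw_unique hS (F.act_surjective (Commute.one_left _)) (S.tw_muFun hS _ _)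
    fun u => ⟨1, one_ne_zero, fun v => by rw [F.act_one, F.act_one, one_smul]; rfl⟩

theorem muFun_eq_one (g : G) (hg : Commute g F.z) (h : g = 1) : S.muFun g hg = id := by
  subst h; exact S.muFun_one hS

/-- The induced permutation. -/
noncomputable def muPerm (g : centralizer ({F.z} : Set G)) : Equiv.Perm W6 :=
  have hg : Commute (g : G) F.z := mem_centralizer_singleton_iff.1 g.2
  { toFun := S.muFun g hg
    invFun := S.muFun (g : G)⁻¹ hg.inv_left
    left_inv := fun u => (congrFun ((S.muFun_mul hS _ _ hg.inv_left hg).symm.trans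
      (S.muFun_eq_one hS _ _ (inv_mul_cancel _))) u)
    right_inv := fun u => (congrFun ((S.muFun_mul hS _ _ hg hg.inv_left).symm.trans
      (S.muFun_eq_one hS _ _ (mul_inv_cancel _))) u) }

/-- The action of the centraliser on the classes. -/
noncomputable def mu : centralizer ({F.z} : Set G) →* Equiv.Perm W6 :=
  MonoidHom.mk' (S.muPerm hS) fun g k => Equiv.ext fun u =>
    congrFun (S.muFun_mul hS g k (mem_centralizer_singleton_iff.1 g.2) (mem_centralizer_singleton_iff.1 k.2)) u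

theorem tw_mu (g : centralizer ({F.z} : Set G)) : Tw (F.act g) (S.mu hS g) :=
  S.tw_muFun hS _ (mem_centralizer_singleton_iff.1 g.2)

/-- The classes of the conjugates. -/
theorem cls_conjR (g : G) (hg : Commute g F.z) (r : S.R2) : S.qf.cls (S.conjR g hg r) = S.muFun g hg (S.qf.cls r) := by
  obtain ⟨c, hc⟩ := S.qf.exists_el r
  have hp : S.conjR g hg (S.qf.z ^ c.val) = S.qf.z ^ c.val := by
    rcases zmod2_cases c with rfl | rfl
    · have h := S.conjR_mul hS g hg 1 1
      rw [one_mul] at h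
      rw [show ((0 : ZMod 2)).val = 0 from rfl, pow_zero]
      exact left_eq_mul.1 h
    · rw [ZMod.val_one, pow_one, S.conjR_z hS]
  conv_lhs => rw [hc, S.conjR_mul hS, hp, S.qf.cls_mul, S.qf.cls_pow, S.qf.cls_z, smul_zero, zero_add]
  rfl

theorem mu_mem (g : centralizer ({F.z} : Set G)) : S.mu hS g ∈ Iso6 := by
  have hg : Commute (g : G) F.z := mem_centralizer_singleton_iff.1 g.2
  have hkey := S.cls_conjR hS g hg
  refine ⟨fun u v => ?_, fun u => ?_⟩
  · show S.muFun g hg (u + v) = S.muFun g hg u + S.muFun g hg v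
    conv_lhs => rw [← S.qf.cls_el u, ← S.qf.cls_el v, ← S.qf.cls_mul, ← hkey, S.conjR_mul hS, S.qf.cls_mul]
    rfl
  · show q6 (S.muFun g hg u) = q6 u
    conv_rhs => rw [← S.qf.cls_el u, ← S.qf.sqc_q6]
    show q6 (S.qf.cls _) = _
    rw [← S.qf.sqc_q6]
    refine S.qf.sqc_eq ?_
    rw [← S.conjR_mul hS, S.qf.sq_eq]
    rcases zmod2_cases (S.qf.sqc (S.qf.el u)) with e | e <;> rw [e]
    · have h := S.conjR_mul hS g hg 1 1
      rw [one_mul] at h
      rw [show ((0 : ZMod 2)).val = 0 from rfl, pow_zero]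
      exact left_eq_mul.1 h
    · rw [ZMod.val_one, pow_one, S.conjR_z hS]

/-- What commutes with the matrices up to sign is the action of an element of the complement. -/
theorem exists_of_commute (C : V →+ V) (hω : ∀ u v, ω (C u) (C v) = ω u v) (hC : Tw C id) :
    ∃ r : S.R2, ∀ v, C v = S.op r v := by
  have hc : ∀ u, ∃ d : ZMod 2, ∀ v, C (rho u v) = ((-1 : ZMod 3) ^ d.val) • rho u (C v) := fun u => by
    obtain ⟨c, hc, h⟩ := hC u
    obtain ⟨d, rfl⟩ := zmod3_sign c hc
    exact ⟨d, h⟩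
  choose d hd using hc
  set w : W6 := fun i => (d (Pi.single i (0, 1)), d (Pi.single i (1, 0)))
  have hw : ∀ i, pol6 w (Pi.single i (1, 0)) = (w i).2 ∧ pol6 w (Pi.single i (0, 1)) = (w i).1 := by
    generalize w = x
    revert x
    decide +kernel
  let C' : V →+ V := AddMonoidHom.mk' (fun v => rho w (C v)) fun a b => by rw [map_add, rho, ev_add]; rfl
  have hsm : ∀ (c : ZMod 3) u v, rho u (c • v) = c • rho u v := fun c u v => ev_smul _ c v
  have hkey : ∀ u, pol6 w u = d u → ∀ v, C' (rho u v) = rho u (C' v) := fun u hu v => by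
    show rho w (C (rho u v)) = rho u (rho w (C v))
    rw [hd, hsm, S.rho_comm hS w u, hu, smul_smul, sgn_cases, one_smul]
  have hA : ∀ i v, ev (RA i) v = rho (Pi.single i (1, 0)) v ∧ ev (RB i) v = rho (Pi.single i (0, 1)) v := fun i v => by
    constructor
    · rw [← (hS i v).1]
      obtain ⟨c, hc⟩ := S.qf.exists_el (S.qf.A i)
      have : S.qf.A i = S.qf.el (Pi.single i (1, 0)) := by
        simp only [QF.el]
        obtain rfl | rfl | rfl := (show ∀ i : Fin 3, i = 0 ∨ i = 1 ∨ i = 2 by decide) i <;> simp [ZMod.val_one]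
      rw [this, S.op_el hS]
    · rw [← (hS i v).2]
      have : S.qf.B i = S.qf.el (Pi.single i (0, 1)) := by
        simp only [QF.el]
        obtain rfl | rfl | rfl := (show ∀ i : Fin 3, i = 0 ∨ i = 1 ∨ i = 2 by decide) i <;> simp [ZMod.val_one]
      rw [this, S.op_el hS]
  obtain ⟨c, hc⟩ := scalar_of_commute C' (fun i v => by rw [(hA i v).1, (hA i _).1]; exact hkey _ (hw i).1 v)
    (fun i v => by rw [(hA i v).2, (hA i _).2]; exact hkey _ (hw i).2 v)
  have hc2 : c * c = 1 := by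
    have h1 : ∀ a b, ω (C' a) (C' b) = ω a b := fun a b => by
      show ω (rho w (C a)) (rho w (C b)) = _
      rw [← S.op_el hS, ← S.op_el hS]
      exact (F.act_form (S.cz _) _ _).trans (hω a b)
    have h := h1 (Pi.single 0 (1, 0)) (Pi.single 0 (0, 1))
    rw [hc, hc, ω_smul_left, ω_smul_right, ω_single_left, Pi.single_eq_same] at h
    simpa [pl] using h
  obtain ⟨e, rfl⟩ := zmod3_sign c (fun h => by rw [h, zero_mul] at hc2; exact zero_ne_one hc2)
  refine ⟨(S.qf.el w)⁻¹ * S.qf.z ^ e.val, fun v => ?_⟩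
  rw [op_mul, S.op_zpow hS, ← hc]
  show _ = S.op _ (rho w (C v))
  rw [← S.op_el hS, ← op_mul, inv_mul_cancel, op_one]

theorem mu_eq_one (g : centralizer ({F.z} : Set G)) : S.mu hS g = 1 ↔ ∃ r : S.R2, ((r : G))⁻¹ * g ∈ F.Q := by
  have hg : Commute (g : G) F.z := mem_centralizer_singleton_iff.1 g.2
  constructor
  · intro h
    have ht := S.tw_mu hS g
    rw [h] at ht
    obtain ⟨r, hr⟩ := S.exists_of_commute hS (F.actHom hg) (F.act_form hg) ht
    refine ⟨r, F.mem_Q_of_act ((S.cz r).inv_left.mul_left hg) fun v => ?_⟩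
    rw [F.act_mul (S.cz r).inv_left hg, show F.act (g : G) v = F.act r v from hr v, F.act_inv_cancel (S.cz r)]
  · rintro ⟨r, hr⟩
    refine Equiv.ext (congrFun (S.tw_unique hS (F.act_surjective hg) (S.tw_mu hS g) ?_))
    intro u
    refine ⟨_, pow_ne_zero ((pol6 (S.qf.cls r) u).val) (by decide : (-1 : ZMod 3) ≠ 0), fun v => ?_⟩
    obtain ⟨c, hc, he⟩ := S.op_eq hS r
    have hgr : ∀ x, F.act (g : G) x = S.op r x := fun x => by
      rw [show (g : G) = r * ((r : G)⁻¹ * g) by group, F.act_mul (S.cz r) (F.comm_z _ hr), F.act_Q hr]; rfl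
    rw [hgr, hgr, he, he, S.rho_comm hS, show rho ((1 : Equiv.Perm W6) u) (c • rho (S.qf.cls r) v) = c • rho u (rho (S.qf.cls r) v)
      from ev_smul _ c _, smul_comm]

theorem card_ker : Nat.card (S.mu hS).ker = 3 ^ 9 * 128 := by
  let f : F.Q × S.R2 → (S.mu hS).ker := fun p =>
    ⟨⟨p.2 * p.1, mem_centralizer_singleton_iff.2 ((S.cz p.2).mul_left (F.comm_z _ p.1.2)).eq⟩,
      MonoidHom.mem_ker.2 ((S.mu_eq_one hS _).2 ⟨p.2, by simp⟩)⟩
  have hf : Function.Bijective f := by
    constructor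
    · intro p p' h
      have e : (p.2 : G) * p.1 = p'.2 * p'.1 := congrArg (fun x : (S.mu hS).ker => ((x : centralizer ({F.z} : Set G)) : G)) h
      have e2 : ((p'.2 : G))⁻¹ * p.2 = p'.1 * (p.1 : G)⁻¹ := by
        rw [eq_mul_inv_iff_mul_eq, mul_assoc, e]; group
      have h1 : p.2 = p'.2 := Subtype.ext (eq_of_inv_mul_eq_one
        (S.inf_Q (mul_mem (inv_mem p'.2.2) p.2.2) (e2 ▸ mul_mem p'.1.2 (inv_mem p.1.2)))).symm
      rw [h1] at e
      exact Prod.ext (Subtype.ext (mul_left_cancel e)) h1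
    · rintro ⟨g, hg⟩
      obtain ⟨r, hr⟩ := (S.mu_eq_one hS g).1 (MonoidHom.mem_ker.1 hg)
      exact ⟨(⟨_, hr⟩, r), Subtype.ext (Subtype.ext (by simp [f]))⟩
  rw [← Nat.card_congr (Equiv.ofBijective f hf), Nat.card_prod, F.card_Q, S.card]; norm_num

/-- The data, once the image is the centraliser of `zeta6`. -/
theorem exists_data (hT : (S.mu hS).range = CZ) (hcard : Nat.card CZ = 648) :
    ∃ D : Data G, D.Q = F.Q ∧ D.z = F.z := by
  refine ⟨{ toFrame := F, card_H := ?_, lift := fun M h hh hM hTw => ?_, top := fun g hg => ?_ }, rfl, rfl⟩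
  · rw [← Subgroup.card_mul_index (S.mu hS).ker, index_ker, hT, hcard, S.card_ker hS]
  · obtain ⟨g, hgh⟩ : h ∈ (S.mu hS).range := hT ▸ hh
    have hg : Commute (g : G) F.z := mem_centralizer_singleton_iff.1 g.2
    have hω : ∀ a b, ω (F.act (g : G)⁻¹ (ev M a)) (F.act (g : G)⁻¹ (ev M b)) = ω a b := fun a b => by
      rw [F.act_form hg.inv_left, ω_ev hM]
    let C : V →+ V := (F.actHom hg.inv_left).comp (evHom M)
    have hC : Tw C id := by
      intro u
      obtain ⟨c, hc, e⟩ := hTw u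
      obtain ⟨d, hd, e'⟩ := S.tw_mu hS g u
      rw [hgh] at e'
      refine ⟨c * d⁻¹, mul_ne_zero hc (inv_ne_zero hd), fun v => F.act_injective hg ?_⟩
      show F.act g (F.act (g : G)⁻¹ (ev M (rho u v))) = F.act g ((c * d⁻¹) • rho u (F.act (g : G)⁻¹ (ev M v)))
      rw [F.act_cancel_inv hg, e, F.act_smul hg, e', F.act_cancel_inv hg, mul_smul, inv_smul_smul₀ hd]
    obtain ⟨r, hr⟩ := S.exists_of_commute hS C hω hC
    refine ⟨g * r, hg.mul_left (S.cz r), fun v => ?_⟩
    show F.act (g * r) v = _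
    rw [F.act_mul hg (S.cz r), show F.act (r : G) v = C v from (hr v).symm]
    exact F.act_cancel_inv hg _
  · exact ⟨S.mu hS ⟨g, mem_centralizer_singleton_iff.2 hg.eq⟩, hT ▸ ⟨_, rfl⟩,
      S.tw_mu hS ⟨g, mem_centralizer_singleton_iff.2 hg.eq⟩⟩

end Quot

end Cfsg.Lib.Fi23Three
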